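import Cfsg.Agent.Lib.Leech.Co2

/-! Simplicity of the first two Conway groups. -/

set_option autoImplicit false
set_option linter.unusedSectionVars false
set_option linter.unusedVariables false

namespace Cfsg.Agent.Leech

open Cfsg.Agent.Spor Cfsg.Agent.PC Finset MulAction
open scoped Pointwise symmDiff commutatorElement

theorem sgn_pm (d : gC) {x : L} (hx : (x : V) ∈ stdCross) : sgn d • x = x ∨ sgn d • x = -x := by
  obtain ⟨a, s, -, e⟩ := hx
  by_cases h : a ∈ d.1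
  · refine Or.inr (Subtype.ext (funext fun i => ?_))
    rw [sgn_apply, AddSubgroup.coe_neg, Pi.neg_apply, e, Pi.single_apply]
    split_ifs with p q
    · rfl
    · rfl
    · subst_vars; contradiction
    · rfl
  · refine Or.inl (Subtype.ext (funext fun i => ?_))
    rw [sgn_apply, e, Pi.single_apply]
    split_ifs with p q
    · subst_vars; contradiction
    all_goals rfl

theorem conj_ne {g : Co0} {q : L} (hq : sqNorm (q : V) = 64) (h : cl (g • q : L) = cl (e8 none)) {c d : gC} {σ : M24}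
    (e : g * sgn c * g⁻¹ = mono σ d) {i j : GolayPt} (hi : i ∈ c.1) (hj : j ∉ c.1) (h1 : q.1 i ≠ 0) (h2 : q.1 j ≠ 0) :
    σ ≠ 1 := by
  rintro rfl
  have := sgn_pm d (mem_std ((norm_smul _ _).trans hq) h)
  rw [sgn, ← e, mul_smul, mul_smul, inv_smul_smul, ← smul_neg, smul_left_cancel_iff, smul_left_cancel_iff] at this
  have a := sgn_apply c q i
  have b := sgn_apply c q j
  rw [if_pos hi] at a
  rw [if_neg hj] at b
  rcases this with e | e <;> rw [e] at a b
  · omega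
  · rw [AddSubgroup.coe_neg, Pi.neg_apply] at b; omega

theorem sgn_K2 {c : gC} (ha : pa ∉ c.1) (hb : pb ∉ c.1) : sgn c ∈ K2 := mono_fix0 rfl rfl ha hb X0_eq

def Q4 : L := ⟨bv 4 (bset 3592) ∅, (⟨empty_mem_gC, by decide +kernel, by decide +kernel⟩ : LS _ 0 ∅).lat⟩

theorem H2_le {D : Subgroup Co0} (h1 : ∀ c : gC, pa ∉ c.1 → pb ∉ c.1 → sgn c ∈ D)
    (h2 : ∀ g ∈ K2, ∀ a ∈ D, g * a * g⁻¹ ∈ D) : K2 ⊓ Nstd ≤ D := by
  obtain ⟨g, g1, g2⟩ := to_XY X0 (S2 (gp 12) (gp 14) 4 4) nX0 (nS2 (by decide) _) (by decide +kernel)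
  have k : ∀ c : gC, pa ∉ c.1 → pb ∉ c.1 → g * sgn c * g⁻¹ ∈ D ∧ (g * sgn c * g⁻¹) • X0 = X0 ∧
      (g * sgn c * g⁻¹) • Y0 = g • sgn c • S2 (gp 12) (gp 14) 4 4 := fun c a b =>
    ⟨h2 g g1 _ (h1 c a b), mul_mem (mul_mem g1 (sgn_K2 a b)) (inv_mem g1), by rw [← g2, mul_smul, mul_smul, inv_smul_smul]⟩
  have p : ∀ σ c, mono σ c ∈ K2 → mono σ c ∈ D → prm σ ∈ D := fun σ c a b => by
    rw [mono_eq] at b
    exact (mul_mem_cancel_left (h1 c (mono_X0 a).1 (mono_X0 a).2.1)).1 b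
  have a : M22s ≤ D.comap prmH := by
    have : IsSimpleGroup M22s := simple22
    have hn : ((D.comap prmH).subgroupOf M22s).Normal := ⟨fun n hn s => by
      change prmH (s.1 * n.1 * s.1⁻¹) ∈ D
      rw [map_mul, map_mul, map_inv]
      exact h2 _ (prm_fix s.2.1 s.2.2 X0_eq) _ hn⟩
    refine Subgroup.subgroupOf_eq_top.1 ((hn.eq_bot_or_eq_top).resolve_left fun e => ?_)
    let c : gC := ⟨bset 6062602, (bset_mem_gC (by decide)).2 (by decide +kernel)⟩
    obtain ⟨k1, k2, k3⟩ := k c (by decide) (by decide)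
    rw [show sgn c • S2 (gp 12) (gp 14) 4 4 = S2 (gp 12) (gp 14) 4 4 from
      Subtype.ext (funext fun i => by rw [sgn_apply]; revert i; decide +kernel), g2] at k3
    have a : (g * sgn c * g⁻¹) • E8 pa = E8 pa := by rw [← XaY, smul_add, k2, k3]
    have b : (g * sgn c * g⁻¹) • E8 pb = E8 pb := by rw [← XsY, smul_sub, k2, k3]
    obtain ⟨σ, d, e'⟩ := mem_N_of_E8 a
    rw [e'] at a b k1 k2
    have s : σ ∈ M22s := ⟨(mono_E8 a).1, (mono_E8 b).1⟩
    have z : (⟨σ, s⟩ : M22s) ∈ (D.comap prmH).subgroupOf M22s := p σ d k2 k1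
    rw [e, Subgroup.mem_bot, Subtype.ext_iff] at z
    refine conj_ne (q := Q4) (by decide +kernel) ?_ e' (i := gp 3) (j := gp 10) (by decide) (by decide) (by decide) (by decide) z
    have : cl Q4 = cl (X0 + S2 (gp 12) (gp 14) 4 4 : L) := cl_eq.2 ⟨bv 2 (bset (3592 + 8409089)) (bset 8409089),
      (⟨(bset_mem_gC (by decide)).2 (by decide +kernel), by decide +kernel, by decide +kernel⟩ :
        LS _ 0 (bset (3592 + 8409089))).lat, by decide +kernel⟩
    rw [cl_smul g this, smul_add, g1, g2, XaY]; rfl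
  obtain ⟨τ, t1, t2, t3⟩ : ∃ τ : M24, τ • pa = pb ∧ τ • pb = pa ∧ prm τ ∈ D := by
    let c : gC := ⟨bset 4845570, (bset_mem_gC (by decide)).2 (by decide +kernel)⟩
    obtain ⟨k1, k2, k3⟩ := k c (by decide) (by decide)
    rw [show sgn c • S2 (gp 12) (gp 14) 4 4 = -S2 (gp 12) (gp 14) 4 4 from
      Subtype.ext (funext fun i => by rw [sgn_apply]; revert i; decide +kernel), smul_neg, g2] at k3
    obtain ⟨σ, d, e'⟩ := mem_Nstd_iff.1 ((mem_N_iff k2).2 (Or.inr k3))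
    rw [e'] at k1 k2 k3
    obtain ⟨q1, q2, q | q⟩ := mono_X0 k2
    · rw [mono_fix0 q.1 q.2 q1 q2 Y0_eq] at k3
      exact absurd (congrFun (congrArg Subtype.val k3) pa) (by decide)
    · exact ⟨σ, q.1, q.2, p σ d k2 k1⟩
  rintro x ⟨x1, x2⟩
  obtain ⟨ρ, e, rfl⟩ := mem_Nstd_iff.1 x2
  obtain ⟨q1, q2, q⟩ := mono_X0 x1
  rw [mono_eq]
  refine mul_mem (h1 e q1 q2) ?_
  rcases q with q | q
  · exact a q
  · have := a (show τ * ρ ∈ M22s from ⟨(mul_smul _ _ _).trans (by rw [q.1, t2]), (mul_smul _ _ _).trans (by rw [q.2, t1])⟩)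
    rw [Subgroup.mem_comap, map_mul] at this
    exact (mul_mem_cancel_left t3).1 this

theorem K2_top (M : Subgroup K2) [hM : M.Normal] (h : ∀ c : gC, pa ∉ c.1 → pb ∉ c.1 → sgn c ∈ M.map K2.subtype) : M = ⊤ := by
  have a := H2_le h fun g hg => by
    rintro _ ⟨a, ha, rfl⟩
    exact ⟨_, hM.conj_mem a ha ⟨g, hg⟩, rfl⟩
  have b : H2 ≤ M := fun x hx => by
    obtain ⟨y, hy, e⟩ := a ⟨x.2, hx⟩
    exact Subtype.ext e ▸ hy
  refine (H2_coatom.le_iff.1 b).resolve_right fun e => ?_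
  obtain ⟨τ, t1, t2⟩ := exists_swap
  have t : prm τ ∈ K2 := prm_swap t1 t2 X0_eq X0_eq
  have : (⟨prm τ, t⟩ : K2) ∈ H2.normalCore := Subgroup.normal_le_normalCore.2 e.le (b (mono_mem _ _))
  rw [H2_core, Subgroup.mem_bot] at this
  rw [prmH_inj ((congrArg Subtype.val this).trans (map_one prmH).symm), one_smul] at t1
  exact pab t1

def Smin : Set L := {x | sqNorm (x : V) = 32}

theorem orbit_min : orbit Co0 X0 = Smin :=
  Set.ext fun y => ⟨by rintro ⟨g, rfl⟩; exact (norm_smul _ _).trans nX0, fun h => trans32 _ _ nX0 h⟩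

theorem card_min : Smin.ncard = 196560 := (ncard_L fun x => sqNorm x = 32).trans count32

theorem K2_simple : IsSimpleGroup K2 ∧ Nat.card K2 = 42305421312000 := by
  refine ⟨simple_of_iwasawa (A := Esub.subgroupOf K2) H2_coatom H2_core (fun a ha b hb => Subtype.ext (Esub_comm _ ha _ hb))
    (fun h hh a ha => Esub_conj _ hh _ ha) (K2_top _ fun c ha hb => ⟨⟨_, sgn_K2 ha hb⟩,
      Subgroup.subset_normalClosure ⟨c, rfl⟩, rfl⟩) (K2_top _ (sgn_good fun σ hσ c ha hb => ?_)), ?_⟩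
  · exact ⟨⁅⟨_, sgn_K2 ha hb⟩, ⟨prm σ, prm_fix hσ.1 hσ.2 X0_eq⟩⁆,
      Subgroup.commutator_mem_commutator (Subgroup.mem_top _) (Subgroup.mem_top _), rfl⟩
  · have := K2.index_mul_card
    rw [K2, index_stabilizer, orbit_min, card_min, card_Co0] at this
    unfold K2; omega

theorem orbit_cls {G X : Type*} [Group G] [MulAction G X] {x : X} {H L : Subgroup G} (hL : H ≤ L) (O : X → ℕ) (K : Finset ℕ)
    (s : ℕ → ℕ) {S : Set X} (hfin : S.Finite) (horb : orbit L x ⊆ S) (hO : ∀ y ∈ S, O y ∈ K)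
    (hconj : ∀ y ∈ S, ∀ z ∈ S, O y = O z → ∃ a ∈ H, a • y = z) (hs : ∀ k ∈ K, {y | y ∈ S ∧ O y = k}.ncard = s k) :
    ∃ A ∈ K.powerset, O x ∈ A ∧ orbit L x = {y | y ∈ S ∧ O y ∈ A} ∧ (orbit L x).ncard = ∑ k ∈ A, s k := by
  classical
  have hx := horb (mem_orbit_self x)
  let A := K.filter fun k => ∃ y ∈ S, O y = k ∧ y ∈ orbit L x
  have hKo : orbit L x = {y | y ∈ S ∧ O y ∈ A} := by
    ext y
    refine ⟨fun h => ⟨horb h, mem_filter.mpr ⟨hO _ (horb h), _, horb h, rfl, h⟩⟩, ?_⟩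
    rintro ⟨hy, h1⟩
    obtain ⟨-, c, hc, h2, ⟨a, h3⟩⟩ := mem_filter.mp h1
    obtain ⟨b, hb, h4⟩ := hconj c hc y hy h2
    refine ⟨⟨b, hL hb⟩ * a, ?_⟩
    simp only at h3 ⊢
    rw [mul_smul, h3]; exact h4
  refine ⟨A, mem_powerset.mpr (filter_subset _ _), mem_filter.mpr ⟨hO x hx, x, hx, rfl, mem_orbit_self _⟩, hKo, ?_⟩
  rw [hKo]
  refine ncard_classes O A s (hfin.subset fun y hy => hy.1) (fun y hy => hy.2) fun k hk => ?_
  rw [← hs k (mem_filter.1 hk).1]
  congr 1; ext y; exact ⟨fun h => ⟨h.1.1, h.2⟩, fun h => ⟨⟨h.1, h.2 ▸ hk⟩, h.2⟩⟩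

def sT (k : ℕ) : ℕ := if k = 0 then 1104 else if k = 1 then 97152 else 98304

def PT (k : ℕ) (t : ℤ) : Prop := (k = 0 ∧ t % 4 = 0) ∨ (k = 1 ∧ t % 2 = 0 ∧ t ≠ 4 ∧ t ≠ -4) ∨ (k = 2 ∧ t % 2 = 1)

instance (k : ℕ) : DecidablePred (PT k) := fun t => by unfold PT; infer_instance

theorem ty_iff {x : L} (hx : x ∈ Smin) (k : ℕ) : ty x = k ↔ ∀ i, PT k (x.1 i) := by
  unfold PT
  rcases shape32 x.2 hx with ⟨s, p, q⟩ | ⟨s, p, q⟩ | ⟨s, q⟩
  · obtain ⟨i, hi⟩ : s.Nonempty := card_pos.1 (by omega)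
    rw [ty_A q]
    exact ⟨fun e j => by have := q.cases j; omega, fun e => by have := q.pos hi; have := e i; omega⟩
  · obtain ⟨i, hi⟩ : s.Nonempty := card_pos.1 (by rw [(mem_octads.1 p).2]; decide)
    rw [ty_B p q]
    exact ⟨fun e j => by have := q.cases j; omega, fun e => by have := q.pos hi; have := e i; omega⟩
  · rw [ty_C q]
    exact ⟨fun e j => by have := q.cases j; omega, fun e => by have := q.cases s; have := e s; omega⟩

theorem cntT : ∀ k ∈ ({0, 1, 2} : Finset ℕ), {y | y ∈ Smin ∧ ty y.1 = k}.ncard = sT k := fun k hk => by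
  have : ∀ k ∈ ({0, 1, 2} : Finset ℕ), (GG (fun t => if PT k t then t.natAbs ^ 2 else 32 + 1)
      (fun t => if PT k t then t.natAbs ^ 2 else 32 + 1) (fun t => if PT k t then t.natAbs ^ 2 else 32 + 1) / 2).toNat /
      (2 ^ 70) ^ 32 % 2 ^ 70 = sT k := by decide +kernel
  rw [← this k hk, ← count_all (PT k) 32 (by decide), ← ncard_L fun x => sqNorm x = (32 : ℕ) ∧ ∀ i, PT k (x i)]
  congr 1; ext y; exact and_congr_right fun h => ty_iff h k

theorem ty_mem (y : L) : ty y.1 ∈ ({0, 1, 2} : Finset ℕ) := by unfold ty; split_ifs <;> decide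

theorem conjT (y : L) (hy : y ∈ Smin) (z : L) (hz : z ∈ Smin) (h : ty y.1 = ty z.1) : ∃ a ∈ Nstd, a • y = z :=
  let ⟨σ, c, _, e⟩ := conjJ hy hz (J := ∅) (by decide) (by simp) h; ⟨_, mono_mem σ c, e⟩

theorem tyX0 : ty X0.1 = 0 := (ty_iff nX0 0).2 (by decide +kernel)

theorem top_of_K2 {H : Subgroup Co0} (h1 : Nstd ≤ H) (h2 : K2 ≤ H) : H = ⊤ := by
  refine eq_top_iff.2 fun g _ => ?_
  obtain ⟨y, hy, e⟩ : ∃ y ∈ Sp, ty y.1 = ty (g • X0 : L) := by
    have := ty_mem (g • X0)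
    simp only [mem_insert, mem_singleton] at this
    rcases this with e | e | e
    · obtain ⟨y, hy, h⟩ := exists_P 0 (by decide); exact ⟨y, hy, by have := clsP hy; omega⟩
    · obtain ⟨y, hy, h⟩ := exists_P 8 (by decide); exact ⟨y, hy, by have := clsP hy; omega⟩
    · obtain ⟨y, hy, h⟩ := exists_P 1 (by decide); exact ⟨y, hy, by have := clsP hy; omega⟩
  obtain ⟨n, hn, e1⟩ := conjT y hy.1 _ ((norm_smul g _).trans nX0) e
  obtain ⟨m, hm, e2⟩ := conjT X0 nX0 Y0 nY0 (by have := clsP Y0_P; have := oY; have := tyX0; omega)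
  obtain ⟨a, e3⟩ := orbitP.ge hy
  change a.1 • Y0 = y at e3
  have : g⁻¹ * (n * a * m) ∈ K2 := by
    change _ • X0 = X0
    rw [mul_smul, mul_smul, mul_smul, e2, e3, e1, inv_smul_smul]
  exact inv_mem_iff.1 ((mul_mem_cancel_right (mul_mem (mul_mem (h1 hn) (h2 a.2)) (h1 hm))).1 (h2 this))

theorem N_coatom : IsCoatom Nstd := by
  refine ⟨fun e => by have := index_Nstd_eq; rw [e, Subgroup.index_top] at this; omega, fun H hH => ?_⟩
  rcases H2_coatom.le_iff.1 (show H2 ≤ H.subgroupOf K2 from fun x hx => hH.le hx) with e | e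
  · exact top_of_K2 hH.le (Subgroup.subgroupOf_eq_top.1 e)
  exfalso
  have k : ∀ M : Subgroup Co0, orbit M X0 ⊆ Smin := fun M => by rintro _ ⟨g, rfl⟩; exact (norm_smul _ _).trans nX0
  have e' : H ⊓ stabilizer Co0 X0 = Nstd ⊓ stabilizer Co0 X0 :=
    le_antisymm (fun x hx => ⟨(e.le (show ⟨x, hx.2⟩ ∈ H.subgroupOf K2 from hx.1) : ⟨x, hx.2⟩ ∈ H2), hx.2⟩)
      (inf_le_inf_right _ hH.le)
  have a := card_of_orbit (K := Nstd) (x := X0) (S := {y | y ∈ Smin ∧ ty y.1 = 0}) (orbit_eq_of (fun a ha => by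
    obtain ⟨σ, c, rfl⟩ := mem_Nstd_iff.1 ha
    exact ⟨(norm_smul _ _).trans nX0, (ty_mono _ _ _).trans tyX0⟩) fun y hy => conjT _ nX0 _ hy.1 (tyX0.trans hy.2.symm))
  obtain ⟨A, h1, h2, -, h3⟩ := orbit_cls hH.le (fun y : L => ty y.1) {0, 1, 2} sT finL32 (k H) (fun y _ => ty_mem y) conjT cntT
  have b := card_of_orbit (K := H) (x := X0) rfl
  rw [cntT 0 (by decide), card_Nstd] at a
  have c : Nat.card ↥(Nstd ⊓ stabilizer Co0 X0) = 908328960 := by unfold sT at a; simp only [if_true] at a; omega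
  have d1 := Subgroup.card_dvd_of_le hH.le
  have d2 := H.card_subgroup_dvd_card
  have d3 : Nat.card Nstd ≠ Nat.card H := fun e => hH.ne (Subgroup.eq_of_le_of_card_ge hH.le e.ge)
  rw [b, h3, e', c, card_Nstd] at d1 d3
  rw [b, h3, e', c, card_Co0] at d2
  rw [tyX0] at h2
  clear h3
  revert A
  decide +kernel

theorem top_of_normal {M : Subgroup Co0} [hM : M.Normal] (h : ∀ c : gC, pa ∉ c.1 → pb ∉ c.1 → sgn c ∈ M) : M = ⊤ := by
  have h2 : K2 ≤ M := Subgroup.subgroupOf_eq_top.1 (K2_top _ fun c ha hb => ⟨⟨_, sgn_K2 ha hb⟩, h c ha hb, rfl⟩)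
  refine top_of_K2 (fun x hx => ?_) h2
  obtain ⟨σ, c, rfl⟩ := mem_Nstd_iff.1 hx
  have k : ∀ c : gC, c.1.card ≤ 16 → sgn c ∈ M := fun c hc => by
    obtain ⟨i, hi, j, hj, n⟩ := one_lt_card.1 (show 1 < c.1ᶜ.card by rw [card_compl, card_golayPt]; omega)
    obtain ⟨a, ha⟩ := to_X0 _ (nS2 n (s := 4) (t := 4) (by decide))
    refine (hM.mem_comm_iff (a := a * sgn c) (b := a⁻¹)).1 (h2 ?_) |> fun e => by simpa using e
    rw [K2, ← ha, ← mem_stab_conj]
    refine Subtype.ext (funext fun k => ?_)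
    rw [sgn_apply, S2_apply]
    split_ifs with p q r
    · exact absurd (q ▸ p) (mem_compl.1 hi)
    · exact absurd (q ▸ p) (mem_compl.1 hi)
    · subst_vars; exact absurd p (mem_compl.1 hj)
    all_goals rfl
  rw [mono_eq]
  refine mul_mem ?_ ?_
  · by_cases e : c.1.card ≤ 16
    · exact k c e
    have o : bset 4845570 ∈ gC := (bset_mem_gC (by decide)).2 (by decide +kernel)
    have p : (bset 4845570).card = 8 := by rw [card_bset]; decide +kernel
    have := mul_mem (k ⟨_, o⟩ (by rw [p]; decide)) (k ⟨_, compl_mem_gC o⟩ (by rw [card_compl, p]; decide))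
    rw [sgn_mul] at this
    convert this using 2
    have := card_of_mem_gC c.2
    exact Subtype.ext (((card_eq_iff_eq_univ _).1 (by rw [card_golayPt]; omega)).trans (symmDiff_compl_self _).symm)
  · have := simple24
    obtain ⟨τ, t1, t2⟩ := exists_swap
    rcases (hM.comap prmH).eq_bot_or_eq_top with e | e
    · have : τ ∈ M.comap prmH := h2 (prm_swap t1 t2 X0_eq X0_eq)
      rw [e, Subgroup.mem_bot] at this
      rw [this, one_smul] at t1
      exact absurd t1 pab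
    · exact (e ▸ Subgroup.mem_top σ : σ ∈ M.comap prmH)

theorem center_of_pm {g : Co0} (hg : g ∈ Nstd) (h : ∀ v ∈ Smin, g • v = v ∨ g • v = -v) : g ∈ Subgroup.center Co0 := by
  obtain ⟨σ, c, rfl⟩ := mem_Nstd_iff.1 hg
  obtain ⟨h1, h2⟩ := mono_diag (σ := σ) (c := c) (J := ∅) (by decide) fun i j _ _ n => h _ (nS2 n _)
  obtain rfl := eq_one22 fun i _ => h1 i (notMem_empty _)
  rw [mem_center_iff]
  by_cases e : pa ∈ c.1
  · exact Or.inr (congrArg _ (Subtype.ext (eq_univ_of_forall fun i => (h2 _ (notMem_empty _) _ (notMem_empty _)).1 e)))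
  · exact Or.inl ((congrArg _ (Subtype.ext (eq_empty_of_forall_notMem fun i hi =>
      e ((h2 _ (notMem_empty _) _ (notMem_empty _)).1 hi)))).trans sgn_empty)

theorem pm_of_cl {g : Co0} {v : L} (hv : v ∈ Smin) (h : cl (g • v : L) = cl v) : g • v = v ∨ g • v = -v := by
  refine or_iff_not_imp_left.2 fun n => ?_
  have := (norm_smul g v).trans hv
  have : sqNorm (v : V) = 32 := hv
  rcases congr_short (g • v).2 v.2 (fun e => n (Subtype.ext e)) (by omega) (by omega) (cl_eq.1 h) with e | e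
  · exact Subtype.ext e
  · omega

theorem le_center {M : Subgroup Co0} [hM : M.Normal] (h : M ≤ Nstd) : M ≤ Subgroup.center Co0 := by
  have a : ∀ g ∈ M, ∀ p : L, sqNorm (p : V) = 64 → cl (g • p : L) = cl p := fun g hg p hp => by
    obtain ⟨a, ha⟩ := exists_std p hp
    have b := (mem_Nstd_cl none).1 (h (hM.conj_mem g hg a))
    have c := cl_smul (a * g * a⁻¹) (v := a • p) (w := E8 none) ha
    have d := cl_smul a⁻¹ (c.trans (b.trans ha.symm))
    rwa [mul_smul, mul_smul, inv_smul_smul, inv_smul_smul] at d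
  have b : ∀ g ∈ M, cl (g • X0 : L) = cl X0 := fun g hg => by
    have : X0 = (S2 pa (gp 1) 4 4 + S2 (gp 2) (gp 3) 4 4) - (S2 pb (gp 1) (-4) 4 + S2 (gp 2) (gp 3) 4 4) :=
      Subtype.ext (by decide +kernel)
    rw [this, smul_sub, AddSubgroup.coe_sub, AddSubgroup.coe_sub, map_sub, map_sub, a g hg _ (by decide +kernel),
      a g hg _ (by decide +kernel)]
  refine fun g hg => center_of_pm (h hg) fun v hv => ?_
  obtain ⟨a, ha⟩ := to_X0 v hv
  have := pm_of_cl nX0 (b _ (hM.conj_mem g hg a))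
  rwa [← ha, mul_smul, mul_smul, inv_smul_smul, ← smul_neg, smul_left_cancel_iff, smul_left_cancel_iff] at this

theorem comm_top : commutator Co0 = ⊤ := top_of_normal (sgn_good fun σ hσ c ha hb =>
  Subgroup.commutator_mem_commutator (Subgroup.mem_top _) (Subgroup.mem_top _))

theorem normal_Co0 (M : Subgroup Co0) (hM : M.Normal) : M ≤ Subgroup.center Co0 ∨ M = ⊤ := by
  by_cases h : M ≤ Nstd
  · exact Or.inl (le_center h)
  · exact Or.inr (top_le_iff.1 (comm_top ▸ iwasawa_le N_coatom Esub_comm Esub_conj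
      (top_of_normal fun c _ _ => Subgroup.subset_normalClosure ⟨c, rfl⟩) h))

theorem Co1_simple : IsSimpleGroup (Co0 ⧸ Subgroup.center Co0) ∧
    Nat.card (Co0 ⧸ Subgroup.center Co0) = 4157776806543360000 := by
  have := (Subgroup.center Co0).index_mul_card
  rw [card_center, card_Co0, Subgroup.index] at this
  refine ⟨simple_quot (fun e => ?_) normal_Co0, by omega⟩
  have a := card_center
  rw [e, Subgroup.card_top, card_Co0] at a
  omega

end Cfsg.Agent.Leech
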