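import Cfsg.Agent.Lib.Leech.Form

/-! The stabilisers of triangles of type 233 and 223. -/

set_option autoImplicit false
set_option linter.unusedSectionVars false
set_option linter.unusedVariables false

namespace Cfsg.Agent.Leech

open Cfsg.Agent.Spor Cfsg.Agent.PC Finset MulAction
open scoped Pointwise symmDiff

theorem ncard_classes {X : Type*} (O : X → ℕ) (K : Finset ℕ) (s : ℕ → ℕ) {S : Set X} (hfin : S.Finite)
    (hO : ∀ y ∈ S, O y ∈ K) (hs : ∀ k ∈ K, {y | y ∈ S ∧ O y = k}.ncard = s k) : S.ncard = ∑ k ∈ K, s k := by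
  classical
  rw [Set.ncard_eq_toFinset_card _ hfin, card_eq_sum_card_fiberwise (f := O) (t := K) fun d hd => hO d (by simpa using hd)]
  refine sum_congr rfl fun k hk => ?_
  rw [← hs k hk, ← Set.ncard_coe_finset]
  congr 1
  ext y; simp

theorem orbit_conj {G X : Type*} [Group G] [MulAction G X] (g : G) {A B : Subgroup G} (h : ∀ a, a ∈ A ↔ g * a * g⁻¹ ∈ B)
    (y : X) : orbit A y = {z | g • z ∈ orbit B (g • y)} := by
  ext z
  constructor
  · rintro ⟨a, rfl⟩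
    exact ⟨⟨_, (h a).1 a.2⟩, by simp [Subgroup.smul_def, mul_smul]⟩
  · rintro ⟨b, e⟩
    refine ⟨⟨g⁻¹ * b * g, (h _).2 (by simp [mul_assoc])⟩, ?_⟩
    simp only [Subgroup.smul_def, mul_smul] at e ⊢
    rw [e, inv_smul_smul]

theorem eq_v3_zero {x : V} (hn : sqNorm x = x pa ^ 2 + x pb ^ 2) : x = v3 (x pa) (x pb) 0 := by
  have p : ∀ i ∈ univ, 0 ≤ x i ^ 2 - v3 (x pa) (x pb) 0 i ^ 2 := fun i _ => by
    unfold v3
    split_ifs with p q
    · rw [p, sub_self]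
    · rw [q, sub_self]
    · simpa using sq_nonneg (x i)
  have q := (sum_eq_zero_iff_of_nonneg p).1 (by
    rw [sum_sub_distrib]; change sqNorm x - sqNorm (v3 _ _ 0) = 0; rw [hn, sqNorm_v3]; ring)
  refine v3_ext rfl rfl fun i p1 p2 => ?_
  have r := q i (mem_univ i)
  rw [v3_o _ _ _ p1 p2] at r
  simpa using r

theorem eq_of_v3 {x y : L} {a b : ℤ} (hn : sqNorm (x : V) = a ^ 2 + b ^ 2) (ha : x.1 pa = a) (hb : x.1 pb = b)
    (hy : (y : V) = v3 a b 0) : x = y := Subtype.ext (by rw [hy, ← ha, ← hb]; exact eq_v3_zero (by rw [ha, hb, hn]))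

theorem conj_cv0 {x y : L} {p q : GolayPt} {J : Finset GolayPt} (hx : x.1 = cv p ∅) (hy : y.1 = cv q ∅) (h : J.card ≤ 4)
    (hp : p ∉ J) (hq : q ∉ J) : ∃ σ : M24, (∀ j ∈ J, σ • j = j) ∧ prm σ • x = y := by
  obtain ⟨σ, h1, h2⟩ := mapJset (J := J) (s := {p}) (t := {q}) (by rw [card_singleton]; omega) rfl fun j hj => by
    simp only [mem_singleton]; exact ⟨fun e => absurd (e ▸ hj) hp, fun e => absurd (e ▸ hj) hq⟩
  rw [smul_finset_singleton, singleton_inj] at h2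
  exact ⟨σ, h1, prm_cv hx hy h2 (Finset.smul_finset_empty _)⟩

def S100 : Set L := {x | sqNorm (x : V) = 32 ∧ dotInt (U0 : V) x = 24 ∧ dotInt (U1 : V) x = 24}

theorem cls100 {x : L} (h : x ∈ S100) : x.1 pb = x.1 pa ∧ ((x.1 pa = 4 ∧ x = X0) ∨ (x.1 pa = 2 ∧ ∃ o ∈ octads, x.1 = bv 2 o ∅) ∨
    (x.1 pa = 1 ∧ ∃ p, p ≠ pa ∧ p ≠ pb ∧ x.1 = cv p ∅)) := by
  obtain ⟨h1, h2, h3⟩ := h
  rw [dU0] at h2
  rw [dU1] at h3
  refine ⟨by omega, ?_⟩
  rcases form32 h1 with ⟨s, p1, m, p2, e⟩ | ⟨s, p1, m, p2, e⟩ | ⟨p, c, p1, e⟩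
  · have a := sum_bv 4 p2
    have b := bv_cases 4 p2 pa
    rw [← e] at a b
    exact Or.inl ⟨by omega, eq_of_v3 (h1.trans rfl) (by omega) (by omega) X0_eq⟩
  · have a := sum_bv 2 p2
    have b := bv_cases 2 p2 pa
    rw [← e, (mem_octads.1 p1).2] at a
    rw [← e] at b
    obtain rfl : m = ∅ := card_eq_zero.1 (by omega)
    exact Or.inr (Or.inl ⟨by omega, s, p1, e⟩)
  · have a := sum_cv p c
    have b := cv_cases p c pa
    have b' := cv_cases p c pb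
    have d := card_of_mem_gC p1
    have f : p ∈ c → 0 < c.card := fun h => card_pos.2 ⟨p, h⟩
    have g : pa = p → pb ≠ p := fun e e' => pab (e.trans e'.symm)
    rw [← e] at a b b'
    have : x.1 pa = 1 ∧ c.card = 0 ∧ pa ≠ p ∧ pb ≠ p := by
      split_ifs at a with q
      · have := f q
        rcases b with b | b | b | b <;> rcases b' with b' | b' | b' | b' <;> first | omega | exact absurd b'.1 (g b.1)
      · rcases b with b | b | b | b <;> rcases b' with b' | b' | b' | b' <;>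
          first | omega | exact absurd b'.1 (g b.1) | exact ⟨by omega, by omega, b.1, b'.1⟩
    obtain rfl : c = ∅ := card_eq_zero.1 this.2.1
    exact Or.inr (Or.inr ⟨this.1, p, this.2.2.1.symm, this.2.2.2.symm, e⟩)

theorem conj100 {x y : L} (hx : x ∈ S100) (hy : y ∈ S100) (h : x.1 pa = y.1 pa) : ∃ g ∈ M22c, g • x = y := by
  obtain ⟨a1, ⟨a2, a3⟩ | ⟨a2, o, a3, a4⟩ | ⟨a2, p, a3, a4, a5⟩⟩ := cls100 hx <;>
    obtain ⟨b1, ⟨b2, b3⟩ | ⟨b2, o', b3, b4⟩ | ⟨b2, q, b3, b4, b5⟩⟩ := cls100 hy <;> try omega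
  · exact ⟨1, one_mem _, by rw [a3, b3, one_smul]⟩
  · exact of_J (conj_bv a3 b3 (empty_subset _) (empty_subset _) a4 b4 (by simp; omega) (by rw [pair_card]; decide)
      (empty_subset _) (empty_subset _))
  · exact of_J (conj_cv0 a5 b5 (by rw [pair_card]; decide) (by simp [a3, a4]) (by simp [b3, b4]))

theorem dot_le24 {u x : L} (hu : sqNorm (u : V) = 48) (hx : sqNorm (x : V) = 32) : dotInt (u : V) x ≤ 24 := by
  have a := min_norm (u - x).2 fun e => by rw [show u = x from sub_eq_zero.1 (Subtype.ext e)] at hu; omega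
  rw [AddSubgroup.coe_sub, sqNorm_sub] at a; omega

theorem mem_S100 {x : L} : x ∈ S100 ↔ sqNorm (x : V) = 32 ∧ dotInt (v3 6 6 2) x = 48 := by
  refine and_congr_right fun hx => ?_
  have e : v3 6 6 2 = (U0 : V) + U1 := by rw [U0_eq, U1_eq, v3_add]; rfl
  rw [e, dot_comm (_ + _), dot_add, dot_comm _ U0.1, dot_comm _ U1.1]
  have a := dot_le24 nU0 hx
  have b := dot_le24 nU1 hx
  omega

def s100 (k : ℕ) : ℕ := if k = 1 then 22 else if k = 2 then 77 else 1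

theorem cnt100 : ∀ k ∈ ({1, 2, 4} : Finset ℕ), {y | y ∈ S100 ∧ (y.1 pa).toNat = k}.ncard = s100 k := fun k hk => by
  have : ∀ k ∈ ({1, 2, 4} : Finset ℕ), cnt2 6 6 2 (fun t => t.toNat = k) (fun _ => True) (fun _ => True) 19 896 = s100 k := by
    decide +kernel
  rw [← this k hk, ← count2 6 6 2 48 _ _ _ 19 896 (by decide) (by decide) (by decide) (by decide)]
  simp only [mem_S100, and_assoc, implies_true, and_true]

theorem fin100 : S100.Finite := finL32.subset fun x hx => hx.1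

theorem O100 : ∀ y ∈ S100, (y.1 pa).toNat ∈ ({1, 2, 4} : Finset ℕ) := fun y hy => by
  obtain ⟨-, ⟨a, -⟩ | ⟨a, -⟩ | ⟨a, -⟩⟩ := cls100 hy <;> rw [a] <;> decide

theorem card100 : S100.ncard = 100 := ncard_classes _ _ _ fin100 O100 cnt100

def KHS : Subgroup Co0 := stabilizer Co0 U0 ⊓ stabilizer Co0 U1

theorem dUU : dotInt (U0 : V) U1 = 32 := by rw [dU0, U1_eq, sum_v3]; rfl

theorem X0_100 : X0 ∈ S100 := ⟨nX0, by rw [dU0, X0_eq, sum_v3]; rfl, by rw [dU1, X0_eq, sum_v3]; rfl⟩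

theorem smul_100 {g : Co0} (hg : g ∈ KHS) {x : L} (hx : x ∈ S100) : g • x ∈ S100 :=
  ⟨(norm_smul _ _).trans hx.1, (dot_of hg.1 rfl).trans hx.2.1, (dot_of hg.2 rfl).trans hx.2.2⟩

theorem orbit100 : orbit KHS X0 = S100 := orbit_eq_of (fun a ha => smul_100 ha X0_100) fun y hy => by
  obtain ⟨g, h1, h2, h3⟩ := to_233x U0 U1 y nU0 nU1 hy.1 dUU hy.2.1 hy.2.2
  exact ⟨g⁻¹, inv_mem ⟨h1, h2⟩, by rw [← h3, inv_smul_smul]⟩

theorem KHS_stab : KHS ⊓ stabilizer Co0 X0 = M22c := by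
  ext g
  rw [mem_M22c]
  refine ⟨fun ⟨⟨h1, h2⟩, h3⟩ => ⟨h3, ?_, h1⟩, fun ⟨h1, h2, h3⟩ => ⟨⟨h3, ?_⟩, h1⟩⟩
  · rw [← sub_eq_of_eq_add' UY.symm, smul_sub, h1, h2]
  · change g • U1 = U1
    rw [← sub_eq_of_eq_add UY.symm, smul_sub, h3, h2]

theorem of_M22c {K : Subgroup Co0} {x y z : L} (h : K ⊓ stabilizer Co0 x = M22c) (e : ∃ g ∈ M22c, g • y = z) :
    ∃ a ∈ stabilizer K x, a • y = z :=
  let ⟨g, h1, h2⟩ := e; ⟨⟨g, (h.ge h1).1⟩, (h.ge h1).2, h2⟩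

theorem KHS_simple : IsSimpleGroup KHS ∧ Nat.card KHS = 44352000 := by
  refine ⟨simple_pack (fun y : L => (y.1 pa).toNat) {1, 2, 4} s100 fin100 orbit100 O100 (fun y hy z hz e => of_M22c KHS_stab
    (conj100 hy hz ?_)) cnt100 (by decide) (by decide) (k := 1) (by decide) (by decide) (simple_stab_sub KHS_stab) card100
    Nat.prime_five Nat.prime_two (by decide) (by decide) (by decide) fun r hr h => ?_, ?_⟩
  · have a := O100 y hy
    have b := O100 z hz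
    simp only [mem_insert, mem_singleton] at a b; omega
  · have := Nat.le_of_dvd (by decide) h
    revert h hr; revert r; decide +kernel
  · rw [card_of_orbit orbit100, card100, KHS_stab, M22c_simple.2]

/-! ### the triangle of type 223 -/

def S2025 : Set L := {x | sqNorm (x : V) = 32 ∧ dotInt (X0 : V) x = 0 ∧ dotInt (W0 : V) x = 16}

theorem cls2025 {x : L} (h : x ∈ S2025) : x.1 pb = -x.1 pa ∧ ((x.1 pa = 4 ∧ x = Y0) ∨ (x.1 pa = 0 ∧ ∃ o ∈ octads, x.1 = bv 2 o ∅) ∨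
    (x.1 pa = 2 ∧ ∃ o ∈ octads, ∃ e, e ≠ pa ∧ e ≠ pb ∧ pa ∈ o ∧ pb ∈ o ∧ e ∈ o ∧ x.1 = bv 2 o {pb, e}) ∨
    (x.1 pa = 1 ∧ ∃ o ∈ octads, ∃ e, e ≠ pa ∧ e ≠ pb ∧ pa ∉ o ∧ pb ∈ o ∧ e ∈ o ∧ x.1 = cv e o)) := by
  obtain ⟨h1, h2, h3⟩ := h
  rw [dX0] at h2
  rw [dW0] at h3
  refine ⟨by omega, ?_⟩
  rcases form32 h1 with ⟨s, p1, m, p2, e⟩ | ⟨s, p1, m, p2, e⟩ | ⟨p, c, p1, e⟩
  · have a := sum_bv 4 p2
    have b := bv_cases 4 p2 pb
    rw [← e] at a b
    exact Or.inl ⟨by omega, eq_of_v3 (h1.trans rfl) (by omega) (by omega) Y0_eq⟩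
  · have a := sum_bv 2 p2
    have b := bv_cases 2 p2 pa
    have b' := bv_cases 2 p2 pb
    rw [← e, (mem_octads.1 p1).2] at a
    rw [← e] at b b'
    rcases b' with b' | b' | b'
    · have c : (m.erase pb).card = 1 := by rw [card_erase_of_mem b'.2.1]; omega
      obtain ⟨f, hf⟩ := card_eq_one.1 c
      have d := mem_erase.1 (hf ▸ mem_singleton_self f)
      rcases b with b | b | b <;> try omega
      refine Or.inr (Or.inr (Or.inl ⟨b.2.2, s, p1, f, fun e => b.2.1 (e ▸ d.2), d.1, b.1, b'.1, p2 d.2, ?_⟩))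
      rw [e, ← hf, insert_erase b'.2.1]
    · omega
    · obtain rfl : m = ∅ := card_eq_zero.1 (by omega)
      exact Or.inr (Or.inl ⟨by omega, s, p1, e⟩)
  · have a := sum_cv p c
    have b := cv_cases p c pa
    have b' := cv_cases p c pb
    have d := card_of_mem_gC p1
    have f : pa ∈ c → 0 < c.card := fun h => card_pos.2 ⟨_, h⟩
    have g : pa = p → pb ≠ p := fun e e' => pab (e.trans e'.symm)
    rw [← e] at a b b'
    refine Or.inr (Or.inr (Or.inr ?_))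
    split_ifs at a with q
    · rcases b with b | b | b | b <;> rcases b' with b' | b' | b' | b' <;>
        first | omega | exact absurd b'.1 (g b.1) |
          exact ⟨b.2.2, c, mem_octads.2 ⟨p1, by omega⟩, p, b.1.symm, b'.1.symm, b.2.1, b'.2.1, q, e⟩
    · rcases b with b | b | b | b <;> rcases b' with b' | b' | b' | b' <;>
        first | omega | exact absurd b'.1 (g b.1) | (have := f b.2.1; omega)

theorem conj2025 {x y : L} (hx : x ∈ S2025) (hy : y ∈ S2025) (h : x.1 pa = y.1 pa) : ∃ g ∈ M22c, g • x = y := by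
  obtain ⟨a1, ⟨a2, a3⟩ | ⟨a2, o, a3, a4⟩ | ⟨a2, o, a3, e, a4, a5, a6, a7, a8, a9⟩ | ⟨a2, o, a3, e, a4, a5, a6, a7, a8, a9⟩⟩ :=
    cls2025 hx <;>
    obtain ⟨b1, ⟨b2, b3⟩ | ⟨b2, o', b3, b4⟩ | ⟨b2, o', b3, e', b4, b5, b6, b7, b8, b9⟩ |
      ⟨b2, o', b3, e', b4, b5, b6, b7, b8, b9⟩⟩ := cls2025 hy <;> try omega
  · exact ⟨1, one_mem _, by rw [a3, b3, one_smul]⟩
  · exact of_J (conj_bv a3 b3 (empty_subset _) (empty_subset _) a4 b4 (by simp; omega) (by rw [pair_card]; decide)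
      (empty_subset _) (empty_subset _))
  · obtain ⟨σ, h1, h2, h3, h4⟩ := map_pts3 pab a4.symm a5.symm pab b4.symm b5.symm a3 b3 (by simp [*]) (by simp [*]) (by simp [*])
    exact ⟨_, prm_mem h1 h2, prm_bv a9 b9 h4 (by rw [smul_finset_insert, smul_finset_singleton, h2, h3])⟩
  · obtain ⟨σ, h1, h2, h3, h4⟩ := map_pts3 pab a4.symm a5.symm pab b4.symm b5.symm a3 b3 (by simp [*]) (by simp [*]) (by simp [*])
    exact ⟨_, prm_mem h1 h2, prm_cv a9 b9 h3 h4⟩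

def s2025 (k : ℕ) : ℕ := if k = 0 then 330 else if k = 1 then 1232 else if k = 2 then 462 else 1

theorem cnt2025 : ∀ k ∈ ({0, 1, 2, 4} : Finset ℕ), {y | y ∈ S2025 ∧ (y.1 pa).toNat = k}.ncard = s2025 k := fun k hk => by
  have : ∀ k ∈ ({0, 1, 2, 4} : Finset ℕ), cnt2 1 (-3) 1 (fun t => t = k) (fun t => t = -k) (fun _ => True) 7 320 = s2025 k := by
    decide +kernel
  rw [← this k hk, ← count2 1 (-3) 1 16 _ _ _ 7 320 (by decide) (by decide) (by decide) (by decide)]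
  congr 1
  ext y
  simp only [Set.mem_setOf_eq, implies_true, and_true, ← W0_eq]
  refine ⟨fun ⟨h1, h2⟩ => ?_, fun ⟨h1, h2, h3, h4⟩ => ⟨⟨h1, by rw [dX0]; omega, h2⟩, by omega⟩⟩
  obtain ⟨b, ⟨a, -⟩ | ⟨a, -⟩ | ⟨a, -⟩ | ⟨a, -⟩⟩ := cls2025 h1 <;> exact ⟨h1.1, h1.2.2, by omega, by omega⟩

theorem fin2025 : S2025.Finite := finL32.subset fun x hx => hx.1

theorem O2025 : ∀ y ∈ S2025, (y.1 pa).toNat ∈ ({0, 1, 2, 4} : Finset ℕ) ∧ 0 ≤ y.1 pa := fun y hy => by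
  obtain ⟨-, ⟨a, -⟩ | ⟨a, -⟩ | ⟨a, -⟩ | ⟨a, -⟩⟩ := cls2025 hy <;> rw [a] <;> decide

theorem card2025 : S2025.ncard = 2025 := ncard_classes _ _ _ fin2025 (fun y hy => (O2025 y hy).1) cnt2025

def KMc : Subgroup Co0 := stabilizer Co0 X0 ⊓ stabilizer Co0 W0

theorem dXW : dotInt (X0 : V) W0 = -8 := by rw [dX0]; rfl

theorem Y0_2025 : Y0 ∈ S2025 := ⟨nY0, by rw [dX0]; rfl, by rw [dW0, Y0_eq, sum_v3]; rfl⟩

theorem smul_2025 {g : Co0} (hg : g ∈ KMc) {x : L} (hx : x ∈ S2025) : g • x ∈ S2025 :=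
  ⟨(norm_smul _ _).trans hx.1, (dot_of hg.1 rfl).trans hx.2.1, (dot_of hg.2 rfl).trans hx.2.2⟩

theorem orbit2025 : orbit KMc Y0 = S2025 := orbit_eq_of (fun a ha => smul_2025 ha Y0_2025) fun y hy => by
  obtain ⟨g, h1, h2, h3⟩ := to_223x X0 W0 y nX0 nW0 hy.1 dXW hy.2.1 hy.2.2
  exact ⟨g⁻¹, inv_mem ⟨h1, h2⟩, by rw [← h3, inv_smul_smul]⟩

theorem KMc_stab : KMc ⊓ stabilizer Co0 Y0 = M22c := by
  ext g
  rw [mem_M22c]
  refine ⟨fun ⟨⟨h1, h2⟩, h3⟩ => ⟨h1, h3, ?_⟩, fun ⟨h1, h2, h3⟩ => ⟨⟨h1, ?_⟩, h2⟩⟩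
  · rw [← XW, smul_add, h1, h2]
  · change g • W0 = W0
    rw [← sub_eq_of_eq_add' XW.symm, smul_sub, h3, h1]

theorem conj2025' {x y : L} (hx : x ∈ S2025) (hy : y ∈ S2025) (h : (x.1 pa).toNat = (y.1 pa).toNat) : ∃ g ∈ M22c, g • x = y :=
  conj2025 hx hy (by have := (O2025 x hx).2; have := (O2025 y hy).2; omega)

theorem KMc_simple : IsSimpleGroup KMc ∧ Nat.card KMc = 898128000 := by
  refine ⟨simple_pack (fun y : L => (y.1 pa).toNat) {0, 1, 2, 4} s2025 fin2025 orbit2025 (fun y hy => (O2025 y hy).1)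
    (fun y hy z hz e => of_M22c KMc_stab (conj2025' hy hz e)) cnt2025 (by decide) (by decide) (k := 1) (by decide) (by decide)
    (simple_stab_sub KMc_stab) card2025 Nat.prime_five Nat.prime_three (by decide) (by decide) (by decide) fun r hr h => ?_, ?_⟩
  · rcases (Nat.Prime.dvd_mul hr).1 (show r ∣ 5 ^ 2 * 3 ^ 4 from h) with e | e
    · exact Or.inl ((Nat.prime_dvd_prime_iff_eq hr Nat.prime_five).1 (hr.dvd_of_dvd_pow e))
    · exact Or.inr ((Nat.prime_dvd_prime_iff_eq hr Nat.prime_three).1 (hr.dvd_of_dvd_pow e))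
  · rw [card_of_orbit orbit2025, card2025, KMc_stab, M22c_simple.2]

theorem orbitM2025 {y : L} (hy : y ∈ S2025) : orbit M22c y = {z | z ∈ S2025 ∧ (z.1 pa).toNat = (y.1 pa).toNat} :=
  orbit_eq_of (fun a ha => ⟨smul_2025 (KMc_stab.ge ha).1 hy, by
    obtain ⟨σ, ⟨h1, h2⟩, rfl⟩ := ha
    rw [← prm_apply σ y pa, mem_stabilizer_iff.1 h1]; rfl⟩) fun z hz => conj2025' hy hz.1 hz.2.symm

theorem stab2_conj {g : Co0} {v w v' w' : L} (h1 : g • v = v') (h2 : g • w = w') (a : Co0) :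
    a ∈ stabilizer Co0 v ⊓ stabilizer Co0 w ↔ g * a * g⁻¹ ∈ stabilizer Co0 v' ⊓ stabilizer Co0 w' := by
  rw [← h1, ← h2]; exact and_congr (mem_stab_conj _ _ _) (mem_stab_conj _ _ _)

theorem stab3_conj {g : Co0} {v w x v' w' x' : L} (h1 : g • v = v') (h2 : g • w = w') (h3 : g • x = x') (a : Co0) :
    a ∈ stabilizer Co0 v ⊓ stabilizer Co0 w ⊓ stabilizer Co0 x ↔
      g * a * g⁻¹ ∈ stabilizer Co0 v' ⊓ stabilizer Co0 w' ⊓ stabilizer Co0 x' := by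
  rw [← h3]; exact and_congr (stab2_conj h1 h2 a) (mem_stab_conj _ _ _)

theorem stab_neg (w : L) : stabilizer Co0 (-w) = stabilizer Co0 w := by
  ext g; simp only [mem_stabilizer_iff, smul_neg, neg_inj]

theorem dot_neg_left (w : L) (x : V) : dotInt ((-w : L) : V) x = -dotInt (w : V) x := by
  rw [dot_comm, AddSubgroup.coe_neg, dot_neg, dot_comm]

theorem norm_neg' (w : L) : sqNorm ((-w : L) : V) = sqNorm (w : V) := sqNorm_neg _

end Cfsg.Agent.Leech
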