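import Cfsg.Agent.Lib.Leech.Co1

/-! The stabiliser of a vector of type three. -/

set_option autoImplicit false
set_option linter.unusedSectionVars false
set_option linter.unusedVariables false

namespace Cfsg.Agent.Leech

open Cfsg.Agent.Spor Cfsg.Agent.PC Finset MulAction
open scoped Pointwise symmDiff commutatorElement

theorem simple_of_stab' {G : Type*} [Group G] [Finite G] {H S : Subgroup G} (hH : IsCoatom H) (hcore : H.normalCore = ⊥)
    (hs : IsSimpleGroup H) (hS : IsSimpleGroup S) (h1 : ¬ Nat.card S ∣ Nat.card H) (h2 : ¬ Nat.card S ∣ H.index) :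
    IsSimpleGroup G := by
  have := nontrivial_of_coatom hH
  refine ⟨fun N hN => or_iff_not_imp_left.2 fun h0 => ?_⟩
  have h3 : ¬ N ≤ H := fun h => h0 (le_bot_iff.mp (hcore ▸ Subgroup.normal_le_normalCore.mpr h))
  rcases hs.eq_bot_or_eq_top_of_normal (N.subgroupOf H) inferInstance with h5 | h5
  swap
  · rw [← sup_eq_top_of_coatom hH h3, sup_eq_right.2 (Subgroup.subgroupOf_eq_top.1 h5)]
  exfalso
  have c : Nat.card N = H.index := by
    rw [← index_eq_relIndex hH h3, Subgroup.relIndex, Subgroup.subgroupOf_eq_bot.2 (Subgroup.subgroupOf_eq_bot.1 h5).symm,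
      Subgroup.index_bot]
  rcases hS.eq_bot_or_eq_top_of_normal (N.subgroupOf S) inferInstance with h6 | h6
  · have a := N.relIndex_dvd_index_of_normal S
    rw [Subgroup.relIndex, h6, Subgroup.index_bot] at a
    have b := N.index_mul_card.trans H.index_mul_card.symm
    rw [c, mul_comm] at b
    exact h1 (Nat.eq_of_mul_eq_mul_left (Nat.pos_of_ne_zero H.index_ne_zero_of_finite) b ▸ a)
  · exact h2 (c ▸ Subgroup.card_dvd_of_le (Subgroup.subgroupOf_eq_top.1 h6))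

theorem core_bot {G X : Type*} [Group G] [MulAction G X] {x y : X} (hH : IsSimpleGroup (stabilizer G x)) (hy : y ∈ orbit G x)
    {a : G} (ha : a ∈ stabilizer G x) (n : a • y ≠ y) : (stabilizer G x).normalCore = ⊥ := by
  rcases hH.eq_bot_or_eq_top_of_normal ((stabilizer G x).normalCore.subgroupOf _) inferInstance with e | e
  · exact disjoint_self.1 ((Subgroup.subgroupOf_eq_bot.1 e).mono_right (Subgroup.normalCore_le _))
  obtain ⟨g, rfl⟩ := hy
  have := Subgroup.subgroupOf_eq_top.1 e ha g⁻¹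
  rw [mem_stabilizer_iff, inv_inv, mul_smul, mul_smul, inv_smul_eq_iff] at this
  exact absurd this n

theorem count3 (d : ℤ) (f : ℤ → ℤ) (K N : ℕ) (h1 : N < 48 * K) (h2 : 48 < 32 * (K : ℤ)) (h3 : (N : ℤ) = 32 * K + 32 + 48 + 2 * d)
    (h4 : 32 * K ≤ N) : {x : L | sqNorm (x : V) = 32 ∧ dotInt (U0 : V) x = d ∧ x.1 pb = f (x.1 pa)}.ncard =
    ∑ k ∈ range 11, cnt2 5 1 1 (· = (k : ℤ) - 5) (· = f (k - 5)) (fun _ => True) K N := by
  refine ncard_classes (fun x : L => (x.1 pa + 5).toNat) _ _ (finL32.subset fun x hx => hx.1) (fun y hy => ?_) fun k hk => ?_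
  · have := mem_Icc.1 (coord_bd hy.1 pa)
    rw [mem_range]; omega
  · rw [← count2 5 1 1 d _ _ _ K N h1 h2 h3 h4, ← U0_eq]
    congr 1; ext y
    simp only [Set.mem_setOf_eq, implies_true, and_true]
    refine ⟨fun ⟨⟨a, b, c⟩, e⟩ => ?_, fun ⟨a, b, c, e⟩ => ⟨⟨a, b, c ▸ e⟩, by omega⟩⟩
    have := mem_Icc.1 (coord_bd a pa)
    have e' : y.1 pa = k - 5 := by omega
    exact ⟨a, b, e', e' ▸ c⟩

theorem dot_pv (p : GolayPt) (a b : ℤ) (x : V) : dotInt (pv p a b) x = (a - b) * x p + b * ∑ i, x i := by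
  rw [dotInt, sum_congr rfl (g := fun i => (if i = p then (a - b) * x p else 0) + b * x i) fun i _ => by
    unfold pv; split_ifs with h <;> [rw [h]; skip] <;> ring, sum_add_distrib, sum_ite_eq', if_pos (mem_univ _), mul_sum]

def Cp (p : GolayPt) : L := ⟨_, (pv_LS p).lat⟩

theorem dCp (p : GolayPt) (x : V) : dotInt (Cp p : V) x = ∑ i, x i - 4 * x p := (dot_pv _ _ _ _).trans (by ring)

theorem Cp_100 {p : GolayPt} (h1 : p ≠ pa) (h2 : p ≠ pb) : Cp p ∈ S100 :=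
  ⟨sqNorm_pv _ _ _, by rw [dot_comm, dCp, U0_eq, sum_v3, v3_o _ _ _ h1 h2]; rfl,
    by rw [dot_comm, dCp, U1_eq, sum_v3, v3_o _ _ _ h1 h2]; rfl⟩

/-! ### the 11178 vectors -/

def T16 : Set L := {x | sqNorm (x : V) = 32 ∧ dotInt (U0 : V) x = 16}

theorem dUY : dotInt (U0 : V) Y0 = 16 := by rw [dot_comm, dY0]; rfl

theorem d16 {x : L} (h : x ∈ T16) : dotInt (Y0 : V) x = -8 ∨ dotInt (Y0 : V) x = 0 ∨ dotInt (Y0 : V) x = 8 ∨
    dotInt (Y0 : V) x = 16 ∨ (dotInt (Y0 : V) x = 32 ∧ x = Y0) := by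
  obtain ⟨h1, h2⟩ := h
  by_cases e : x = Y0
  · rw [e, dot_self, nY0]; simp
  have a := min_norm (sub_mem Y0.2 x.2) fun e' => e (Subtype.ext (sub_eq_zero.1 e').symm)
  have b := min_norm (sub_mem U1.2 x.2) fun e' => by rw [← sub_eq_zero.1 e', nU1] at h1; omega
  have c := eight_dvd Y0.2 x.2
  rw [sqNorm_sub, nY0] at a
  rw [sqNorm_sub, nU1, dU1] at b
  rw [dU0] at h2
  rw [dY0] at a c ⊢
  omega

theorem emp16 : ∀ t ∈ Icc (-5 : ℤ) 5, ∀ d ∈ Icc (-2 : ℤ) 4, cnt2 5 1 1 (· = t) (fun s => s = t - d ∧ (0 ≤ d → s ≠ -t))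
    (fun s => s ≠ if d < 0 then 2 - t else 4 - t) 8 368 = 0 := by decide +kernel

theorem KHS_iff {g : Co0} : g ∈ KHS ↔ g • U0 = U0 ∧ g • Y0 = Y0 :=
  and_congr_right fun (h : g • U0 = U0) => by
    change g • U1 = U1 ↔ _
    rw [eq_sub_of_add_eq UY, smul_sub, h, sub_right_inj]

theorem smul16 {g : Co0} (hg : g ∈ KHS) {x : L} (hx : x ∈ T16) : g • x ∈ T16 ∧ dotInt (Y0 : V) (g • x : L) = dotInt (Y0 : V) x :=
  ⟨⟨(norm_smul _ _).trans hx.1, (dot_of hg.1 rfl).trans hx.2⟩, dot_of (KHS_iff.1 hg).2 rfl⟩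

theorem norm16 {x : L} (hx : x ∈ T16) (h : dotInt (Y0 : V) x ≠ 32) :
    ∃ g ∈ KHS, dotInt (X0 : V) (g • x : L) = if dotInt (Y0 : V) x < 0 then 8 else 0 := by
  suffices ∃ s ∈ S100, dotInt (s : V) x = if dotInt (Y0 : V) x < 0 then 8 else 0 by
    obtain ⟨s, hs, e⟩ := this
    obtain ⟨g, g1, g2, g3⟩ := to_233x U0 U1 s nU0 nU1 hs.1 dUU hs.2.1 hs.2.2
    exact ⟨g, ⟨g1, g2⟩, (dot_of g3 rfl).trans e⟩
  have a := d16 hx
  have b := hx.2
  rw [dY0] at a h ⊢
  rw [dU0] at b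
  by_cases e : 0 ≤ x.1 pa - x.1 pb ∧ x.1 pb = -x.1 pa
  · exact ⟨X0, X0_100, by rw [dX0, if_neg (by omega)]; omega⟩
  obtain ⟨p, h1, h2, e⟩ : ∃ p, p ≠ pa ∧ p ≠ pb ∧ x.1 p = if x.1 pa - x.1 pb < 0 then 2 - x.1 pa else 4 - x.1 pa := by
    by_contra! k
    exact empty2 5 1 1 16 _ _ _ 8 368 (by decide) (by decide) (by decide) (by decide)
      (emp16 _ (coord_bd hx.1 pa) (x.1 pa - x.1 pb) (mem_Icc.2 (by omega))) hx.1 (U0_eq ▸ hx.2) rfl (by omega) k
  exact ⟨Cp p, Cp_100 h1 h2, by rw [dCp]; split_ifs at e ⊢ <;> omega⟩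

theorem M22c_le : M22c ≤ KHS := KHS_stab ▸ inf_le_left

theorem conj16 {x y : L} (hx : x ∈ T16) (hy : y ∈ T16) (h : dotInt (Y0 : V) x = dotInt (Y0 : V) y) : ∃ g ∈ KHS, g • x = y := by
  by_cases e : dotInt (Y0 : V) x = 32
  · have a := d16 hx
    have b := d16 hy
    rcases a with a | a | a | a | a <;> rcases b with b | b | b | b | b <;> try omega
    exact ⟨1, one_mem _, by rw [a.2, b.2, one_smul]⟩
  obtain ⟨g, g1, g2⟩ := norm16 hx e
  obtain ⟨k, k1, k2⟩ := norm16 hy (h ▸ e)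
  obtain ⟨a1, a2⟩ := smul16 g1 hx
  obtain ⟨b1, b2⟩ := smul16 k1 hy
  suffices ∃ m ∈ M22c, m • g • x = k • y from
    let ⟨m, m1, m2⟩ := this; ⟨k⁻¹ * (m * g), mul_mem (inv_mem k1) (mul_mem (M22c_le m1) g1), two_of (by rwa [mul_smul]) rfl⟩
  have c := d16 hx
  rw [← h] at k2 b2
  generalize g • x = z at *
  generalize k • y = w at *
  have a3 := a1.2
  have b3 := b1.2
  rw [dU0] at a3 b3
  rw [dX0] at g2 k2
  rw [dY0 z] at a2
  rw [dY0 w] at b2
  split_ifs at g2 k2 with p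
  · have f : ∀ z : L, sqNorm (z : V) = 32 → z.1 pa = 0 → z.1 pb = 2 → ∑ i, z.1 i = 16 → ∃ o ∈ octads, z.1 = bv 2 o ∅ :=
      fun z h h1 h2 h3 => by
        rcases form32 h with ⟨s, p1, m, p2, e⟩ | ⟨s, p1, m, p2, e⟩ | ⟨p, c, p1, e⟩
        · have := bv_cases 4 p2 pb; rw [← e] at this; omega
        · have a := sum_bv 2 p2
          rw [← e, (mem_octads.1 p1).2] at a
          obtain rfl : m = ∅ := card_eq_zero.1 (by omega)
          exact ⟨s, p1, e⟩
        · have := cv_cases p c pb; rw [← e] at this; omega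
    obtain ⟨o, o1, o2⟩ := f z a1.1 (by omega) (by omega) (by omega)
    obtain ⟨o', o3, o4⟩ := f w b1.1 (by omega) (by omega) (by omega)
    exact of_J (conj_bv o1 o3 (empty_subset _) (empty_subset _) o2 o4 (by simp; omega) (by rw [pair_card]; decide)
      (empty_subset _) (empty_subset _))
  · exact conj2025 ⟨a1.1, by rw [dX0]; omega, by rw [dW0]; omega⟩ ⟨b1.1, by rw [dX0]; omega, by rw [dW0]; omega⟩ (by omega)

noncomputable def o16 (x : L) : ℕ := (dotInt (Y0 : V) x + 8).toNat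

def s16 (k : ℕ) : ℕ := if k = 0 then 352 else if k = 8 then 4125 else if k = 16 then 5600 else if k = 24 then 1100 else 1

theorem o16_mem : ∀ y ∈ T16, o16 y ∈ ({0, 8, 16, 24, 40} : Finset ℕ) := fun y hy => by
  have := d16 hy
  simp only [o16, mem_insert, mem_singleton]; omega

theorem cnt16 : ∀ k ∈ ({0, 8, 16, 24, 40} : Finset ℕ), {y | y ∈ T16 ∧ o16 y = k}.ncard = s16 k := fun k hk => by
  have : ∀ k ∈ ({0, 8, 16, 24, 40} : Finset ℕ), ∑ j ∈ range 11, cnt2 5 1 1 (· = (j : ℤ) - 5) (· = (j - 5) + 2 - (k / 4 : ℕ))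
      (fun _ => True) 8 368 = s16 k := by decide +kernel
  rw [← this k hk, ← count3 16 (fun t => t + 2 - (k / 4 : ℕ)) 8 368 (by decide) (by decide) (by decide) (by decide)]
  congr 1; ext y
  simp only [Set.mem_setOf_eq, ← and_assoc]
  refine and_congr_right fun h => ?_
  have := d16 h
  simp only [mem_insert, mem_singleton] at hk
  rw [o16]; rw [dY0] at this ⊢; omega

theorem fin16 : T16.Finite := finL32.subset fun x hx => hx.1

theorem to16 (u x : L) (hu : sqNorm (u : V) = 48) (hx : sqNorm (x : V) = 32) (h : dotInt (u : V) x = 16) :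
    ∃ g : Co0, g • u = U0 ∧ g • x = Y0 := by
  obtain ⟨g, g1, g2⟩ := to_233 u (u - x) hu (by rw [AddSubgroup.coe_sub, sqNorm_sub]; omega)
    (by rw [AddSubgroup.coe_sub, dot_sub, dot_self]; omega)
  rw [smul_sub, g1, ← UY] at g2
  exact ⟨g, g1, by linear_combination (norm := abel) -g2⟩

def K3 : Subgroup Co0 := stabilizer Co0 U0

theorem orbit16 : orbit K3 Y0 = T16 := orbit_eq_of (fun a ha => ⟨(norm_smul _ _).trans nY0, (dot_of ha rfl).trans dUY⟩)
  fun y hy => let ⟨g, h1, h2⟩ := to16 U0 y nU0 hy.1 hy.2; ⟨g⁻¹, inv_mem h1, by rw [← h2, inv_smul_smul]⟩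

theorem K3_stab : K3 ⊓ stabilizer Co0 Y0 = KHS := Subgroup.ext fun g => KHS_iff.symm

theorem conj16' (y : L) (hy : y ∈ T16) (z : L) (hz : z ∈ T16) (h : o16 y = o16 z) : ∃ g ∈ KHS, g • y = z :=
  conj16 hy hz (by have := d16 hy; have := d16 hz; unfold o16 at h; omega)

theorem orbit16' {y : L} (hy : y ∈ T16) : orbit KHS y = {z | z ∈ T16 ∧ o16 z = o16 y} :=
  orbit_eq_of (fun a ha => ⟨(smul16 ha hy).1, by rw [o16, (smul16 ha hy).2]; rfl⟩) fun z hz => conj16' _ hy _ hz.1 hz.2.symm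

theorem o16Y : o16 Y0 = 40 := by rw [o16, dot_self, nY0]; rfl

theorem card16 : T16.ncard = 11178 := ncard_classes _ _ _ fin16 o16_mem cnt16

theorem K3_simple : IsSimpleGroup K3 ∧ Nat.card K3 = 495766656000 := by
  obtain ⟨e⟩ := stab_sub_equiv K3 Y0
  rw [K3_stab] at e
  have hs := simple_card_of e KHS_simple
  have c : ∀ y ∈ T16, ∀ z ∈ T16, o16 y = o16 z → ∃ a ∈ stabilizer K3 Y0, a • y = z := fun y hy z hz h =>
    let ⟨g, h1, h2⟩ := conj16' y hy z hz h; ⟨⟨g, h1.1⟩, (KHS_iff.1 h1).2, h2⟩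
  refine ⟨?_, by rw [card_of_orbit orbit16, card16, K3_stab, KHS_simple.2]⟩
  have l : (stabilizer M24 pa).map prmH ≤ K3 := by
    rintro _ ⟨σ, h, rfl⟩
    refine prm_eq fun i => ?_
    by_cases p : i = pa
    · rw [p, show σ • pa = pa from h]
    · rw [U0_o p, U0_o fun e => p (smul_left_cancel σ (e.trans h.symm))]
  have hS := simple_card_of ((Subgroup.subgroupOfEquivOfLe l).trans ((stabilizer M24 pa).equivMapOfInjective _ prmH_inj).symm)
    ⟨simple23, card23⟩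
  obtain ⟨y, hy, z, hz, n⟩ := (Set.one_lt_ncard (s := {y | y ∈ T16 ∧ o16 y = 0}) (fin16.subset fun y hy => hy.1)).1
    (by rw [cnt16 0 (by decide)]; decide)
  obtain ⟨a, ha, rfl⟩ := c y hy.1 z hz.1 (hy.2.trans hz.2.symm)
  refine simple_of_stab' (isCoatom_abs o16 _ s16 fin16 orbit16 o16_mem c cnt16 (by decide) (by rw [o16Y]; decide))
    (core_bot hs.1 (orbit16.ge hy.1) ha n.symm) hs.1 hS.1 (by rw [hS.2, hs.2]; decide) ?_
  rw [hS.2, index_stabilizer, orbit16, card16]; decide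

/-! ### the 275 vectors -/

def pc : GolayPt := gp 12

theorem pac : pa ≠ pc := by decide
theorem pbc : pb ≠ pc := by decide

theorem to_triple (p q r : L) (hp : sqNorm (p : V) = 64) (hq : sqNorm (q : V) = 64) (hr : sqNorm (r : V) = 64) (h : cl p = cl q)
    (h' : cl p = cl r) (d1 : dotInt (p : V) q = 0) (d2 : dotInt (p : V) r = 0) (d3 : dotInt (q : V) r = 0) :
    ∃ g : Co0, g • p = E8 pa ∧ g • q = E8 pb ∧ g • r = E8 pc := by
  obtain ⟨g, g1, g2⟩ := to_pair p q hp hq h d1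
  obtain ⟨k, s, hs, e⟩ := mem_std ((norm_smul g _).trans hr) ((cl_smul g h'.symm).trans (by rw [g1]; rfl))
  have n : ∀ {x : L} {i : GolayPt}, g • x = E8 i → dotInt (x : V) r = 0 → i ≠ k := by
    rintro x i h1 h2 rfl
    have := dot_of h1 (rfl : g • r = _)
    rw [e, dot_single, h2] at this
    simp only [E8, e8, Pi.single_eq_same] at this
    omega
  obtain ⟨σ, h1, h2, h3⟩ := map3 pab (n g1 d2) (n g2 d3) pab pac pbc
  obtain ⟨c, hc, h4⟩ := exists_restrict7 (S := {pa, pb, pc}) (by decide) (if s = -8 then {pc} else ∅)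
  have m : ∀ i t, (i ∈ ({pa, pb, pc} : Finset GolayPt)) → (t = 8 ∨ t = -8) → (t = -8 ↔ s = -8 ∧ i = pc) → ∀ j, σ • j = i →
      ∀ x : L, x.1 = Pi.single j t → mono σ ⟨c, hc⟩ • x = E8 i := fun i t hi ht h j hj x hx => Subtype.ext (by
    rw [mono_smul, hx, signedPerm_single, show σ.1 j = i from hj]
    simp only [h4 i hi, E8, e8]
    congr 1
    by_cases p : s = -8
    · simp only [p, if_true, mem_singleton, true_and] at h ⊢
      split_ifs with q
      · have := h.2 q; omega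
      · have := mt h.1 q; omega
    · simp only [p, if_false, notMem_empty, false_and, iff_false] at h ⊢; omega)
  refine ⟨mono σ ⟨c, hc⟩ * g, ?_, ?_, ?_⟩ <;> rw [mul_smul]
  · exact m pa 8 (by simp) (by simp) (by simp [pac]) pa h1 _ (by rw [g1]; rfl)
  · exact m pb 8 (by simp) (by simp) (by simp [pbc]) pb h2 _ (by rw [g2]; rfl)
  · exact m pc s (by simp) hs (by simp) k h3 _ e

theorem odd_norm {x y : L} (hx : x.1 pa % 2 = 1) (hy : y.1 pa % 2 = 1) (h : ∀ i, x.1 i = y.1 i ∨ y.1 i ^ 2 = 1)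
    (hn : sqNorm (x : V) = sqNorm (y : V)) : ∃ c : gC, (∀ i, x.1 i = y.1 i → i ∉ c.1) ∧ sgn c • x = y := by
  obtain ⟨c, hc, e⟩ := odd_code hx hy
  obtain ⟨n, d, hn', l⟩ := exists_01 x.2
  have o : ∀ i, x.1 i % 2 = 1 := fun i => by have := l.par i; have := l.par pa; omega
  have p : ∀ i ∈ univ, 0 ≤ x.1 i ^ 2 - y.1 i ^ 2 := fun i _ => by
    rcases h i with r | r
    · rw [r, sub_self]
    · rcases odd_sq (o i) with (q | q) | q <;> [simp [q, r]; simp [q, r]; omega]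
  have q := (sum_eq_zero_iff_of_nonneg p).1 (by rw [sum_sub_distrib]; exact sub_eq_zero.2 hn)
  refine ⟨⟨c, hc⟩, fun i hi => by rw [e, hi]; simp, Subtype.ext (funext fun i => ?_)⟩
  have r := q i (mem_univ i)
  have t : (x.1 i - y.1 i) * (x.1 i + y.1 i) = 0 := by linarith
  have := o i
  simp only [sgn_apply, e]
  rcases mul_eq_zero.1 t with r | r <;> split_ifs <;> omega

def Ac : L := S2 pa pc 4 4
def Bc : L := S2 pb pc 4 4
def Uq : L := ⟨fun i => if i ∈ ({pa, pb, pc} : Finset GolayPt) then 3 else -1,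
  (⟨empty_mem_gC, by decide +kernel, by decide +kernel⟩ : LS _ (-1) ∅).lat⟩

theorem dAc (x : V) : dotInt (Ac : V) x = 4 * x pa + 4 * x pc := by rw [dot_comm, Ac, dS2]; ring
theorem dBc (x : V) : dotInt (Bc : V) x = 4 * x pb + 4 * x pc := by rw [dot_comm, Bc, dS2]; ring
theorem dUq (x : V) : dotInt (Uq : V) x = 4 * (x pa + x pb + x pc) - ∑ i, x i := by
  rw [dotInt, sum_congr rfl (g := fun i => (if i ∈ ({pa, pb, pc} : Finset GolayPt) then 4 * x i else 0) - x i) fun i _ => by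
    simp only [Uq]; split_ifs <;> ring, sum_sub_distrib, sum_ite_mem, univ_inter, sum_insert (by decide), sum_pair pbc]
  ring

theorem to_quad (u v x y : L) (hu : sqNorm (u : V) = 48) (hv : sqNorm (v : V) = 32) (hx : sqNorm (x : V) = 32)
    (hy : sqNorm (y : V) = 32) (u1 : dotInt (u : V) v = 24) (u2 : dotInt (u : V) x = 24) (u3 : dotInt (u : V) y = 24)
    (d1 : dotInt (v : V) x = 16) (d2 : dotInt (v : V) y = 16) (d3 : dotInt (x : V) y = 16) :
    ∃ g : Co0, g • u = Uq ∧ g • v = X0 ∧ g • x = Ac ∧ g • y = Bc := by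
  have c1 := dot_comm v.1 x
  have c2 := dot_comm v.1 y
  have c3 := dot_comm x.1 y
  have la : ∀ a b c : V, dotInt (a + b) c = dotInt a c + dotInt b c := fun a b c => by
    rw [dot_comm, dot_add, dot_comm c, dot_comm c]
  have ls : ∀ a b c : V, dotInt (a - b) c = dotInt a c - dotInt b c := fun a b c => by
    rw [dot_comm, dot_sub, dot_comm c, dot_comm c]
  obtain ⟨g, g1, g2, g3⟩ := to_triple (v + x - y) (v + y - x) (x + y - v)
    (by rw [← dot_self]; simp only [AddSubgroup.coe_add, AddSubgroup.coe_sub, la, ls, dot_add, dot_sub, dot_self]; omega)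
    (by rw [← dot_self]; simp only [AddSubgroup.coe_add, AddSubgroup.coe_sub, la, ls, dot_add, dot_sub, dot_self]; omega)
    (by rw [← dot_self]; simp only [AddSubgroup.coe_add, AddSubgroup.coe_sub, la, ls, dot_add, dot_sub, dot_self]; omega)
    (cl_eq.2 ⟨x - y, sub_mem x.2 y.2, by simp only [AddSubgroup.coe_add, AddSubgroup.coe_sub, two_nsmul]; abel⟩)
    (cl_eq.2 ⟨v - y, sub_mem v.2 y.2, by simp only [AddSubgroup.coe_add, AddSubgroup.coe_sub, two_nsmul]; abel⟩)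
    (by simp only [AddSubgroup.coe_add, AddSubgroup.coe_sub, la, ls, dot_add, dot_sub, dot_self]; omega)
    (by simp only [AddSubgroup.coe_add, AddSubgroup.coe_sub, la, ls, dot_add, dot_sub, dot_self]; omega)
    (by simp only [AddSubgroup.coe_add, AddSubgroup.coe_sub, la, ls, dot_add, dot_sub, dot_self]; omega)
  rw [smul_sub, smul_add] at g1 g2 g3
  have e1 : g • v = X0 := half_ext (by
    rw [show X0 + X0 = E8 pa + E8 pb from Subtype.ext (by decide +kernel)]; linear_combination (norm := abel) g1 + g2)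
  have e2 : g • x = Ac := half_ext (by
    rw [show Ac + Ac = E8 pa + E8 pc from Subtype.ext (by decide +kernel)]; linear_combination (norm := abel) g1 + g3)
  have e3 : g • y = Bc := half_ext (by
    rw [show Bc + Bc = E8 pb + E8 pc from Subtype.ext (by decide +kernel)]; linear_combination (norm := abel) g2 + g3)
  have p1 := dot_of e1 (rfl : g • u = _)
  have p2 := dot_of e2 (rfl : g • u = _)
  have p3 := dot_of e3 (rfl : g • u = _)
  rw [dX0, dot_comm] at p1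
  rw [dAc, dot_comm] at p2
  rw [dBc, dot_comm] at p3
  have q : ∀ i ∈ ({pa, pb, pc} : Finset GolayPt), (g • u : L).1 i = Uq.1 i := fun i hi => by
    simp only [Uq, hi, if_true]
    simp only [mem_insert, mem_singleton] at hi
    rcases hi with rfl | rfl | rfl <;> omega
  obtain ⟨c, h1, h2⟩ := odd_norm (x := g • u) (y := Uq) (by omega) rfl (fun i => by
    by_cases hi : i ∈ ({pa, pb, pc} : Finset GolayPt)
    · exact Or.inl (q i hi)
    · exact Or.inr (by simp only [Uq, hi, if_false]; rfl)) ((norm_smul _ _).trans (hu.trans (by decide +kernel)))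
  have f : ∀ i j, i ∈ ({pa, pb, pc} : Finset GolayPt) → j ∈ ({pa, pb, pc} : Finset GolayPt) →
      sgn c • S2 i j 4 4 = S2 i j 4 4 := fun i j hi hj => Subtype.ext (funext fun k => by
    rw [sgn_apply, S2_apply]
    split_ifs with p r s
    · exact absurd (r ▸ p) (h1 i (q i hi))
    · exact absurd (r ▸ p) (h1 i (q i hi))
    · subst_vars; exact absurd p (h1 _ (q _ hj))
    all_goals rfl)
  refine ⟨sgn c * g, ?_, ?_, ?_, ?_⟩ <;> rw [mul_smul]
  · exact h2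
  · rw [e1]; exact f pa pb (by simp) (by simp)
  · rw [e2]; exact f pa pc (by simp) (by simp)
  · rw [e3]; exact f pb pc (by simp) (by simp)

def X275 (u v : L) : Set L := {x | sqNorm (x : V) = 32 ∧ dotInt (u : V) x = 24 ∧ dotInt (v : V) x = 16}

theorem emp275 : ∀ t ∈ Icc (-5 : ℤ) 5, cnt2 5 1 1 (· = t) (· = 4 - t) (· ≠ 4 - t) 9 416 = 0 := by decide +kernel

theorem ex275 {z : L} (h : z ∈ X275 U0 X0) : ∃ p, p ≠ pa ∧ p ≠ pb ∧ z.1 p = z.1 pb ∧ S2 pa p 4 4 ∈ X275 U0 X0 ∧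
    dotInt (z : V) (S2 pa p 4 4) = 16 := by
  have a := h.2.2
  rw [dX0] at a
  obtain ⟨p, h1, h2, e⟩ : ∃ p, p ≠ pa ∧ p ≠ pb ∧ z.1 p = 4 - z.1 pa := by
    by_contra! k
    exact empty2 5 1 1 24 _ _ _ 9 416 (by decide) (by decide) (by decide) (by decide)
      (emp275 _ (coord_bd h.1 pa)) h.1 (U0_eq ▸ h.2.1) rfl (by omega) k
  exact ⟨p, h1, h2, by omega, ⟨nS2 h1.symm _, by rw [dS2, U0_a, U0_o h1]; rfl,
    by rw [dS2, X0_eq, v3_a, v3_o _ _ _ h1 h2]; rfl⟩, by rw [dS2]; omega⟩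

theorem dUX : dotInt (U0 : V) X0 = 24 := X0_100.2.1

theorem smul275 {g : Co0} {u v u' v' x : L} (h1 : g • u = u') (h2 : g • v = v') : g • x ∈ X275 u' v' ↔ x ∈ X275 u v := by
  simp only [X275, Set.mem_setOf_eq, norm_smul, dot_of h1 (rfl : g • x = _), dot_of h2 (rfl : g • x = _)]

theorem Ac_275 : Ac ∈ X275 U0 X0 := ⟨by decide +kernel, by decide +kernel, by decide +kernel⟩

theorem to275 {u v x : L} (hu : sqNorm (u : V) = 48) (hv : sqNorm (v : V) = 32) (hd : dotInt (u : V) v = 24) (hx : x ∈ X275 u v) :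
    ∃ g : Co0, g • u = U0 ∧ g • v = X0 ∧ g • x = Ac := by
  have k : ∀ z ∈ X275 U0 X0, ∃ g : Co0, g • U0 = Uq ∧ g • X0 = X0 ∧ g • z = Ac := fun z hz => by
    obtain ⟨p, -, -, -, h1, h2⟩ := ex275 hz
    obtain ⟨g, g1, g2, g3, -⟩ := to_quad U0 X0 z _ nU0 nX0 hz.1 h1.1 dUX hz.2.1 h1.2.1 hz.2.2 h1.2.2 h2
    exact ⟨g, g1, g2, g3⟩
  obtain ⟨g, g1, g2⟩ := to_223 u v hu hv hd
  obtain ⟨a, a1, a2, a3⟩ := k _ ((smul275 g1 g2).2 hx)
  obtain ⟨b, b1, b2, b3⟩ := k _ Ac_275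
  exact ⟨b⁻¹ * (a * g), two_of (by rw [mul_smul, g1, a1]) b1, two_of (by rw [mul_smul, g2, a2]) b2,
    two_of (by rw [mul_smul, a3]) b3⟩

theorem card275 {u v : L} (hu : sqNorm (u : V) = 48) (hv : sqNorm (v : V) = 32) (hd : dotInt (u : V) v = 24) :
    (X275 u v).ncard = 275 := by
  obtain ⟨g, g1, g2⟩ := to_223 u v hu hv hd
  rw [show X275 u v = {x | g • x ∈ X275 U0 X0} from Set.ext fun x => (smul275 g1 g2).symm, ncard_smul g (· ∈ X275 U0 X0)]
  refine Eq.trans ?_ ((count3 24 (4 - ·) 9 416 (by decide) (by decide) (by decide) (by decide)).trans (by decide +kernel))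
  congr 1; ext y
  exact and_congr_right fun _ => and_congr_right fun _ => by rw [dX0]; omega

theorem d275 {u v x y : L} (hu : sqNorm (u : V) = 48) (hd : dotInt (u : V) v = 24) (hx : x ∈ X275 u v) (hy : y ∈ X275 u v)
    (n : y ≠ x) : dotInt (x : V) y = 8 ∨ dotInt (x : V) y = 16 := by
  obtain ⟨x1, x2, x3⟩ := hx
  obtain ⟨y1, y2, y3⟩ := hy
  have a := min_norm (sub_mem x.2 y.2) fun e' => n (Subtype.ext (sub_eq_zero.1 e').symm)
  have b := min_norm (sub_mem u.2 (add_mem x.2 y.2)) fun e' => by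
    rw [sub_eq_zero.1 e', dot_comm, dot_add] at hd; omega
  have c := eight_dvd x.2 y.2
  rw [sqNorm_sub] at a
  rw [sqNorm_sub, sqNorm_add, dot_add] at b
  omega

theorem to56 {u v x z : L} (hu : sqNorm (u : V) = 48) (hv : sqNorm (v : V) = 32) (hd : dotInt (u : V) v = 24) (hx : x ∈ X275 u v)
    (hz : z ∈ X275 u v) (h : dotInt (x : V) z = 8) : ∃ g : Co0, g • u = Uq ∧ g • v = X0 ∧ g • x = Ac ∧
      ∃ o ∈ octads, pa ∈ o ∧ pb ∉ o ∧ pc ∈ o ∧ (g • z : L).1 = cv pb oᶜ := by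
  obtain ⟨g, g1, g2, g3⟩ := to275 hu hv hd hx
  have hz' := (smul275 g1 g2).2 hz
  have h' := (dot_of g3 (rfl : g • z = _)).trans h
  obtain ⟨p, p1, p2, p3, p4, p5⟩ := ex275 hz'
  have a := hz'.2.2
  rw [dX0] at a
  have b := h'
  rw [dAc] at b
  have n : pc ≠ p := by rintro rfl; omega
  obtain ⟨k, k1, k2, k3, k4⟩ := to_quad U0 X0 Ac _ nU0 nX0 Ac_275.1 p4.1 dUX Ac_275.2.1 p4.2.1 Ac_275.2.2 p4.2.2
    (by rw [dAc, S2_apply, S2_apply]; simp only [p1.symm, pac.symm, n, if_true, if_false]; rfl)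
  refine ⟨k * g, by rw [mul_smul, g1, k1], by rw [mul_smul, g2, k2], by rw [mul_smul, g3, k3], ?_⟩
  have q := (smul275 k1 k2).2 hz'
  have q1 := (dot_of k3 (rfl : k • g • z = _)).trans h'
  have q2 := (dot_of k4 (rfl : k • g • z = _)).trans ((dot_comm _ _).trans p5)
  rw [mul_smul]
  generalize k • g • z = w at q q1 q2
  obtain ⟨q3, q4, q5⟩ := q
  rw [dAc] at q1
  rw [dBc] at q2
  rw [dUq] at q4
  rw [dX0] at q5
  rcases form32 q3 with ⟨s, p1, m, p2, e⟩ | ⟨s, p1, m, p2, e⟩ | ⟨p, c, p1, e⟩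
  · have := bv_cases 4 p2 pb; rw [← e] at this; omega
  · have := bv_cases 2 p2 pb; rw [← e] at this; omega
  have r := sum_cv p c
  have r1 := cv_cases p c pa
  have r2 := cv_cases p c pb
  have r3 := cv_cases p c pc
  rw [← e] at r r1 r2 r3
  obtain ⟨rfl, r4, -⟩ : pb = p ∧ pb ∈ c ∧ w.1 pb = 3 := by rcases r2 with r | r | r | r <;> first | exact r | omega
  rw [if_pos r4] at r
  refine ⟨cᶜ, mem_octads.2 ⟨compl_mem_gC p1, by rw [card_compl, card_golayPt]; omega⟩, mem_compl.2 ?_, by simpa using r4,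
    mem_compl.2 ?_, by rw [compl_compl, e]⟩
  · rcases r1 with r | r | r | r <;> first | exact r.2.1 | omega
  · rcases r3 with r | r | r | r <;> first | exact r.2.1 | omega

theorem prm_J {σ : M24} (h : ∀ j ∈ ({pa, pb, pc} : Finset GolayPt), σ • j = j) {x : L} {o : ℤ}
    (hx : ∀ i ∉ ({pa, pb, pc} : Finset GolayPt), x.1 i = o) : prm σ • x = x := prm_eq fun i => by
  by_cases p : i ∈ ({pa, pb, pc} : Finset GolayPt)
  · rw [h i p]
  · rw [hx i p, hx (σ • i) fun e => p (smul_left_cancel σ (h _ e) ▸ e)]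

theorem prm_J' {σ : M24} (h : ∀ j ∈ ({pa, pb, pc} : Finset GolayPt), σ • j = j) :
    prm σ • Uq = Uq ∧ prm σ • X0 = X0 ∧ prm σ • Ac = Ac ∧ prm σ • Bc = Bc :=
  ⟨prm_J h (o := -1) (by decide +kernel), prm_J h (o := 0) (by decide +kernel), prm_J h (o := 0) (by decide +kernel),
    prm_J h (o := 0) (by decide +kernel)⟩

theorem conj275 {u v x y z : L} (hu : sqNorm (u : V) = 48) (hv : sqNorm (v : V) = 32) (hd : dotInt (u : V) v = 24)
    (hx : x ∈ X275 u v) (hy : y ∈ X275 u v) (hz : z ∈ X275 u v) (n : y ≠ x) (h : dotInt (x : V) y = dotInt (x : V) z) :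
    ∃ g : Co0, g • u = u ∧ g • v = v ∧ g • x = x ∧ g • y = z := by
  rcases d275 hu hd hx hy n with e | e
  · obtain ⟨g, g1, g2, g3, o, o1, o2, o3, o4, o5⟩ := to56 hu hv hd hx hy e
    obtain ⟨k, k1, k2, k3, o', p1, p2, p3, p4, p5⟩ := to56 hu hv hd hx hz (h ▸ e)
    obtain ⟨σ, s1, s2⟩ := mapJ (J := {pa, pb, pc}) (by decide) o1 p1 (by simp [*])
    obtain ⟨t1, t2, t3, -⟩ := prm_J' s1
    exact ⟨k⁻¹ * (prm σ * g), two_of (by rw [mul_smul, g1, t1]) k1, two_of (by rw [mul_smul, g2, t2]) k2,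
      two_of (by rw [mul_smul, g3, t3]) k3,
      two_of (by rw [mul_smul]; exact prm_cv o5 p5 (s1 _ (by simp)) (by rw [msmul_compl, s2])) rfl⟩
  · obtain ⟨g, g1, g2, g3, g4⟩ := to_quad u v x y hu hv hx.1 hy.1 hd hx.2.1 hy.2.1 hx.2.2 hy.2.2 e
    obtain ⟨k, k1, k2, k3, k4⟩ := to_quad u v x z hu hv hx.1 hz.1 hd hx.2.1 hz.2.1 hx.2.2 hz.2.2 (h ▸ e)
    exact ⟨k⁻¹ * g, two_of g1 k1, two_of g2 k2, two_of g3 k3, two_of g4 k4⟩

theorem card_quad : Nat.card ↥(stabilizer Co0 Uq ⊓ stabilizer Co0 X0 ⊓ stabilizer Co0 Ac ⊓ stabilizer Co0 Bc) = 20160 := by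
  rw [← card21, ← Subgroup.card_map_of_injective prmH_inj]
  refine congrArg (fun H : Subgroup Co0 => Nat.card H) (Subgroup.ext fun g => ⟨fun ⟨⟨⟨h1, h2⟩, h3⟩, h4⟩ => ?_, ?_⟩)
  · change g • _ = _ at h1 h2 h3 h4
    have a : g • E8 pa = E8 pa := by
      rw [show E8 pa = X0 + Ac - Bc from Subtype.ext (by decide +kernel), smul_sub, smul_add, h2, h3, h4]
    have b : g • E8 pb = E8 pb := by
      rw [show E8 pb = X0 + Bc - Ac from Subtype.ext (by decide +kernel), smul_sub, smul_add, h2, h3, h4]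
    have c : g • E8 pc = E8 pc := by
      rw [show E8 pc = Ac + Bc - X0 from Subtype.ext (by decide +kernel), smul_sub, smul_add, h2, h3, h4]
    obtain ⟨σ, d, rfl⟩ := mem_N_of_E8 a
    refine ⟨σ, ⟨⟨(mono_E8 a).1, (mono_E8 b).1⟩, (mono_E8 c).1⟩, 
      congrArg (mono σ) (Subtype.ext (eq_empty_of_forall_notMem fun j hj => ?_).symm)⟩
    obtain ⟨i, rfl⟩ := exists_smul σ j
    have u : ∀ i, Uq.1 i % 4 = 3 := by decide +kernel
    have := mono_apply σ d Uq i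
    rw [h1, if_pos hj] at this
    have := u i
    have := u (σ • i)
    omega
  · rintro ⟨σ, ⟨⟨h1, h2⟩, h3⟩, rfl⟩
    obtain ⟨t1, t2, t3, t4⟩ := prm_J' (σ := σ) (by simp only [mem_insert, mem_singleton]; rintro j (rfl | rfl | rfl) <;> assumption)
    exact ⟨⟨⟨t1, t2⟩, t3⟩, t4⟩

theorem card162 {u v x : L} (hu : sqNorm (u : V) = 48) (hv : sqNorm (v : V) = 32) (hd : dotInt (u : V) v = 24)
    (hx : x ∈ X275 u v) : {y | y ∈ X275 u v ∧ dotInt (x : V) y = 16}.ncard = 162 := by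
  obtain ⟨y, hy, e⟩ : ∃ y ∈ X275 u v, dotInt (x : V) y = 16 := by
    obtain ⟨g, g1, g2⟩ := to_223 u v hu hv hd
    obtain ⟨p, -, -, -, h1, h2⟩ := ex275 ((smul275 g1 g2).2 hx)
    exact ⟨g⁻¹ • _, (smul275 g1 g2).1 (by rwa [smul_inv_smul]), (dot_of rfl (smul_inv_smul g _)).symm.trans h2⟩
  have n : ∀ y : L, dotInt (x : V) y = 16 → y ≠ x := by rintro y h rfl; rw [dot_self, hx.1] at h; omega
  have a := card_of_orbit (K := stabilizer Co0 u ⊓ stabilizer Co0 v) (x := x) (S := X275 u v)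
    (orbit_eq_of (fun a ha => (smul275 ha.1 ha.2).2 hx) fun y hy => by
      obtain ⟨g, g1, g2, g3⟩ := to275 hu hv hd hx
      obtain ⟨k, k1, k2, k3⟩ := to275 hu hv hd hy
      exact ⟨k⁻¹ * g, ⟨two_of g1 k1, two_of g2 k2⟩, two_of g3 k3⟩)
  have b := card_of_orbit (K := stabilizer Co0 u ⊓ stabilizer Co0 v ⊓ stabilizer Co0 x) (x := y)
    (S := {y | y ∈ X275 u v ∧ dotInt (x : V) y = 16})
    (orbit_eq_of (fun a ha => ⟨(smul275 ha.1.1 ha.1.2).2 hy, (dot_of ha.2 rfl).trans e⟩) fun z hz =>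
      let ⟨g, g1, g2, g3, g4⟩ := conj275 hu hv hd hx hy hz.1 (n y e) (e.trans hz.2.symm); ⟨g, ⟨⟨g1, g2⟩, g3⟩, g4⟩)
  obtain ⟨g, g1, g2, g3, g4⟩ := to_quad u v x y hu hv hx.1 hy.1 hd hx.2.1 hy.2.1 hx.2.2 hy.2.2 e
  have c := (Nat.card_congr (conjE g (A := stabilizer Co0 u ⊓ stabilizer Co0 v ⊓ stabilizer Co0 x ⊓ stabilizer Co0 y)
    (B := stabilizer Co0 Uq ⊓ stabilizer Co0 X0 ⊓ stabilizer Co0 Ac ⊓ stabilizer Co0 Bc) fun a => and_congr (stab3_conj g1 g2 g3 a) (g4 ▸ mem_stab_conj g a y)).toEquiv).trans card_quad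
  obtain ⟨k, k1, k2⟩ := to_223 u v hu hv hd
  have d := Nat.card_congr (conjE k (stab2_conj k1 k2)).toEquiv
  rw [show stabilizer Co0 U0 ⊓ stabilizer Co0 X0 = KMc from Subgroup.ext fun a => and_comm.trans (and_congr_right
    fun (h : a • X0 = X0) => by change a • U0 = U0 ↔ a • W0 = W0; rw [← XW, smul_add, h, add_right_inj]), KMc_simple.2] at d
  rw [card275 hu hv hd, d, b, c] at a
  omega

end Cfsg.Agent.Leech
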