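import Cfsg.Agent.Lib.Spor.Trans
import Cfsg.Prelude.Def_SporadicCombinatorics

/-! Basic facts on the rank 24 lattice built from the binary code of length 24. -/

set_option autoImplicit false
set_option linter.unusedSectionVars false
set_option linter.unusedVariables false

namespace Cfsg.Agent.Leech

open Cfsg.Agent.Spor Finset
open scoped symmDiff

abbrev V : Type := GolayPt → ℤ

def tw (c : Finset GolayPt) (i : GolayPt) : ℤ := if i ∈ c then 2 else 0

theorem sum_tw (c : Finset GolayPt) : ∑ i, tw c i = 2 * c.card := by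
  simp [tw, Finset.sum_ite_mem, mul_comm]

theorem four_dvd {c : Finset GolayPt} (h : c ∈ gC) : (4 : ℤ) ∣ c.card := by
  rcases card_of_mem_gC h with e | e | e | e | e <;> rw [e] <;> decide

structure LS (x : V) (m : ℤ) (c : Finset GolayPt) : Prop where
  mem : c ∈ gC
  md : ∀ i, x i % 4 = (m + tw c i) % 4
  sum : (∑ i, x i) % 8 = (4 * m) % 8

theorem LS.leechSet {x : V} {m : ℤ} {c : Finset GolayPt} (h : LS x m c) : x ∈ leechSet := by
  refine ⟨m, fun i => ?_, h.sum, fun k => ?_⟩
  · have := h.md i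
    unfold tw at this; unfold Int.ModEq
    split_ifs at this <;> omega
  · have k0 : ∀ i, (i ∈ c ∧ x i % 4 = (m + 2) % 4) ∨ (i ∉ c ∧ x i % 4 = m % 4) := fun i => by
      have := h.md i
      unfold tw at this
      split_ifs at this with hi
      · exact Or.inl ⟨hi, this⟩
      · exact Or.inr ⟨hi, by omega⟩
    by_cases h1 : k % 4 = (m + 2) % 4
    · have e : (univ.filter fun i => x i ≡ k [ZMOD 4]) = c := by
        ext i
        simp only [mem_filter, mem_univ, true_and]; unfold Int.ModEq
        rcases k0 i with ⟨hi, e⟩ | ⟨hi, e⟩ <;> simp only [hi, iff_true, iff_false] <;> omega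
      rw [e]; exact h.mem
    by_cases h2 : k % 4 = m % 4
    · have e : (univ.filter fun i => x i ≡ k [ZMOD 4]) = cᶜ := by
        ext i
        simp only [mem_filter, mem_univ, true_and, mem_compl]; unfold Int.ModEq
        rcases k0 i with ⟨hi, e⟩ | ⟨hi, e⟩ <;> simp only [hi, not_true, not_false_iff, iff_true, iff_false] <;> omega
      rw [e]; exact compl_mem_gC h.mem
    · have e : (univ.filter fun i => x i ≡ k [ZMOD 4]) = ∅ := by
        ext i
        simp only [mem_filter, mem_univ, true_and, notMem_empty, iff_false]; unfold Int.ModEq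
        rcases k0 i with ⟨hi, e⟩ | ⟨hi, e⟩ <;> omega
      rw [e]; exact empty_mem_gC

theorem exists_LS {x : V} (h : x ∈ leechSet) : ∃ m c, (m = 0 ∨ m = 1) ∧ LS x m c := by
  obtain ⟨m, h1, h2, h3⟩ := h
  refine ⟨m % 2, _, by omega, h3 (m % 2 + 2), fun i => ?_, by unfold Int.ModEq at h2; omega⟩
  have := h1 i
  unfold tw
  by_cases e : x i ≡ m % 2 + 2 [ZMOD 4]
  · rw [if_pos (by simp only [mem_filter, mem_univ, true_and]; exact e)]; exact e
  · rw [if_neg (by simp only [mem_filter, mem_univ, true_and]; exact e)]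
    unfold Int.ModEq at e this; omega

theorem LS.add {x y : V} {m n : ℤ} {c d : Finset GolayPt} (h : LS x m c) (h' : LS y n d) :
    LS (x + y) (m + n) (c ∆ d) := by
  refine ⟨symmDiff_mem_gC h.mem h'.mem, fun i => ?_, ?_⟩
  · have a := h.md i
    have b := h'.md i
    unfold tw at *
    simp only [mem_symmDiff, Pi.add_apply]
    by_cases h1 : i ∈ c <;> by_cases h2 : i ∈ d <;> simp only [h1, h2, if_true, if_false] at a b <;>
      simp [h1, h2] <;> omega
  · have a := h.sum
    have b := h'.sum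
    simp only [Pi.add_apply, sum_add_distrib]; omega

theorem LS.neg {x : V} {m : ℤ} {c : Finset GolayPt} (h : LS x m c) : LS (-x) (-m) c := by
  refine ⟨h.mem, fun i => ?_, ?_⟩
  · have a := h.md i
    unfold tw at *
    simp only [Pi.neg_apply]
    split_ifs at a ⊢ <;> omega
  · have a := h.sum
    simp only [Pi.neg_apply, sum_neg_distrib]; omega

theorem LS.zero : LS 0 0 ∅ := ⟨empty_mem_gC, fun i => by simp [tw], by simp⟩

def lat : AddSubgroup V where
  carrier := leechSet
  zero_mem' := LS.zero.leechSet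
  add_mem' hx hy := by
    obtain ⟨_, _, -, h⟩ := exists_LS hx
    obtain ⟨_, _, -, h'⟩ := exists_LS hy
    exact (h.add h').leechSet
  neg_mem' hx := by
    obtain ⟨_, _, -, h⟩ := exists_LS hx
    exact h.neg.leechSet

theorem lattice_eq : leechLattice = lat := AddSubgroup.closure_eq lat

theorem mem_iff_set {x : V} : x ∈ leechLattice ↔ x ∈ leechSet := by rw [lattice_eq]; rfl

theorem LS.lat {x : V} {m : ℤ} {c : Finset GolayPt} (h : LS x m c) : x ∈ leechLattice := mem_iff_set.2 h.leechSet

theorem exists_01 {x : V} (h : x ∈ leechLattice) : ∃ m c, (m = 0 ∨ m = 1) ∧ LS x m c := exists_LS (mem_iff_set.1 h)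

theorem LS.sq_mod {x : V} {m : ℤ} {c : Finset GolayPt} (hc : c ∈ gC) (h : ∀ i, x i % 4 = (m + tw c i) % 4) :
    (16 : ℤ) ∣ sqNorm x - 2 * m * ∑ i, x i + 24 * m ^ 2 := by
  have h1 : (16 : ℤ) ∣ ∑ i, (x i ^ 2 - 2 * m * x i + m ^ 2 - 2 * tw c i) := Finset.dvd_sum fun i _ => by
    have a := h i
    obtain ⟨k, hk⟩ : ∃ k, x i = m + tw c i + 4 * k := ⟨(x i - (m + tw c i)) / 4, by omega⟩
    rw [hk]; unfold tw
    split_ifs
    · exact ⟨k + k ^ 2, by ring⟩
    · exact ⟨k ^ 2, by ring⟩
  simp only [sum_sub_distrib, sum_add_distrib, ← mul_sum, sum_tw, sum_const, card_univ, card_golayPt] at h1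
  obtain ⟨k, hk⟩ := four_dvd hc
  obtain ⟨l, hl⟩ := h1
  exact ⟨l + k, by unfold sqNorm; rw [hk] at hl; simp only [nsmul_eq_mul, Nat.cast_ofNat] at hl; linarith⟩

theorem sixteen_dvd {x : V} (hx : x ∈ leechLattice) : (16 : ℤ) ∣ sqNorm x := by
  obtain ⟨m, c, hm, h⟩ := exists_01 hx
  have a := LS.sq_mod h.mem h.md
  have b := h.sum
  rcases hm with rfl | rfl <;> omega

theorem sqNorm_add (x y : V) : sqNorm (x + y) = sqNorm x + sqNorm y + 2 * dotInt x y := by
  simp only [sqNorm, dotInt, mul_sum, ← sum_add_distrib, Pi.add_apply]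
  exact sum_congr rfl fun i _ => by ring

theorem sqNorm_sub (x y : V) : sqNorm (x - y) = sqNorm x + sqNorm y - 2 * dotInt x y := by
  simp only [sqNorm, dotInt, mul_sum, ← sum_add_distrib, ← sum_sub_distrib, Pi.sub_apply]
  exact sum_congr rfl fun i _ => by ring

theorem sqNorm_neg (x : V) : sqNorm (-x) = sqNorm x := by simp only [sqNorm, Pi.neg_apply, neg_sq]

theorem sqNorm_smul (a : ℤ) (x : V) : sqNorm (a • x) = a ^ 2 * sqNorm x := by
  simp only [sqNorm, mul_sum, mul_pow, Pi.smul_apply, smul_eq_mul]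

theorem sqNorm_two (x : V) : sqNorm (2 • x) = 4 * sqNorm x := by
  rw [two_nsmul, ← two_zsmul, sqNorm_smul]; norm_num

theorem sqNorm_nonneg (x : V) : 0 ≤ sqNorm x := sum_nonneg fun _ _ => sq_nonneg _

theorem sq_le_sqNorm (x : V) (i : GolayPt) : x i ^ 2 ≤ sqNorm x :=
  single_le_sum (f := fun i => x i ^ 2) (fun _ _ => sq_nonneg _) (mem_univ i)

theorem sqNorm_eq_zero {x : V} (h : sqNorm x = 0) : x = 0 := funext fun i => by
  have := sq_le_sqNorm x i
  rw [h] at this
  exact pow_eq_zero_iff (two_ne_zero) |>.1 (le_antisymm this (sq_nonneg _))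

theorem dot_comm (x y : V) : dotInt x y = dotInt y x := sum_congr rfl fun _ _ => mul_comm _ _

theorem dot_self (x : V) : dotInt x x = sqNorm x := sum_congr rfl fun _ _ => (sq _).symm

theorem dot_add (x y z : V) : dotInt x (y + z) = dotInt x y + dotInt x z := by
  simp only [dotInt, mul_add, sum_add_distrib, Pi.add_apply]

theorem dot_neg (x y : V) : dotInt x (-y) = -dotInt x y := by simp only [dotInt, Pi.neg_apply, mul_neg, sum_neg_distrib]

theorem dot_smul (a : ℤ) (x y : V) : dotInt x (a • y) = a * dotInt x y := by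
  simp only [dotInt, mul_sum, mul_left_comm, Pi.smul_apply, smul_eq_mul]

theorem dot_single (x : V) (i : GolayPt) (a : ℤ) : dotInt x (Pi.single i a) = x i * a := by
  simp only [dotInt, Pi.single_apply, mul_ite, mul_zero, sum_ite_eq', mem_univ, if_true]

theorem sqNorm_single (i : GolayPt) (a : ℤ) : sqNorm (Pi.single i a : V) = a ^ 2 := by
  rw [← dot_self, dot_single]; simp [sq]

theorem eight_dvd {x y : V} (hx : x ∈ leechLattice) (hy : y ∈ leechLattice) : (8 : ℤ) ∣ dotInt x y := by
  have a := sixteen_dvd (add_mem hx hy)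
  have b := sixteen_dvd hx
  have c := sixteen_dvd hy
  rw [sqNorm_add] at a; omega

theorem min_norm {x : V} (hx : x ∈ leechLattice) (h0 : x ≠ 0) : 32 ≤ sqNorm x := by
  have d := sixteen_dvd hx
  obtain ⟨m, c, rfl | rfl, h⟩ := exists_01 hx
  · rcases c.eq_empty_or_nonempty with rfl | hc
    · have p : sqNorm x ≠ 0 := fun e => h0 (sqNorm_eq_zero e)
      have p' := sqNorm_nonneg x
      have q : (32 : ℤ) ∣ ∑ i, (x i ^ 2 - 4 * x i) := Finset.dvd_sum fun i _ => by
        have a := h.md i
        simp only [tw, notMem_empty, if_false] at a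
        obtain ⟨k, hk⟩ : ∃ k, x i = 4 * k := ⟨x i / 4, by omega⟩
        obtain ⟨l, hl⟩ := Int.even_mul_pred_self k
        exact ⟨l, by rw [hk]; linear_combination 16 * hl⟩
      rw [sum_sub_distrib, ← mul_sum] at q
      have := h.sum
      change (32 : ℤ) ∣ sqNorm x - _ at q
      omega
    · have q : ∑ i, 2 * tw c i ≤ sqNorm x := sum_le_sum fun i _ => by
        have a := h.md i
        unfold tw at *
        split_ifs at a ⊢
        · rcases (by omega : x i ≤ -2 ∨ 2 ≤ x i) with e | e <;> nlinarith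
        · simpa using sq_nonneg (x i)
      rw [← mul_sum, sum_tw] at q
      have := card_of_mem_gC h.mem
      have := hc.card_pos
      omega
  · have q : ∑ i : GolayPt, (1 : ℤ) ≤ sqNorm x := sum_le_sum fun i _ => by
      have a := h.md i
      unfold tw at *
      have : x i ≠ 0 := by split_ifs at a <;> omega
      have := sq_pos_of_ne_zero this
      omega
    simp only [sum_const, card_univ, card_golayPt] at q
    norm_num at q; omega

theorem congr_short {x y : V} (hx : x ∈ leechLattice) (hy : y ∈ leechLattice) (hxy : x ≠ y)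
    (hxn : sqNorm x ≤ 64) (hyn : sqNorm y ≤ 64) (hc : ∃ z ∈ leechLattice, x - y = 2 • z) :
    x = -y ∨ (sqNorm x = 64 ∧ sqNorm y = 64 ∧ dotInt x y = 0) := by
  obtain ⟨z, hz, e⟩ := hc
  refine or_iff_not_imp_left.2 fun h => ?_
  have a := min_norm hz (fun e' => hxy (sub_eq_zero.1 (by rw [e, e', smul_zero])))
  have e2 : x + y = 2 • (z + y) := by rw [smul_add, ← e, two_nsmul]; abel
  have b := min_norm (add_mem hz hy) (fun e' => h (eq_neg_of_add_eq_zero_left (by rw [e2, e', smul_zero])))
  have c := sqNorm_sub x y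
  have d := sqNorm_add x y
  rw [e, sqNorm_two] at c
  rw [e2, sqNorm_two] at d
  omega

/-- sign change on a code word -/
theorem LS.sign {x : V} {m : ℤ} {c d : Finset GolayPt} (h : LS x m c) (hd : d ∈ gC) :
    (fun i => if i ∈ d then -x i else x i) ∈ leechLattice := by
  have e : (fun i => if i ∈ d then -x i else x i) = x + -(fun i => tw d i * x i) := by
    ext i; simp only [tw, Pi.add_apply, Pi.neg_apply]; split_ifs <;> ring
  rw [e]
  refine add_mem h.lat (neg_mem ?_)
  have k : ∀ i, x i % 2 = m % 2 := fun i => by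
    have := h.md i; unfold tw at this; split_ifs at this <;> omega
  have s : (8 : ℤ) ∣ ∑ i, (tw d i * x i - m * tw d i - 2 * tw (d ∩ c) i) := Finset.dvd_sum fun i _ => by
    have := h.md i
    unfold tw at *
    by_cases h1 : i ∈ d <;> by_cases h2 : i ∈ c <;> simp [h1, h2] at this ⊢ <;> omega
  rw [sum_sub_distrib, sum_sub_distrib, ← mul_sum, ← mul_sum, sum_tw, sum_tw] at s
  obtain ⟨a, ha⟩ := four_dvd hd
  have b := four_dvd (symmDiff_mem_gC hd h.mem)
  have b' := four_dvd h.mem
  have b'' := card_symmDiff d c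
  rw [ha, show m * (2 * (4 * a)) = 8 * (m * a) by ring] at s
  rcases Int.emod_two_eq_zero_or_one m with hm | hm
  · refine (⟨empty_mem_gC, fun i => ?_, by omega⟩ : LS _ 0 ∅).lat
    have := k i
    unfold tw; split_ifs <;> simp_all <;> omega
  · refine (⟨hd, fun i => ?_, by omega⟩ : LS _ 0 d).lat
    have := k i
    unfold tw; split_ifs <;> omega

theorem sign_mem {x : V} (hx : x ∈ leechLattice) {d : Finset GolayPt} (hd : d ∈ gC) :
    (fun i => if i ∈ d then -x i else x i) ∈ leechLattice := by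
  obtain ⟨_, _, -, h⟩ := exists_01 hx
  exact h.sign hd

end Cfsg.Agent.Leech
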