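import Cfsg.Agent.Lib.Leech.HS

/-! The stabiliser of a minimal vector. -/

set_option autoImplicit false
set_option linter.unusedSectionVars false
set_option linter.unusedVariables false

namespace Cfsg.Agent.Leech

open Cfsg.Agent.Spor Cfsg.Agent.PC Finset MulAction
open scoped Pointwise symmDiff commutatorElement

theorem coatom_cls {G X : Type*} [Group G] [MulAction G X] {x : X} (H : Subgroup G) (O : X → ℕ) (K : Finset ℕ) (s : ℕ → ℕ)
    {S : Set X} (hfin : S.Finite) (horb : orbit G x = S) (hO : ∀ y ∈ S, O y ∈ K) (hst : stabilizer G x ≤ H)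
    (hconj : ∀ y ∈ S, ∀ z ∈ S, O y = O z → ∃ a ∈ H, a • y = z) (hs : ∀ k ∈ K, {y | y ∈ S ∧ O y = k}.ncard = s k)
    (hne : H ≠ ⊤) (hH : ∀ a : G, O (a • x) = O x → a ∈ H)
    (ht : ∀ A ∈ K.powerset, O x ∈ A → (∑ k ∈ A, s k) ∣ (∑ k ∈ K, s k) → A = {O x} ∨ A = K) : IsCoatom H := by
  classical
  have hx : x ∈ S := horb ▸ mem_orbit_self x
  refine ⟨hne, fun L hL => ?_⟩
  let A := K.filter fun k => ∃ y ∈ S, O y = k ∧ y ∈ orbit L x
  have hKo : orbit L x = {y | y ∈ S ∧ O y ∈ A} := by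
    ext y
    constructor
    · rintro ⟨a, rfl⟩
      have : (a : G) • x ∈ S := horb ▸ mem_orbit _ _
      exact ⟨this, mem_filter.mpr ⟨hO _ this, _, this, rfl, ⟨a, rfl⟩⟩⟩
    · rintro ⟨hy, h1⟩
      obtain ⟨-, c, hc, h2, ⟨a, h3⟩⟩ := mem_filter.mp h1
      obtain ⟨b, hb, h4⟩ := hconj c hc y hy h2
      refine ⟨⟨b, hL.le hb⟩ * a, ?_⟩
      simp only at h3 ⊢
      rw [mul_smul, h3]; exact h4
  have h1 : (orbit L x).ncard = ∑ k ∈ A, s k := by
    rw [hKo]
    refine ncard_classes O A s (hfin.subset fun y hy => hy.1) (fun y hy => hy.2) fun k hk => ?_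
    rw [← hs k (mem_filter.1 hk).1]
    congr 1; ext y; exact ⟨fun h => ⟨h.1.1, h.2⟩, fun h => ⟨⟨h.1, h.2 ▸ hk⟩, h.2⟩⟩
  have hrel : (orbit L x).ncard = (stabilizer G x).relIndex L := by rw [← index_stabilizer]; rfl
  have hdvd : (∑ k ∈ A, s k) ∣ ∑ k ∈ K, s k := by
    rw [← h1, hrel, ← ncard_classes O K s hfin hO hs, ← horb, ← index_stabilizer,
      ← Subgroup.relIndex_mul_index (hst.trans hL.le)]
    exact dvd_mul_right _ _
  rcases ht A (mem_powerset.mpr (filter_subset _ _)) (mem_filter.mpr ⟨hO x hx, x, hx, rfl, mem_orbit_self _⟩) hdvd with e | e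
  · refine absurd (fun a ha => hH a ?_) hL.not_ge
    have : a • x ∈ orbit L x := ⟨⟨a, ha⟩, rfl⟩
    rw [hKo, e] at this
    exact mem_singleton.1 this.2
  · rw [eq_top_iff]
    intro g _
    have : g • x ∈ orbit L x := by
      have a : g • x ∈ S := horb ▸ mem_orbit _ _
      rw [hKo, e]; exact ⟨a, hO _ a⟩
    obtain ⟨a, ha⟩ := this
    have b : (a : G)⁻¹ * g ∈ stabilizer G x := by
      rw [mem_stabilizer_iff, mul_smul, inv_smul_eq_iff]; exact ha.symm
    simpa using L.mul_mem a.2 (hL.le (hst b))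

/-- sign change -/
def sgn (c : gC) : Co0 := mono 1 c

theorem sgn_mul (c d : gC) : sgn c * sgn d = sgn ⟨c.1 ∆ d.1, symmDiff_mem_gC c.2 d.2⟩ := by
  rw [sgn, sgn, sgn, mono_mul, mul_one]
  congr 2
  rw [OneMemClass.coe_one, one_smul]

theorem sgn_empty : sgn ⟨∅, empty_mem_gC⟩ = 1 := map_one prmH

theorem sgn_sq (c : gC) : sgn c * sgn c = 1 := by
  rw [sgn_mul, ← sgn_empty]; congr 2; exact symmDiff_self _

theorem sgn_inv (c : gC) : (sgn c)⁻¹ = sgn c := inv_eq_of_mul_eq_one_right (sgn_sq c)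

theorem mono_eq (σ : M24) (c : gC) : mono σ c = sgn c * prm σ := by
  rw [sgn, prm, mono_mul, one_mul]
  congr 1
  refine Subtype.ext ?_
  simp only [Finset.smul_finset_empty]; exact (symmDiff_bot _).symm

theorem mono_conj (σ : M24) (d c : gC) : mono σ d * sgn c * (mono σ d)⁻¹ = sgn ⟨σ.1 • c.1, smul_mem_gC σ.2 c.2⟩ := by
  rw [mul_inv_eq_iff_eq_mul, sgn, sgn, mono_mul, mono_mul, mul_one, one_mul]
  congr 2
  rw [OneMemClass.coe_one, one_smul, symmDiff_comm]

theorem sgn_apply (c : gC) (x : L) (i : GolayPt) : (sgn c • x : L).1 i = if i ∈ c.1 then -x.1 i else x.1 i :=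
  mono_apply 1 c x i

def Esub : Subgroup Co0 where
  carrier := {g | ∃ c, g = sgn c}
  one_mem' := ⟨_, sgn_empty.symm⟩
  mul_mem' := by rintro _ _ ⟨c, rfl⟩ ⟨d, rfl⟩; exact ⟨_, sgn_mul c d⟩
  inv_mem' := by rintro _ ⟨c, rfl⟩; exact ⟨c, sgn_inv c⟩

theorem Esub_comm : ∀ a ∈ Esub, ∀ b ∈ Esub, a * b = b * a := by
  rintro _ ⟨c, rfl⟩ _ ⟨d, rfl⟩
  rw [sgn_mul, sgn_mul]; congr 2; exact symmDiff_comm _ _

theorem Esub_conj : ∀ h ∈ Nstd, ∀ a ∈ Esub, h * a * h⁻¹ ∈ Esub := by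
  rintro h hh _ ⟨c, rfl⟩
  obtain ⟨σ, d, rfl⟩ := mem_Nstd_iff.1 hh
  exact ⟨_, mono_conj σ d c⟩

theorem ty_mono (σ : M24) (c : gC) (x : L) : ty (mono σ c • x : L) = ty x := by
  obtain ⟨m, d, -, l⟩ := exists_01 x.2
  have a : (mono σ c • x : L).1 none % 2 = x.1 none % 2 := by
    obtain ⟨i, hi⟩ := exists_smul σ (none : GolayPt)
    have := l.par i
    have := l.par none
    have := mono_apply σ c x i
    rw [← hi] at this
    rw [this]; split_ifs <;> omega
  have b : (∀ i, (mono σ c • x : L).1 i % 4 = 0) ↔ ∀ i, x.1 i % 4 = 0 := by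
    refine ⟨fun h i => ?_, fun h j => ?_⟩
    · have := h (σ • i)
      rw [mono_apply] at this; split_ifs at this <;> omega
    · obtain ⟨i, rfl⟩ := exists_smul σ j
      have := h i
      rw [mono_apply]; split_ifs <;> omega
  simp only [ty, a, b]

def K2 : Subgroup Co0 := stabilizer Co0 X0

def Sp : Set L := {x | sqNorm (x : V) = 32 ∧ dotInt (X0 : V) x = 0}

noncomputable def oP (x : L) : ℕ := if x.1 pa = 0 then (if ∀ i, x.1 i % 4 = 0 then 0 else 8) else (x.1 pa).natAbs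

theorem clsP {x : L} (h : x ∈ Sp) : x.1 pb = -x.1 pa ∧ ((oP x = 0 ∧ x.1 pa = 0 ∧ ty x = 0) ∨ (oP x = 8 ∧ x.1 pa = 0 ∧ ty x = 1) ∨
    (oP x = 4 ∧ (x.1 pa).natAbs = 4 ∧ ty x = 0) ∨ (oP x = 2 ∧ (x.1 pa).natAbs = 2 ∧ ty x = 1) ∨
    (oP x = 1 ∧ (x.1 pa).natAbs = 1 ∧ ty x = 2)) := by
  obtain ⟨h1, h2⟩ := h
  rw [dX0] at h2
  refine ⟨by omega, ?_⟩
  unfold oP
  rcases shape32 x.2 h1 with ⟨s, p, q⟩ | ⟨s, p, q⟩ | ⟨s, q⟩
  · have a := ty_A q
    have b := q.cases pa
    have : ∀ i, x.1 i % 4 = 0 := fun i => by rcases q.cases i with ⟨p, q⟩ | ⟨p, q⟩ <;> omega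
    rw [if_pos this]; split_ifs <;> omega
  · have a := ty_B p q
    have b := q.cases pa
    obtain ⟨i, hi⟩ : s.Nonempty := card_pos.1 (by rw [(mem_octads.1 p).2]; decide)
    rw [if_neg (show ¬ ∀ i, x.1 i % 4 = 0 from fun e => by have := e i; have := q.pos hi; omega)]; split_ifs <;> omega
  · have a := ty_C q
    have b := q.cases pa
    have c := q.cases pb
    simp only [mem_singleton] at b c
    have d : pa = s → pb ≠ s := fun e e' => pab (e.trans e'.symm)
    rw [if_neg (by omega)]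
    rcases b with b | b
    · have := d b.1
      rcases c with c | c
      · exact absurd c.1 this
      · omega
    · omega

theorem exists_swap : ∃ τ : M24, τ • pa = pb ∧ τ • pb = pa := map2 pab pab.symm

theorem prm_swap {τ : M24} (h1 : τ • pa = pb) (h2 : τ • pb = pa) {x y : L} {a b o : ℤ} (h : (x : V) = v3 a b o)
    (h' : (y : V) = v3 b a o) : prm τ • x = y := prm_eq fun i => by
  have e1 : τ • i = pa ↔ i = pb := by rw [← h2, smul_left_cancel_iff]
  have e2 : τ • i = pb ↔ i = pa := by rw [← h1, smul_left_cancel_iff]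
  simp only [h, h', v3, e1, e2]
  split_ifs with p q q
  · exact absurd (q.symm.trans p) pab
  all_goals rfl

theorem smul_Sp {g : Co0} (hg : g ∈ K2) {x : L} (hx : x ∈ Sp) : g • x ∈ Sp :=
  ⟨(norm_smul _ _).trans hx.1, (dot_of hg rfl).trans hx.2⟩

theorem conjP {x y : L} (hx : x ∈ Sp) (hy : y ∈ Sp) (h : oP x = oP y) : ∃ g ∈ K2 ⊓ Nstd, g • x = y := by
  have k : ∀ x ∈ Sp, x.1 pa = y.1 pa → ty x = ty y → ∃ g ∈ K2 ⊓ Nstd, g • x = y := fun x hx h1 h2 => by
    obtain ⟨σ, c, p, q⟩ := conjJ hx.1 hy.1 (J := {pa, pb}) (by rw [pair_card]; decide) (by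
      have := (clsP hx).1
      have := (clsP hy).1
      simp; omega) h2
    exact ⟨_, ⟨mono_fix0 (p _ (by simp)).1 (p _ (by simp)).1 (p _ (by simp)).2 (p _ (by simp)).2 X0_eq, mono_mem _ _⟩, q⟩
  have a := clsP hx
  have b := clsP hy
  by_cases e : x.1 pa = y.1 pa
  · exact k x hx e (by omega)
  obtain ⟨τ, t1, t2⟩ := exists_swap
  have t : prm τ ∈ K2 := prm_swap t1 t2 X0_eq X0_eq
  obtain ⟨g, hg, e⟩ := k _ (smul_Sp t hx) (by rw [← t2, prm_apply, t2]; omega) ((ty_mono _ _ _).trans (by omega))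
  exact ⟨g * prm τ, mul_mem hg ⟨t, mono_mem _ _⟩, by rw [mul_smul, e]⟩

def sP (k : ℕ) : ℕ := if k = 0 then 924 else if k = 8 then 42240 else if k = 4 then 2 else if k = 2 then 4928 else 45056

theorem cntP : ∀ k ∈ ({0, 8, 4, 2, 1} : Finset ℕ), {y | y ∈ Sp ∧ oP y = k}.ncard = sP k := by
  have c := fun (Pa Pb Po : ℤ → Prop) [DecidablePred Pa] [DecidablePred Pb] [DecidablePred Po] =>
    count2 4 4 0 0 Pa Pb Po 5 224 (by decide) (by decide) (by decide) (by decide)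
  simp only [← X0_eq] at c
  have d : ∀ k ∈ ({4, 2, 1} : Finset ℕ), {y | y ∈ Sp ∧ oP y = k}.ncard = sP k := fun k hk => by
    have : ∀ k ∈ ({4, 2, 1} : Finset ℕ), cnt2 4 4 0 (fun t => t.natAbs = k) (fun _ => True) (fun _ => True) 5 224 = sP k := by
      decide +kernel
    rw [← this k hk, ← c]
    simp only [mem_insert, mem_singleton] at hk
    congr 1
    ext y
    simp only [Set.mem_setOf_eq, implies_true, and_true, ← and_assoc]
    exact and_congr_right fun h => by have := clsP h; omega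
  intro k hk
  simp only [mem_insert] at hk
  rcases hk with rfl | rfl | hk
  · refine Eq.trans ?_ ((c (· = 0) (· = 0) (· % 4 = 0)).trans (by decide +kernel))
    congr 1
    ext y
    simp only [Set.mem_setOf_eq, ← and_assoc (a := sqNorm _ = _)]
    refine and_congr_right fun h => ?_
    have := (clsP h).1
    unfold oP
    refine ⟨fun e => ?_, fun ⟨e1, e2, e3⟩ => ?_⟩
    · split_ifs at e with p q
      · exact ⟨p, by omega, fun i _ _ => q i⟩
      · omega
    · rw [if_pos e1, if_pos fun i => ?_]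
      by_cases p : i = pa
      · rw [p, e1]; rfl
      by_cases q : i = pb
      · rw [q, e2]; rfl
      exact e3 i p q
  · refine Eq.trans ?_ ((c (· = 0) (· = 0) (fun t => t ≠ 4 ∧ t ≠ -4)).trans (by decide +kernel))
    congr 1
    ext y
    simp only [Set.mem_setOf_eq, ← and_assoc (a := sqNorm _ = _)]
    refine and_congr_right fun h => ?_
    have a := clsP h
    rcases shape32 y.2 h.1 with ⟨s, p, q⟩ | ⟨s, p, q⟩ | ⟨s, q⟩
    · have b := ty_A q
      refine ⟨fun e => by omega, fun ⟨e1, e2, e3⟩ => ?_⟩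
      obtain ⟨i, hi⟩ : s.Nonempty := card_pos.1 (by omega)
      have := q.pos hi
      have := e3 i (by rintro rfl; omega) (by rintro rfl; omega)
      omega
    · have b := ty_B p q
      exact ⟨fun e => ⟨by omega, by omega, fun i _ _ => by have := q.cases i; omega⟩, fun e => by omega⟩
    · have b := ty_C q
      exact ⟨fun e => by omega, fun e => by omega⟩
  · exact d k (by simpa using hk)

theorem finP : Sp.Finite := finL32.subset fun x hx => hx.1

theorem Y0_P : Y0 ∈ Sp := ⟨nY0, by rw [dX0]; rfl⟩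

theorem orbitP : orbit K2 Y0 = Sp := orbit_eq_of (fun a ha => smul_Sp ha Y0_P) fun y hy => by
  obtain ⟨g, h1, h2⟩ := to_XY X0 y nX0 hy.1 hy.2
  exact ⟨g⁻¹, inv_mem h1, by rw [← h2, inv_smul_smul]⟩

theorem mem_N_iff {g : Co0} (hg : g ∈ K2) : g ∈ Nstd ↔ g • Y0 = Y0 ∨ g • Y0 = -Y0 := by
  rw [mem_Nstd_cl pa, ← XaY, smul_add, show g • X0 = X0 from hg, ← show ((X0 + Y0 : L) : V) = e8 pa from congrArg Subtype.val XaY,
    AddSubgroup.coe_add, AddSubgroup.coe_add, map_add, map_add, add_right_inj]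
  refine ⟨fun h => or_iff_not_imp_left.2 fun n => ?_, ?_⟩
  · have := (norm_smul g Y0).trans nY0
    rcases congr_short (g • Y0).2 Y0.2 (fun e => n (Subtype.ext e)) (by omega) (by rw [nY0]; decide) (cl_eq.1 h) with e | e
    · exact Subtype.ext e
    · omega
  · rintro (e | e) <;> rw [e]
    exact cl_eq.2 ⟨_, neg_mem Y0.2, by rw [two_nsmul, sub_eq_add_neg]; rfl⟩

def H2 : Subgroup K2 := Nstd.subgroupOf K2

theorem oP_four {x : L} (h : x ∈ Sp) (e : oP x = 4) : x = Y0 ∨ x = -Y0 := by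
  have a := clsP h
  rcases (by omega : x.1 pa = 4 ∨ x.1 pa = -4) with b | b
  · exact Or.inl (eq_of_v3 (h.1.trans rfl) b (by omega) Y0_eq)
  · exact Or.inr (eq_of_v3 (a := -4) (b := 4) (h.1.trans rfl) b (by omega) (v3_neg _ _ _))

theorem exists_P (k : ℕ) (hk : k ∈ ({0, 8, 4, 2, 1} : Finset ℕ)) : ∃ y ∈ Sp, oP y = k :=
  Set.nonempty_of_ncard_ne_zero ((cntP k hk).trans_ne (by unfold sP; split_ifs <;> decide))

theorem oY : oP Y0 = 4 := rfl

theorem H2_coatom : IsCoatom H2 := by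
  refine coatom_cls H2 oP {0, 8, 4, 2, 1} sP finP orbitP (fun y hy => ?_) (fun a ha => (mem_N_iff a.2).2 (Or.inl ha))
    (fun y hy z hz e => let ⟨g, h1, h2⟩ := conjP hy hz e; ⟨⟨g, h1.1⟩, h1.2, h2⟩) cntP (fun e => ?_)
    (fun a ha => (mem_N_iff a.2).2 (oP_four (smul_Sp a.2 Y0_P) ha)) (by rw [oY]; decide)
  · have := clsP hy
    simp only [mem_insert, mem_singleton]; omega
  · obtain ⟨y, hy, h⟩ := exists_P 1 (by decide)
    obtain ⟨a, rfl⟩ : y ∈ orbit K2 Y0 := orbitP ▸ hy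
    have : a ∈ H2 := e ▸ Subgroup.mem_top a
    rcases (mem_N_iff a.2).1 this with e | e <;> · change oP (a.1 • Y0) = 1 at h; rw [e] at h; exact absurd h (by decide)

theorem S2_apply (i j : GolayPt) (k : GolayPt) : (S2 i j 4 4).1 k = (if k = i then 4 else 0) + if k = j then 4 else 0 := by
  simp only [S2, Pi.add_apply, Pi.single_apply]

theorem mono_diag {σ : M24} {c : gC} {J : Finset GolayPt} (hJ : J.card ≤ 2)
    (h : ∀ i j, i ∉ J → j ∉ J → i ≠ j → mono σ c • S2 i j 4 4 = S2 i j 4 4 ∨ mono σ c • S2 i j 4 4 = -S2 i j 4 4) :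
    (∀ i ∉ J, σ • i = i) ∧ ∀ i ∉ J, ∀ j ∉ J, (i ∈ c.1 ↔ j ∈ c.1) := by
  have k : ∀ i j, i ∉ J → j ∉ J → i ≠ j → σ • i = i ∨ σ • i = j := fun i j hi hj n => by
    have := mono_apply σ c (S2 i j 4 4) i
    by_contra! e
    rcases h i j hi hj n with a | a <;> rw [a] at this <;>
      simp only [AddSubgroup.coe_neg, Pi.neg_apply, S2_apply, e.1, e.2, n, if_true, if_false] at this <;>
      split_ifs at this <;> omega
  have f : ∀ i ∉ J, σ • i = i := fun i hi => by
    obtain ⟨j, hj, j', hj', n⟩ := one_lt_card.1 (show 1 < (insert i J)ᶜ.card by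
      have := card_insert_le i J
      rw [card_compl, card_golayPt]; omega)
    simp only [mem_compl, mem_insert, not_or] at hj hj'
    by_contra e
    exact n (((k i j hi hj.2 (Ne.symm hj.1)).resolve_left e).symm.trans ((k i j' hi hj'.2 (Ne.symm hj'.1)).resolve_left e))
  refine ⟨f, fun i hi j hj => ?_⟩
  by_cases n : i = j
  · rw [n]
  have a := mono_apply σ c (S2 i j 4 4) i
  have b := mono_apply σ c (S2 i j 4 4) j
  rw [f i hi] at a
  rw [f j hj] at b
  rcases h i j hi hj n with e | e <;> rw [e] at a b <;>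
    simp only [AddSubgroup.coe_neg, Pi.neg_apply, S2_apply, n, Ne.symm n, if_true, if_false] at a b <;>
    split_ifs at a b with p q q <;> simp only [p, q] <;> omega

theorem eq_one22 {σ : M24} (h : ∀ i ∉ ({pa, pb} : Finset GolayPt), σ • i = i) : σ = 1 := by
  have k : ∀ a b : GolayPt, a ≠ b → (∀ i, i ≠ a → i ≠ b → σ • i = i) → σ • a = a := fun a b n h => by
    obtain ⟨c, h1, h2, h3⟩ := exists_sep n
    have e := smul_eq_of_fix (g := σ) (S := c.erase a) (fun p hp => h p (mem_erase.1 hp).1 fun e => h3 (e ▸ (mem_erase.1 hp).2))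
      h1 (by rw [inter_eq_right.2 (erase_subset _ _), card_erase_of_mem h2]; omega)
    by_contra m
    have := h _ m fun e' => h3 (e' ▸ e ▸ smul_mem_smul_finset h2)
    exact m (smul_left_cancel _ this)
  simp only [mem_insert, mem_singleton, not_or, and_imp] at h
  refine eq_of_smul_eq_smul (α := GolayPt) fun i => ?_
  rw [one_smul]
  by_cases p : i = pa
  · exact p ▸ k _ _ pab h
  by_cases q : i = pb
  · exact q ▸ k _ _ pab.symm fun i a b => h i b a
  exact h i p q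

theorem mono_X0 {σ : M24} {c : gC} (h : mono σ c • X0 = X0) :
    pa ∉ c.1 ∧ pb ∉ c.1 ∧ ((σ • pa = pa ∧ σ • pb = pb) ∨ (σ • pa = pb ∧ σ • pb = pa)) := by
  have k : ∀ i, X0.1 i = 4 → (σ • i = pa ∨ σ • i = pb) ∧ σ • i ∉ c.1 := fun i hi => by
    have := mono_apply σ c X0 i
    rw [h, hi, X0_eq] at this
    unfold v3 at this
    by_cases p : σ • i = pa
    · exact ⟨Or.inl p, fun q => by rw [if_pos p, if_pos q] at this; omega⟩
    by_cases r : σ • i = pb
    · exact ⟨Or.inr r, fun q => by rw [if_neg p, if_pos r, if_pos q] at this; omega⟩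
    rw [if_neg p, if_neg r] at this
    split_ifs at this <;> omega
  obtain ⟨a1 | a1, a2⟩ := k pa rfl <;> obtain ⟨b1 | b1, b2⟩ := k pb rfl
  · exact absurd (smul_left_cancel _ (a1.trans b1.symm)) pab
  · exact ⟨a1 ▸ a2, b1 ▸ b2, Or.inl ⟨a1, b1⟩⟩
  · exact ⟨b1 ▸ b2, a1 ▸ a2, Or.inr ⟨a1, b1⟩⟩
  · exact absurd (smul_left_cancel _ (a1.trans b1.symm)) pab

theorem H2_core : H2.normalCore = ⊥ := by
  refine eq_bot_iff.2 fun g hg => ?_
  obtain ⟨σ, c, e⟩ := mem_Nstd_iff.1 (H2.normalCore_le hg)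
  obtain ⟨h1, h2⟩ := mono_diag (σ := σ) (c := c) pair_card.le fun i j hi hj n => by
    simp only [mem_insert, mem_singleton, not_or] at hi hj
    have hS : S2 i j 4 4 ∈ Sp := ⟨nS2 n _, by
      rw [dX0, S2_apply, S2_apply]; simp only [Ne.symm hi.1, Ne.symm hi.2, Ne.symm hj.1, Ne.symm hj.2, if_false]; rfl⟩
    obtain ⟨a, ha⟩ := orbitP.ge hS
    have := (mem_N_iff (a⁻¹ * g * a⁻¹⁻¹).2).1 (hg a⁻¹)
    change a.1 • Y0 = _ at ha
    simp only [inv_inv, Subgroup.coe_mul, Subgroup.coe_inv, mul_smul, inv_smul_eq_iff, smul_neg, ha] at this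
    exact e ▸ this
  obtain rfl := eq_one22 h1
  obtain ⟨p1, p2, -⟩ := mono_X0 (e ▸ g.2 : mono 1 c • X0 = X0)
  have : c = ⟨∅, empty_mem_gC⟩ := Subtype.ext (eq_empty_of_forall_notMem fun i hi => by
    have a : c.1 = {pa, pb}ᶜ := Finset.ext fun j => by
      have b : ∀ j ∈ c.1, j ∉ ({pa, pb} : Finset GolayPt) := fun j hj => by
        simp only [mem_insert, mem_singleton, not_or]; exact ⟨fun e => p1 (e ▸ hj), fun e => p2 (e ▸ hj)⟩
      exact ⟨fun h => mem_compl.2 (b j h), fun h => (h2 i (b i hi) j (mem_compl.1 h)).1 hi⟩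
    have b := card_of_mem_gC c.2
    rw [a, card_compl, card_golayPt, pair_card] at b; omega)
  exact Subtype.ext (e.trans (this ▸ sgn_empty))

theorem sgn_good {D : Subgroup Co0} (h : ∀ σ ∈ M22s, ∀ c : gC, pa ∉ c.1 → pb ∉ c.1 → ⁅sgn c, prm σ⁆ ∈ D) (c : gC)
    (ha : pa ∉ c.1) (hb : pb ∉ c.1) : sgn c ∈ D := by
  have k : ∀ c d : gC, pa ∉ c.1 → pb ∉ c.1 → (∃ g : M24, g • pa = pa ∧ g • pb = pb ∧ g • c.1 = d.1) → sgn c * sgn d ∈ D := by
    rintro c d h1 h2 ⟨σ, p1, p2, p3⟩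
    have := h σ ⟨p1, p2⟩ c h1 h2
    rw [commutatorElement_def, sgn_inv, mul_assoc, mul_assoc, ← mul_assoc (prm σ), prm, mono_conj] at this
    rwa [show d = ⟨σ.1 • c.1, smul_mem_gC σ.2 c.2⟩ from Subtype.ext p3.symm]
  have o : ∀ c d : gC, c.1.card = 8 → d.1.card = 8 → pa ∉ c.1 → pb ∉ c.1 → pa ∉ d.1 → pb ∉ d.1 → sgn c * sgn d ∈ D :=
    fun c d p1 p2 p3 p4 p5 p6 => k c d p3 p4 (map_pts_cw pab pab (Or.inl ⟨mem_octads.2 ⟨c.2, p1⟩, mem_octads.2 ⟨d.2, p2⟩⟩)
      (iff_of_false p3 p5) (iff_of_false p4 p6))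
  have b : ∀ n, n < 2 ^ 24 → syn n = 0 → pop n = 8 → pa ∉ bset n → pb ∉ bset n → ∃ h, sgn ⟨bset (4845570 ^^^ n), h⟩ ∈ D :=
    fun n p1 p2 p3 p4 p5 => by
      have := o ⟨bset 4845570, (bset_mem_gC (by decide)).2 (by decide +kernel)⟩ ⟨bset n, (bset_mem_gC p1).2 p2⟩
        (by rw [card_bset]; decide +kernel) (by rw [card_bset, p3]) (by decide) (by decide) p4 p5
      rw [sgn_mul] at this
      simp only [← bset_xor] at this
      exact ⟨_, this⟩
  rcases card_of_mem_gC c.2 with e | e | e | e | e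
  · rw [show c = ⟨∅, empty_mem_gC⟩ from Subtype.ext (card_eq_zero.1 e), sgn_empty]; exact one_mem _
  · obtain ⟨p, q⟩ := b 7221256 (by decide) (by decide +kernel) (by decide +kernel) (by decide) (by decide)
    exact (mul_mem_cancel_right q).1 (o c _ e (by rw [card_bset]; decide +kernel) ha hb
      (show pa ∉ bset (4845570 ^^^ 7221256) by decide) (show pb ∉ bset (4845570 ^^^ 7221256) by decide))
  · obtain ⟨p, q⟩ := b 5652556 (by decide) (by decide +kernel) (by decide +kernel) (by decide) (by decide)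
    exact (mul_mem_cancel_right q).1 (k c _ ha hb (map_pts_cw pab pab (Or.inr ⟨mem_dodecads.2 ⟨c.2, e⟩,
      mem_dodecads.2 ⟨p, by rw [card_bset]; decide +kernel⟩⟩) (iff_of_false ha (show pa ∉ bset (4845570 ^^^ 5652556) by decide))
      (iff_of_false hb (show pb ∉ bset (4845570 ^^^ 5652556) by decide))))
  · obtain ⟨p, q⟩ := b 3539848 (by decide) (by decide +kernel) (by decide +kernel) (by decide) (by decide)
    obtain ⟨g, p1, p2, p3⟩ := map_pts_cw pab pab (Or.inl ⟨mem_octads.2 ⟨compl_mem_gC c.2, by rw [card_compl, e]; rfl⟩,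
      mem_octads.2 ⟨compl_mem_gC p, by rw [card_compl, card_bset]; decide +kernel⟩⟩)
      (iff_of_true (mem_compl.2 ha) (by decide)) (iff_of_true (mem_compl.2 hb) (by decide))
    exact (mul_mem_cancel_right q).1 (k c _ ha hb ⟨g, p1, p2, compl_injective ((msmul_compl _ _).symm.trans p3)⟩)
  · exact absurd (((card_eq_iff_eq_univ _).1 (e.trans card_golayPt.symm)) ▸ mem_univ _) ha

end Cfsg.Agent.Leech
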