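import Cfsg.Agent.Lib.Leech.Basic

/-! Counting short vectors of the rank 24 lattice by a generating function. -/

set_option autoImplicit false
set_option linter.unusedSectionVars false
set_option linter.unusedVariables false

namespace Cfsg.Agent.Leech

open Cfsg.Agent.Spor Cfsg.Agent.PC Finset
open scoped symmDiff

theorem kron {α : Type*} (s : Finset α) (g : α → ℕ) (B N : ℕ) (hB : s.card < B) :
    (∑ x ∈ s, B ^ g x) / B ^ N % B = (s.filter fun x => g x = N).card := by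
  have hp : 0 < B := by omega
  have e : ∑ x ∈ s, B ^ g x = (∑ x ∈ s, if g x < N then B ^ g x else 0) +
      B ^ N * ((s.filter fun x => g x = N).card + B * ∑ x ∈ s, if N < g x then B ^ (g x - N - 1) else 0) := by
    rw [card_filter, mul_sum, ← sum_add_distrib, mul_sum, ← sum_add_distrib]
    refine sum_congr rfl fun x _ => ?_
    rcases lt_trichotomy (g x) N with h | h | h
    · simp [h, h.ne, h.not_gt]
    · simp [h]
    · obtain ⟨k, hk⟩ : ∃ k, g x = N + k + 1 := ⟨g x - N - 1, by omega⟩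
      rw [if_neg h.not_gt, if_neg h.ne', if_pos h, hk, show N + k + 1 - N - 1 = k by omega]
      ring
  have l : (∑ x ∈ s, if g x < N then B ^ g x else 0) < B ^ N := by
    rcases N with _ | N
    · simp
    · refine lt_of_le_of_lt (sum_le_card_nsmul _ _ (B ^ N) fun x _ => ?_) ?_
      · split_ifs with h
        · exact Nat.pow_le_pow_right hp (by omega)
        · exact Nat.zero_le _
      · rw [smul_eq_mul, pow_succ']
        exact Nat.mul_lt_mul_of_lt_of_le hB le_rfl (by positivity)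
  rw [e, Nat.add_mul_div_left _ _ (by positivity), Nat.div_eq_of_lt l, zero_add, Nat.add_mul_mod_self_left,
    Nat.mod_eq_of_lt (lt_of_le_of_lt (card_filter_le _ _) hB)]

noncomputable def cls (k : ℕ) : ℕ := frc (cw k) fun n =>
  Nat.add (Nat.mul (nat_lit 4) (pop (Nat.land n (nat_lit 8388606))))
    (Nat.add (Nat.mul (nat_lit 2) (Nat.land (Nat.shiftRight n (nat_lit 23)) (nat_lit 1))) (Nat.land n (nat_lit 1)))

def hist (j : ℕ) : ℕ := 0x800000000000000000000000000000000000000000000000000000000000000000000000000000000000004d00002c01600000a50000000000000000000000000000000002680000a8054000013400000000000000000000000000000000014a00002c01600000268000000000000000000000000000000000000000000000000000000000000000000000000000000000000001 / 8192 ^ j % 8192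

theorem hist_chk : upTo (fun k => Nat.pow (nat_lit 8192) (cls k)) 4096 = 0x800000000000000000000000000000000000000000000000000000000000000000000000000000000000004d00002c01600000a50000000000000000000000000000000002680000a8054000013400000000000000000000000000000000014a00002c01600000268000000000000000000000000000000000000000000000000000000000000000000000000000000000000001 := by decide +kernel

theorem cls_def (k : ℕ) : cls k = 4 * pop (cw k &&& 8388606) + (2 * ((cw k >>> 23) &&& 1) + (cw k &&& 1)) := rfl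

def pa : GolayPt := none
def pb : GolayPt := some 0
def rest : Finset GolayPt := (univ.erase pa).erase pb

theorem bset_rest : bset 8388606 = rest := by decide +kernel

theorem card_rest : rest.card = 22 := by decide +kernel

theorem cls_spec (k : ℕ) : cls k / 4 = (cwd k ∩ rest).card ∧ tw (cwd k) pa = 2 * (cls k / 2 % 2 : ℕ) ∧
    tw (cwd k) pb = 2 * (cls k % 2 : ℕ) := by
  have a : (cw k >>> 23) &&& 1 < 2 := by rw [Nat.and_one_is_mod]; omega
  have b : cw k &&& 1 < 2 := by rw [Nat.and_one_is_mod]; omega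
  refine ⟨?_, ?_, ?_⟩
  · rw [cwd, ← bset_rest, ← bset_and, card_bset, cls_def]; omega
  · have : cls k / 2 % 2 = (cw k >>> 23) &&& 1 := by rw [cls_def]; omega
    rw [this, tw, cwd]
    simp only [mem_bset, show gi pa = 23 from rfl, Nat.testBit, Nat.and_one_is_mod, Nat.one_and_eq_mod_two]
    rcases Nat.mod_two_eq_zero_or_one (cw k >>> 23) with h | h <;> simp [h]
  · have : cls k % 2 = cw k &&& 1 := by rw [cls_def]; omega
    rw [this, tw, cwd]
    simp only [mem_bset, show gi pb = 0 from rfl, Nat.testBit, Nat.and_one_is_mod, Nat.one_and_eq_mod_two,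
      Nat.shiftRight_zero]
    rcases Nat.mod_two_eq_zero_or_one (cw k) with h | h <;> simp [h]

theorem cls_lt (k : ℕ) : cls k < 92 := by
  have a := (cls_spec k).1
  have b : (cwd k ∩ rest).card ≤ 22 := card_rest ▸ card_le_card inter_subset_right
  omega

theorem sum_cls (F : ℕ → ℤ) : ∑ k ∈ range 4096, F (cls k) = ∑ j ∈ range 92, hist j * F j := by
  rw [← sum_fiberwise_of_maps_to' (g := cls) (t := range 92) (fun k _ => mem_range.2 (cls_lt k))]
  refine sum_congr rfl fun j _ => ?_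
  rw [sum_const, nsmul_eq_mul, ← kron (range 4096) cls 8192 j (by simp), hist, ← hist_chk, upTo_eq]
  rfl

def sel3 (fa fb fo : ℤ → ℕ) (i : GolayPt) : ℤ → ℕ := if i = pa then fa else if i = pb then fb else fo

def PP (f : ℤ → ℕ) (e r : ℤ) : ℤ := ∑ k ∈ range 5, e ^ k * ((2 ^ 70) ^ f (4 * k - 8 + r) : ℕ)

def FF (fa fb fo : ℤ → ℕ) (e m : ℤ) (j : ℕ) : ℤ :=
  PP fa e (m + 2 * (j / 2 % 2 : ℕ)) * (PP fb e (m + 2 * (j % 2 : ℕ)) * (PP fo e (m + 2) ^ (j / 4) * PP fo e m ^ (22 - j / 4)))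

theorem prod_PP (fa fb fo : ℤ → ℕ) (e m : ℤ) (k : ℕ) :
    ∏ i, PP (sel3 fa fb fo i) e (m + tw (cwd k) i) = FF fa fb fo e m (cls k) := by
  obtain ⟨h1, h2, h3⟩ := cls_spec k
  rw [← mul_prod_erase _ _ (mem_univ pa), ← mul_prod_erase _ _ (show pb ∈ univ.erase pa by decide), FF, h1, h2, h3]
  have e1 : ∏ i ∈ rest, PP (sel3 fa fb fo i) e (m + tw (cwd k) i) =
      ∏ i ∈ rest, if i ∈ cwd k then PP fo e (m + 2) else PP fo e m := prod_congr rfl fun i hi => by
    simp only [rest, mem_erase] at hi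
    simp only [sel3, hi.1, hi.2.1, if_false, tw]
    split_ifs <;> simp
  have e2 : rest.filter (· ∈ cwd k) = cwd k ∩ rest := by rw [filter_mem_eq_inter, inter_comm]
  have e3 := card_filter_add_card_filter_not (s := rest) (· ∈ cwd k)
  rw [card_rest, e2] at e3
  change _ * (_ * ∏ i ∈ rest, _) = _
  rw [e1, prod_ite, prod_const, prod_const, e2, show (rest.filter fun i => ¬ i ∈ cwd k).card = 22 - (cwd k ∩ rest).card by omega]
  simp [sel3, show pb ≠ pa by decide]

def GG (fa fb fo : ℤ → ℕ) : ℤ :=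
  ∑ j ∈ range 92, hist j * ((FF fa fb fo 1 0 j + FF fa fb fo (-1) 0 j) + (FF fa fb fo 1 1 j - FF fa fb fo (-1) 1 j))

noncomputable def vec (d : ℕ × ℕ × (GolayPt → ℕ)) : V := fun i => 4 * d.2.2 i - 8 + (d.1 + tw (cwd d.2.1) i)

noncomputable def DD' (n : ℕ) : Finset (ℕ × ℕ × (GolayPt → ℕ)) :=
  (range 2 ×ˢ range n ×ˢ Fintype.piFinset fun _ => range 5).filter fun d => (∑ i, d.2.2 i) % 2 = d.1

theorem mem_DD' {n : ℕ} {d : ℕ × ℕ × (GolayPt → ℕ)} :
    d ∈ DD' n ↔ (d.1 < 2 ∧ d.2.1 < n ∧ ∀ i, d.2.2 i < 5) ∧ (∑ i, d.2.2 i) % 2 = d.1 := by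
  simp only [DD', mem_filter, mem_product, mem_range, Fintype.mem_piFinset]

theorem card_DD' (n : ℕ) : (DD' n).card ≤ 2 * (n * 5 ^ 24) := by
  refine (card_filter_le _ _).trans ?_
  simp only [card_product, card_range, Fintype.card_piFinset, prod_const, card_univ, card_golayPt, le_refl]

@[irreducible] noncomputable def DD : Finset (ℕ × ℕ × (GolayPt → ℕ)) := DD' 4096

theorem DD_eq : DD = DD' 4096 := by unfold DD; rfl

theorem mem_DD {d : ℕ × ℕ × (GolayPt → ℕ)} :
    d ∈ DD ↔ (d.1 < 2 ∧ d.2.1 < 4096 ∧ ∀ i, d.2.2 i < 5) ∧ (∑ i, d.2.2 i) % 2 = d.1 := by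
  rw [DD_eq]; exact mem_DD'

theorem card_DD : DD.card < 2 ^ 70 := by
  rw [DD_eq]; exact lt_of_le_of_lt (card_DD' _) (by norm_num)

theorem sum_vec (d : ℕ × ℕ × (GolayPt → ℕ)) :
    ∑ i, vec d i = 4 * (∑ i, d.2.2 i : ℕ) - 192 + (24 * d.1 + 2 * (cwd d.2.1).card) := by
  simp only [vec, sum_add_distrib, sum_sub_distrib, ← mul_sum, sum_tw, sum_const, card_univ, card_golayPt,
    Nat.cast_sum, nsmul_eq_mul]
  norm_num

theorem vec_mem {d : ℕ × ℕ × (GolayPt → ℕ)} (h : d ∈ DD) : vec d ∈ leechLattice := by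
  obtain ⟨⟨h1, h2, h3⟩, h4⟩ := mem_DD.1 h
  refine (⟨cwd_mem h2, fun i => by unfold vec; omega, ?_⟩ : LS _ d.1 (cwd d.2.1)).lat
  have := four_dvd (cwd_mem h2)
  rw [sum_vec]; omega

theorem vec_inj : Set.InjOn vec DD := by
  rintro ⟨m, c, k⟩ h ⟨m', c', k'⟩ h' e
  obtain ⟨⟨h1, h2, h3⟩, h4⟩ := mem_DD.1 h
  obtain ⟨⟨h1', h2', h3'⟩, h4'⟩ := mem_DD.1 h'
  have a : ∀ i, m = m' ∧ k i = k' i ∧ (i ∈ cwd c ↔ i ∈ cwd c') := fun i => by
    have := congrFun e i
    simp only [vec, tw] at this h1 h1'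
    split_ifs at this with p q q <;> simp only [p, q, iff_self, and_true] <;> omega
  exact Prod.ext (a pa).1 (Prod.ext (cwd_inj _ h2 _ h2' (Finset.ext fun i => (a i).2.2)) (funext fun i => (a i).2.1))

theorem exists_vec {x : V} (hx : x ∈ leechLattice) (hb : ∀ i, -8 ≤ x i ∧ x i ≤ 8) : ∃ d ∈ DD, vec d = x := by
  obtain ⟨m, c, hm, h⟩ := exists_01 hx
  obtain ⟨k, hk, rfl⟩ := exists_cwd h.mem
  have e : vec (m.toNat, k, fun i => ((x i + 8) / 4).toNat) = x := funext fun i => by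
    have := h.md i
    have := hb i
    simp only [vec, tw] at *
    split_ifs at * <;> omega
  refine ⟨_, mem_DD.2 ⟨⟨by dsimp only; omega, hk, fun i => by have := hb i; dsimp only; omega⟩, ?_⟩, e⟩
  have a := sum_vec (m.toNat, k, fun i => ((x i + 8) / 4).toNat)
  have b := h.sum
  have := four_dvd h.mem
  rw [e] at a
  dsimp only at a ⊢
  omega

theorem sum_DD (fa fb fo : ℤ → ℕ) :
    2 * ((∑ d ∈ DD, (2 ^ 70) ^ (∑ i, sel3 fa fb fo i (vec d i)) : ℕ) : ℤ) = GG fa fb fo := by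
  have key : ∀ (e : ℤ) (m k : ℕ), FF fa fb fo e m (cls k) = ∑ x ∈ Fintype.piFinset fun _ : GolayPt => range 5,
      e ^ (∑ i, x i) * (((2 ^ 70) ^ (∑ i, sel3 fa fb fo i (vec (m, k, x) i)) : ℕ) : ℤ) := fun e m k => by
    rw [← prod_PP]
    simp only [PP]
    rw [prod_univ_sum]
    refine sum_congr rfl fun x _ => ?_
    rw [prod_mul_distrib, prod_pow_eq_pow_sum, ← Nat.cast_prod, prod_pow_eq_pow_sum]
    rfl
  rw [GG, ← sum_cls fun j => (FF fa fb fo 1 0 j + FF fa fb fo (-1) 0 j) + (FF fa fb fo 1 1 j - FF fa fb fo (-1) 1 j),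
    DD_eq]
  generalize 4096 = n
  rw [DD', Nat.cast_sum, sum_filter, sum_product, sum_range_succ, sum_range_one, sum_product, sum_product,
    ← sum_add_distrib, mul_sum]
  refine sum_congr rfl fun k _ => ?_
  have a := key 1 0 k
  have b := key (-1) 0 k
  have c := key 1 1 k
  have d := key (-1) 1 k
  rw [Nat.cast_zero] at a b
  rw [Nat.cast_one] at c d
  rw [a, b, c, d, ← sum_add_distrib, ← sum_add_distrib, ← sum_sub_distrib, ← sum_add_distrib, mul_sum]
  refine sum_congr rfl fun x _ => ?_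
  dsimp only
  rcases Nat.even_or_odd (∑ i, x i) with h | h
  · rw [h.neg_one_pow, if_pos (Nat.even_iff.1 h), if_neg (by rw [Nat.even_iff.1 h]; decide)]; ring
  · rw [h.neg_one_pow, if_neg (by rw [Nat.odd_iff.1 h]; decide), if_pos (Nat.odd_iff.1 h)]; ring

theorem count (fa fb fo : ℤ → ℕ) (N : ℕ) (ha : ∀ t, fa t ≤ N → -8 ≤ t ∧ t ≤ 8) (hb : ∀ t, fb t ≤ N → -8 ≤ t ∧ t ≤ 8)
    (ho : ∀ t, fo t ≤ N → -8 ≤ t ∧ t ≤ 8) :
    {x : V | x ∈ leechLattice ∧ ∑ i, sel3 fa fb fo i (x i) = N}.ncard = (GG fa fb fo / 2).toNat / (2 ^ 70) ^ N % 2 ^ 70 := by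
  rw [← sum_DD, Int.mul_ediv_cancel_left _ two_ne_zero, Int.toNat_natCast, kron _ _ _ _ card_DD,
    ← card_image_of_injOn (vec_inj.mono (coe_subset.2 (filter_subset _ _))), ← Set.ncard_coe_finset]
  congr 1
  ext x
  simp only [Set.mem_setOf_eq, coe_image, Set.mem_image, mem_coe, mem_filter]
  refine ⟨fun ⟨h1, h2⟩ => ?_, fun ⟨d, ⟨h1, h2⟩, e⟩ => e ▸ ⟨vec_mem h1, h2⟩⟩
  obtain ⟨d, hd, rfl⟩ := exists_vec h1 fun i => by
    have := single_le_sum (f := fun i => sel3 fa fb fo i (x i)) (fun _ _ => Nat.zero_le _) (mem_univ i)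
    rw [h2] at this
    unfold sel3 at this
    split_ifs at this
    exacts [ha _ this, hb _ this, ho _ this]
  exact ⟨d, ⟨hd, h2⟩, rfl⟩

theorem count1 (f : ℤ → ℕ) (N : ℕ) (h : ∀ t, f t ≤ N → -8 ≤ t ∧ t ≤ 8) :
    {x : V | x ∈ leechLattice ∧ ∑ i, f (x i) = N}.ncard = (GG f f f / 2).toNat / (2 ^ 70) ^ N % 2 ^ 70 := by
  rw [← count f f f N h h h]
  simp only [sel3, ite_self]

theorem sqNorm_eq_iff (x : V) (N : ℕ) : sqNorm x = N ↔ ∑ i, (x i).natAbs ^ 2 = N := by
  rw [← Nat.cast_inj (R := ℤ), Nat.cast_sum]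
  simp only [sqNorm, Nat.cast_pow, Int.natAbs_sq, Nat.cast_natAbs, Int.cast_abs, Int.cast_id, sq_abs]

theorem count_norm (N : ℕ) (h : N ≤ 64) : {x : V | x ∈ leechLattice ∧ sqNorm x = N}.ncard =
    (GG (fun t => t.natAbs ^ 2) (fun t => t.natAbs ^ 2) (fun t => t.natAbs ^ 2) / 2).toNat / (2 ^ 70) ^ N % 2 ^ 70 := by
  rw [← count1 _ N fun t ht => ?_]
  · simp only [sqNorm_eq_iff]
  · have : t.natAbs ≤ 8 := by nlinarith
    omega

theorem count32 : {x : V | x ∈ leechLattice ∧ sqNorm x = 32}.ncard = 196560 :=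
  (count_norm 32 (by decide)).trans (by decide +kernel)

theorem count48 : {x : V | x ∈ leechLattice ∧ sqNorm x = 48}.ncard = 16773120 :=
  (count_norm 48 (by decide)).trans (by decide +kernel)

theorem count64 : {x : V | x ∈ leechLattice ∧ sqNorm x = 64}.ncard = 398034000 :=
  (count_norm 64 (by decide)).trans (by decide +kernel)

end Cfsg.Agent.Leech
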