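import Cfsg.Agent.Lib.Leech.Basic

/-! Index computations for the rank 24 lattice. -/

set_option autoImplicit false
set_option linter.unusedSectionVars false
set_option linter.unusedVariables false

namespace Cfsg.Agent.Leech

open Cfsg.Agent.Spor Cfsg.Agent.PC Finset
open scoped symmDiff

abbrev mulN (n : ℕ) : V →+ V := nsmulAddMonoidHom n

theorem mulN_apply (n : ℕ) (x : V) (i : GolayPt) : mulN n x i = n * x i := by simp

theorem mulN_inj {n : ℕ} (h : n ≠ 0) : Function.Injective (mulN n) := fun x y e => funext fun i => by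
  have := congrFun e i
  rw [mulN_apply, mulN_apply] at this
  exact mul_left_cancel₀ (by exact_mod_cast h) this

theorem index_mulN (H : AddSubgroup V) {n : ℕ} (h : n ≠ 0) : (H.map (mulN n)).index = H.index * n ^ 24 := by
  rw [AddSubgroup.index_map_of_injective _ (mulN_inj h), AddSubgroup.index_range_nsmul, Module.finrank_fintype_fun_eq_card,
    card_golayPt]

theorem card_golayCode : Nat.card golayCode = 4096 := by
  have e : (golayCode : Set (GolayPt → ZMod 2)) = (fun k => wd (cw k)) '' {d | d < 4096 ∧ True} := by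
    ext w
    exact ⟨fun h => let ⟨k, hk, e⟩ := exists_cw_of_mem h; ⟨k, ⟨hk, trivial⟩, e⟩, fun ⟨k, hk, e⟩ => e ▸ wd_cw hk.1⟩
  have i : Inj (fun k => wd (cw k)) 4096 := fun a ha b hb e => cwd_inj a ha b hb (by
    have := congrArg support₂ e
    rwa [support_wd, support_wd] at this)
  have := i.ncard_image fun _ => True
  rw [← e, filter_true, card_range] at this
  exact this

def red : V →+ (GolayPt → ZMod 2) := (Int.castAddHom (ZMod 2)).compLeft GolayPt

theorem red_surj : Function.Surjective red := fun w => ⟨fun i => (w i).val, funext fun i => by simp [red]⟩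

theorem mem_support_red {y : V} {i : GolayPt} : i ∈ support₂ (red y) ↔ y i % 2 = 1 := by
  simp only [support₂, mem_filter, mem_univ, true_and, red, AddMonoidHom.compLeft_apply, Function.comp_apply,
    Int.coe_castAddHom, ne_eq, ZMod.intCast_zmod_eq_zero_iff_dvd]
  omega

def cA : AddSubgroup V := golayCode.toAddSubgroup.comap red

theorem index_cA : cA.index = 2 ^ 12 := by
  rw [cA, AddSubgroup.index_comap_of_surjective _ red_surj]
  have := golayCode.toAddSubgroup.card_mul_index
  rw [show Nat.card golayCode.toAddSubgroup = 4096 from card_golayCode, Nat.card_fun, Nat.card_zmod,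
    Nat.card_eq_fintype_card, card_golayPt] at this
  omega

theorem mem_cA {y : V} : y ∈ cA ↔ support₂ (red y) ∈ gC := support_mem_gC.symm

def sumD (n : ℤ) : AddSubgroup V where
  carrier := {y | n ∣ ∑ i, y i}
  zero_mem' := by simp
  add_mem' h h' := by simpa only [Set.mem_setOf_eq, Pi.add_apply, sum_add_distrib] using dvd_add h h'
  neg_mem' h := by simpa only [Set.mem_setOf_eq, Pi.neg_apply, sum_neg_distrib] using h.neg_right

theorem mem_sumD {n : ℤ} {y : V} : y ∈ sumD n ↔ n ∣ ∑ i, y i := Iff.rfl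

theorem sum_single (p : GolayPt) (a : ℤ) : ∑ i, (Pi.single p a : V) i = a := by
  simp only [Pi.single_apply, sum_ite_eq', mem_univ, if_true]

theorem sum_add (x y : V) : ∑ i, (x + y) i = ∑ i, x i + ∑ i, y i := by simp only [Pi.add_apply, sum_add_distrib]

theorem sum_mulN (n : ℕ) (x : V) : ∑ i, mulN n x i = n * ∑ i, x i := by simp only [mulN_apply, mul_sum]

theorem tw_red (y : V) (i : GolayPt) : tw (support₂ (red y)) i = 2 * (y i % 2) := by
  simp only [tw, mem_support_red]; split_ifs <;> omega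

theorem rel_cA : (cA ⊓ sumD 4).relIndex cA = 2 := by
  have h0 : (Pi.single none 2 : V) ∈ cA := by
    have : red (Pi.single none 2) = 0 := funext fun i => by
      by_cases h : i = none
      · subst h; rfl
      · simp [red, h]
    rw [cA, AddSubgroup.mem_comap, this]; exact zero_mem _
  refine AddSubgroup.relIndex_eq_two_iff.2 ⟨_, h0, fun b hb => ?_⟩
  have a : (2 : ℤ) ∣ ∑ i, (2 * b i - tw (support₂ (red b)) i) / 2 := dvd_sum fun i _ => by rw [tw_red]; omega
  have a' : 2 * ∑ i, (2 * b i - tw (support₂ (red b)) i) / 2 = ∑ i, (2 * b i - tw (support₂ (red b)) i) := by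
    rw [mul_sum]; exact sum_congr rfl fun i _ => by rw [tw_red]; omega
  rw [sum_sub_distrib, ← mul_sum, sum_tw] at a'
  have c := four_dvd (mem_cA.1 hb)
  simp only [AddSubgroup.mem_inf, add_mem hb h0, hb, true_and, mem_sumD, sum_add, sum_single, Xor]
  omega

def lat0 : AddSubgroup V := (cA ⊓ sumD 4).map (mulN 2)

theorem index_lat0 : lat0.index = 2 ^ 37 := by
  rw [lat0, index_mulN _ two_ne_zero, ← AddSubgroup.relIndex_mul_index inf_le_left, rel_cA, index_cA]; norm_num

theorem LS.par {x : V} {m : ℤ} {c : Finset GolayPt} (h : LS x m c) (i : GolayPt) : x i % 2 = m % 2 := by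
  have := h.md i; unfold tw at this; split_ifs at this <;> omega

theorem mem_lat0 {x : V} : x ∈ lat0 ↔ x ∈ leechLattice ∧ x none % 2 = 0 := by
  constructor
  · rintro ⟨y, ⟨h1, h2⟩, rfl⟩
    refine ⟨(⟨mem_cA.1 h1, fun i => ?_, ?_⟩ : LS _ 0 _).lat, by rw [mulN_apply]; omega⟩
    · rw [tw_red, mulN_apply]; omega
    · have := mem_sumD.1 h2
      rw [sum_mulN]; omega
  · rintro ⟨h1, h2⟩
    obtain ⟨m, c, hm, h⟩ := exists_01 h1
    obtain rfl : m = 0 := by have := h.par none; omega
    have e : mulN 2 (fun i => x i / 2) = x := funext fun i => by have := h.par i; rw [mulN_apply]; omega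
    refine ⟨_, ⟨mem_cA.2 ?_, mem_sumD.2 ?_⟩, e⟩
    · have : support₂ (red fun i => x i / 2) = c := by
        ext i
        have := h.md i
        rw [mem_support_red]; unfold tw at this
        split_ifs at this with hi <;> simp only [hi, iff_true, iff_false] <;> omega
      rw [this]; exact h.mem
    · have a := sum_mulN 2 (fun i => x i / 2)
      have b := h.sum
      rw [e] at a; omega

/-- the vector `(a, b, ..., b)` -/
def pv (p : GolayPt) (a b : ℤ) : V := fun i => if i = p then a else b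

theorem sum_pv (p : GolayPt) (a b : ℤ) : ∑ i, pv p a b i = a + 23 * b := by
  have : ∀ i, pv p a b i = (Pi.single p (a - b) : V) i + b := fun i => by
    simp only [pv, Pi.single_apply]; split_ifs <;> ring
  simp only [this, sum_add_distrib, sum_single, sum_const, card_univ, card_golayPt, nsmul_eq_mul]
  push_cast; ring

theorem sqNorm_pv (p : GolayPt) (a b : ℤ) : sqNorm (pv p a b) = a ^ 2 + 23 * b ^ 2 := by
  rw [← sum_pv p]; exact sum_congr rfl fun i _ => by unfold pv; split_ifs <;> rfl

theorem pv_LS (p : GolayPt) : LS (pv p (-3) 1) 1 ∅ :=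
  ⟨empty_mem_gC, fun i => by simp only [pv, tw, notMem_empty, if_false]; split_ifs <;> rfl, by rw [sum_pv]; rfl⟩

theorem rel_lat0 : lat0.relIndex leechLattice = 2 := by
  refine AddSubgroup.relIndex_eq_two_iff.2 ⟨_, (pv_LS none).lat, fun b hb => ?_⟩
  simp only [mem_lat0, add_mem hb (pv_LS none).lat, hb, true_and, Pi.add_apply, pv, if_true, Xor]
  omega

theorem index_lat : leechLattice.index = 2 ^ 36 := by
  have := AddSubgroup.relIndex_mul_index (show lat0 ≤ leechLattice from fun x hx => (mem_lat0.1 hx).1)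
  rw [rel_lat0, index_lat0] at this
  omega

def lat2 : AddSubgroup V := leechLattice.map (mulN 2)

theorem mem_lat2 {x : V} : x ∈ lat2 ↔ ∃ z ∈ leechLattice, x = 2 • z :=
  ⟨fun ⟨z, h, e⟩ => ⟨z, h, e.symm⟩, fun ⟨z, h, e⟩ => ⟨z, h, e.symm⟩⟩

theorem lat2_le : lat2 ≤ leechLattice := by
  rintro _ ⟨z, h, rfl⟩; exact nsmul_mem h 2

theorem rel_lat2 : lat2.relIndex leechLattice = 2 ^ 24 := by
  have := AddSubgroup.relIndex_mul_index lat2_le
  rw [lat2, index_mulN _ two_ne_zero, index_lat] at this
  rw [lat2]; exact Nat.eq_of_mul_eq_mul_right (by norm_num : 0 < 2 ^ 36) (this.trans (mul_comm _ _))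

/-- a maximal totally singular subgroup -/
def sing : AddSubgroup V where
  carrier := {x | (∀ i, x i % 4 = x none % 4) ∧ x none % 2 = 0 ∧ (∑ i, x i) % 8 = 0}
  zero_mem' := by simp
  add_mem' := by
    rintro a b ⟨h1, h2, h3⟩ ⟨h4, h5, h6⟩
    refine ⟨fun i => ?_, ?_, ?_⟩
    · have := h1 i; have := h4 i; simp only [Pi.add_apply]; omega
    · simp only [Pi.add_apply]; omega
    · rw [sum_add]; omega
  neg_mem' := by
    rintro a ⟨h1, h2, h3⟩
    refine ⟨fun i => ?_, ?_, ?_⟩
    · have := h1 i; simp only [Pi.neg_apply]; omega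
    · simp only [Pi.neg_apply]; omega
    · simp only [Pi.neg_apply, sum_neg_distrib]; omega

theorem mem_sing {x : V} : x ∈ sing ↔ (∀ i, x i % 4 = x none % 4) ∧ x none % 2 = 0 ∧ (∑ i, x i) % 8 = 0 := Iff.rfl

theorem sing_le : sing ≤ leechLattice := by
  rintro x ⟨h1, h2, h3⟩
  by_cases h : x none % 4 = 0
  · exact (⟨empty_mem_gC, fun i => by have := h1 i; simp only [tw, notMem_empty, if_false]; omega, h3⟩ : LS x 0 ∅).lat
  · exact (⟨univ_mem_gC, fun i => by have := h1 i; simp only [tw, mem_univ, if_true]; omega, h3⟩ : LS x 0 univ).lat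

theorem two_mem_sing {x : V} (hx : x ∈ leechLattice) : (2 : ℤ) • x ∈ sing := by
  obtain ⟨m, c, -, h⟩ := exists_01 hx
  refine ⟨fun i => ?_, ?_, ?_⟩
  · have := h.par i; have := h.par none; simp only [Pi.smul_apply, smul_eq_mul]; omega
  · simp only [Pi.smul_apply, smul_eq_mul]; omega
  · have := h.sum; simp only [Pi.smul_apply, smul_eq_mul, ← mul_sum]; omega

theorem index_sumD2 : (sumD 2).index = 2 :=
  AddSubgroup.index_eq_two_iff.2 ⟨Pi.single none 1, fun b => by simp only [mem_sumD, sum_add, sum_single, Xor]; omega⟩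

theorem mem_four {x : V} : x ∈ (sumD 2).map (mulN 4) ↔ (∀ i, x i % 4 = 0) ∧ (∑ i, x i) % 8 = 0 := by
  constructor
  · rintro ⟨y, h, rfl⟩
    have := mem_sumD.1 h
    exact ⟨fun i => by rw [mulN_apply]; omega, by rw [sum_mulN]; omega⟩
  · rintro ⟨h1, h2⟩
    have e : mulN 4 (fun i => x i / 4) = x := funext fun i => by have := h1 i; rw [mulN_apply]; omega
    have a := sum_mulN 4 (fun i => x i / 4)
    rw [e] at a
    exact ⟨_, mem_sumD.2 (by omega), e⟩

theorem rel_sing : sing.relIndex leechLattice = 2 ^ 12 := by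
  have a : ((sumD 2).map (mulN 4)).relIndex sing = 2 := by
    refine AddSubgroup.relIndex_eq_two_iff.2 ⟨pv none 2 2, ⟨fun i => by simp [pv], rfl, by rw [sum_pv]; rfl⟩, ?_⟩
    rintro b ⟨h1, h2, h3⟩
    simp only [mem_four, sum_add, sum_pv, Pi.add_apply, pv, ite_self, Xor]
    by_cases h : b none % 4 = 0
    · exact Or.inr ⟨⟨fun i => by rw [h1, h], h3⟩, fun e => by have := e.1 none; omega⟩
    · refine Or.inl ⟨⟨fun i => by have := h1 i; omega, ?_⟩, fun e => h (e.1 none)⟩
      simp only [sum_add_distrib, sum_const, card_univ, card_golayPt, nsmul_eq_mul]; omega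
  have b := AddSubgroup.relIndex_mul_index (show (sumD 2).map (mulN 4) ≤ sing from fun x hx => by
    obtain ⟨h1, h2⟩ := mem_four.1 hx
    exact ⟨fun i => by rw [h1, h1], by have := h1 none; omega, h2⟩)
  have c := AddSubgroup.relIndex_mul_index sing_le
  rw [a, index_mulN _ (by norm_num), index_sumD2] at b
  rw [index_lat, Nat.eq_of_mul_eq_mul_left two_pos b] at c
  exact Nat.eq_of_mul_eq_mul_right (by norm_num : 0 < 2 ^ 36) (c.trans (by norm_num))

theorem sing_norm {x : V} (hx : x ∈ sing) : (32 : ℤ) ∣ sqNorm x := by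
  obtain ⟨h1, h2, h3⟩ := hx
  by_cases h : x none % 4 = 0
  · have q : (32 : ℤ) ∣ ∑ i, (x i ^ 2 - 4 * x i) := Finset.dvd_sum fun i _ => by
      have a := h1 i
      obtain ⟨k, hk⟩ : ∃ k, x i = 4 * k := ⟨x i / 4, by omega⟩
      obtain ⟨l, hl⟩ := Int.even_mul_pred_self k
      exact ⟨l, by rw [hk]; linear_combination 16 * hl⟩
    rw [sum_sub_distrib, ← mul_sum] at q
    change (32 : ℤ) ∣ sqNorm x - _ at q
    omega
  · have q : (32 : ℤ) ∣ ∑ i, (x i ^ 2 - 4) := Finset.dvd_sum fun i _ => by
      have a := h1 i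
      obtain ⟨k, hk⟩ : ∃ k, x i = 4 * k + 2 := ⟨x i / 4, by omega⟩
      obtain ⟨l, hl⟩ := Int.even_mul_succ_self k
      exact ⟨l, by rw [hk]; linear_combination 16 * hl⟩
    simp only [sum_sub_distrib, sum_const, card_univ, card_golayPt, nsmul_eq_mul] at q
    change (32 : ℤ) ∣ sqNorm x - _ at q
    omega

end Cfsg.Agent.Leech
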