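import Cfsg.Agent.Lib.Leech.Count
import Cfsg.Agent.Lib.Leech.Index

/-! Classes modulo twice the lattice, crosses. -/

set_option autoImplicit false
set_option linter.unusedSectionVars false
set_option linter.unusedVariables false

namespace Cfsg.Agent.Leech

open Cfsg.Agent.Spor Finset

theorem frame_bound {ι : Type*} [Fintype ι] (C : Finset (ι → ℤ)) (N : ℤ) (hN : 0 < N) (h1 : ∀ x ∈ C, sqNorm x = N)
    (h2 : ∀ x ∈ C, ∀ y ∈ C, x = y ∨ x = -y ∨ dotInt x y = 0) : C.card ≤ 2 * Fintype.card ι := by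
  classical
  have a : ∑ x ∈ C, ∑ y ∈ C, dotInt x y ^ 2 ≤ C.card * (2 * N ^ 2) := by
    rw [← nsmul_eq_mul]
    refine sum_le_card_nsmul _ _ _ fun x hx => ?_
    have e : dotInt x x = N := (h1 x hx) ▸ sum_congr rfl fun _ _ => (sq _).symm
    have e' : dotInt x (-x) = -N := by
      rw [← e]; simp only [dotInt, Pi.neg_apply, mul_neg, sum_neg_distrib]
    calc ∑ y ∈ C, dotInt x y ^ 2 ≤ ∑ y ∈ C, ((if y = x then N ^ 2 else 0) + if y = -x then N ^ 2 else 0) :=
          sum_le_sum fun y hy => by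
            rcases h2 x hx y hy with rfl | rfl | h
            · rw [e, if_pos rfl]; split_ifs <;> nlinarith
            · rw [neg_neg] at *
              have : dotInt (-y) y = -N := e'
              rw [this, if_pos rfl]; split_ifs <;> nlinarith
            · rw [h]; split_ifs <;> nlinarith
      _ ≤ _ := by
        rw [sum_add_distrib, sum_ite_eq', sum_ite_eq']
        split_ifs <;> nlinarith
  have b : ∑ x ∈ C, ∑ y ∈ C, dotInt x y ^ 2 = ∑ i, ∑ j, (∑ x ∈ C, x i * x j) ^ 2 := by
    simp only [dotInt, sq, sum_mul_sum]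
    calc _ = ∑ x ∈ C, ∑ i, ∑ j, ∑ y ∈ C, x i * y i * (x j * y j) :=
          sum_congr rfl fun x _ => sum_comm.trans (sum_congr rfl fun i _ => sum_comm)
      _ = _ := sum_comm.trans (sum_congr rfl fun i _ => sum_comm.trans (sum_congr rfl fun j _ =>
          sum_congr rfl fun x _ => sum_congr rfl fun y _ => by ring))
  have c : ∑ i, (∑ x ∈ C, x i * x i) ^ 2 ≤ ∑ i, ∑ j, (∑ x ∈ C, x i * x j) ^ 2 :=
    sum_le_sum fun i _ => single_le_sum (f := fun j => (∑ x ∈ C, x i * x j) ^ 2) (fun _ _ => sq_nonneg _) (mem_univ i)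
  have d := sq_sum_le_card_mul_sum_sq (s := univ) (f := fun i => ∑ x ∈ C, x i * x i)
  have e : ∑ i, ∑ x ∈ C, x i * x i = C.card * N := by
    rw [sum_comm, ← nsmul_eq_mul, ← sum_const]
    exact sum_congr rfl fun x hx => (h1 x hx) ▸ sum_congr rfl fun _ _ => (sq _).symm
  rw [e, card_univ] at d
  rcases Nat.eq_zero_or_pos C.card with h | h
  · omega
  have f : (C.card * N) ^ 2 ≤ Fintype.card ι * (C.card * (2 * N ^ 2)) :=
    d.trans (mul_le_mul_of_nonneg_left (c.trans (b ▸ a)) (Nat.cast_nonneg _))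
  have g : (C.card * N ^ 2 : ℤ) * C.card ≤ (C.card * N ^ 2) * (2 * Fintype.card ι) := by linarith
  exact_mod_cast le_of_mul_le_mul_left g (by positivity)

abbrev cl : V →+ V ⧸ lat2 := QuotientAddGroup.mk' lat2

theorem cl_eq {x y : V} : cl x = cl y ↔ ∃ z ∈ leechLattice, x - y = 2 • z := by
  rw [← mem_lat2]; exact QuotientAddGroup.eq_iff_sub_mem

theorem card_cl : (cl '' leechLattice).ncard = 2 ^ 24 := by
  have := AddSubgroup.relIndex_ker leechLattice cl
  rw [QuotientAddGroup.ker_mk', rel_lat2] at this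
  exact this.symm

theorem mem_cross {x y : V} : y ∈ cross x ↔ y ∈ leechLattice ∧ sqNorm y = sqNorm x ∧ cl x = cl y := by
  rw [cl_eq]; rfl

theorem same_norm {x y : V} (hx : x ∈ leechLattice) (hy : y ∈ leechLattice)
    (hxn : sqNorm x ≤ 64) (hyn : sqNorm y ≤ 64) (hc : cl x = cl y) : sqNorm x = sqNorm y := by
  by_cases e : x = y
  · rw [e]
  rcases congr_short hx hy e hxn hyn (cl_eq.1 hc) with rfl | ⟨h1, h2, -⟩
  · exact sqNorm_neg _
  · rw [h1, h2]

def SN (N : ℤ) : Set V := {x | x ∈ leechLattice ∧ sqNorm x = N}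

theorem fin32 : (SN 32).Finite := Set.finite_of_ncard_ne_zero (by rw [SN, count32]; decide)
theorem fin48 : (SN 48).Finite := Set.finite_of_ncard_ne_zero (by rw [SN, count48]; decide)
theorem fin64 : (SN 64).Finite := Set.finite_of_ncard_ne_zero (by rw [SN, count64]; decide)

open Classical in
theorem small_le {N : ℤ} (hN : N < 64) (h : (SN N).Finite) : (SN N).ncard ≤ 2 * (cl '' SN N).ncard := by
  rw [← h.coe_toFinset, ← coe_image, Set.ncard_coe_finset, Set.ncard_coe_finset]
  refine card_le_mul_card_image _ _ fun b hb => ?_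
  obtain ⟨x, hx, rfl⟩ := mem_image.1 hb
  refine (card_le_card (t := {x, -x}) fun y hy => ?_).trans card_le_two
  obtain ⟨h1, h2⟩ := mem_filter.1 hy
  rw [h.mem_toFinset] at hx h1
  by_cases e : y = x
  · simp [e]
  rcases congr_short h1.1 hx.1 e (by rw [h1.2]; omega) (by rw [hx.2]; omega) (cl_eq.1 h2) with rfl | ⟨h3, -⟩
  · simp
  · rw [h1.2] at h3; omega

open Classical in
theorem cross_eq {x : V} (hn : sqNorm x = 64) : cross x = ↑(fin64.toFinset.filter fun y => cl y = cl x) := by
  ext y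
  simp only [mem_cross, coe_filter, Set.Finite.mem_toFinset, SN, Set.mem_setOf_eq, hn, and_assoc, eq_comm (a := cl x)]

theorem cross_finite {x : V} (hn : sqNorm x = 64) : (cross x).Finite := by rw [cross_eq hn]; exact finite_toSet _

theorem cross_orth {x y z : V} (hn : sqNorm x = 64) (hy : y ∈ cross x) (hz : z ∈ cross x) :
    y = z ∨ y = -z ∨ dotInt y z = 0 := by
  obtain ⟨h1, h2, h3⟩ := mem_cross.1 hy
  obtain ⟨h4, h5, h6⟩ := mem_cross.1 hz
  refine or_iff_not_imp_left.2 fun e => ?_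
  exact (congr_short h1 h4 e (by omega) (by omega) (cl_eq.1 (h3.symm.trans h6))).imp_right fun h => h.2.2

theorem cross_le {x : V} (hn : sqNorm x = 64) : (cross x).ncard ≤ 48 := by
  have := frame_bound (cross_finite hn).toFinset 64 (by decide) (fun y hy => ((Set.Finite.mem_toFinset _).1 hy).2.1.trans hn)
    fun y hy z hz => cross_orth hn ((Set.Finite.mem_toFinset _).1 hy) ((Set.Finite.mem_toFinset _).1 hz)
  rwa [card_golayPt, ← Set.ncard_eq_toFinset_card _ (cross_finite hn)] at this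

theorem disj {M N : ℤ} (hM : M ≤ 64) (hN : N ≤ 64) (h : M ≠ N) : Disjoint (cl '' SN M) (cl '' SN N) := by
  rw [Set.disjoint_left]
  rintro _ ⟨x, hx, rfl⟩ ⟨y, hy, e⟩
  exact h (by rw [← hx.2, ← hy.2, same_norm hy.1 hx.1 (hy.2 ▸ hN) (hx.2 ▸ hM) e])

theorem SN_zero : SN 0 = {0} := Set.ext fun x =>
  ⟨fun h => sqNorm_eq_zero h.2, fun h => by rw [h]; exact ⟨zero_mem _, by simp [sqNorm]⟩⟩

theorem fin_cl : (cl '' leechLattice).Finite := Set.finite_of_ncard_ne_zero (by rw [card_cl]; decide)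

theorem union_sub : cl '' SN 0 ∪ cl '' SN 32 ∪ cl '' SN 48 ∪ cl '' SN 64 ⊆ cl '' leechLattice := by
  simp only [← Set.image_union]
  refine Set.image_mono ?_
  rintro x (((h | h) | h) | h) <;> exact h.1

theorem union_card : (cl '' SN 0 ∪ cl '' SN 32 ∪ cl '' SN 48 ∪ cl '' SN 64).ncard =
    1 + (cl '' SN 32).ncard + (cl '' SN 48).ncard + (cl '' SN 64).ncard := by
  have f0 : (SN 0).Finite := SN_zero ▸ Set.finite_singleton _
  rw [Set.ncard_union_eq _ (((f0.image _).union (fin32.image _)).union (fin48.image _)) (fin64.image _),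
    Set.ncard_union_eq _ ((f0.image _).union (fin32.image _)) (fin48.image _),
    Set.ncard_union_eq _ (f0.image _) (fin32.image _), SN_zero, Set.image_singleton, Set.ncard_singleton]
  all_goals try simp only [Set.disjoint_union_left]
  · exact disj (by decide) (by decide) (by decide)
  · exact ⟨disj (by decide) (by decide) (by decide), disj (by decide) (by decide) (by decide)⟩
  · exact ⟨⟨disj (by decide) (by decide) (by decide), disj (by decide) (by decide) (by decide)⟩,
      disj (by decide) (by decide) (by decide)⟩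

open Classical in
theorem sum64 : ∑ b ∈ fin64.toFinset.image cl, (fin64.toFinset.filter fun y => cl y = b).card = 398034000 := by
  rw [← card_eq_sum_card_image, ← Set.ncard_eq_toFinset_card _ fin64, SN, count64]

open Classical in
theorem img64 : (fin64.toFinset.image cl).card = (cl '' SN 64).ncard := by
  rw [← Set.ncard_coe_finset, coe_image, Set.Finite.coe_toFinset]

open Classical in
theorem fib_le : ∀ b ∈ fin64.toFinset.image cl, (fin64.toFinset.filter fun y => cl y = b).card ≤ 48 := fun b hb => by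
  obtain ⟨x, hx, rfl⟩ := mem_image.1 hb
  have hn := (fin64.mem_toFinset.1 hx).2
  rw [← Set.ncard_coe_finset, ← cross_eq hn]; exact cross_le hn

theorem cl_counts : (cl '' SN 32).ncard = 98280 ∧ (cl '' SN 48).ncard = 8386560 ∧ (cl '' SN 64).ncard = 8292375 := by
  have a := Set.ncard_le_ncard union_sub fin_cl
  have b := small_le (by decide) fin32
  have c := small_le (by decide) fin48
  have d := sum_le_card_nsmul _ _ _ fib_le
  rw [union_card, card_cl] at a
  rw [SN, count32] at b
  rw [SN, count48] at c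
  rw [sum64, img64, smul_eq_mul] at d
  change _ ≤ 2 * (cl '' SN 32).ncard at b
  change _ ≤ 2 * (cl '' SN 48).ncard at c
  omega

theorem cross_card {x : V} (hx : x ∈ leechLattice) (hn : sqNorm x = 64) : (cross x).ncard = 48 := by
  classical
  rw [cross_eq hn, Set.ncard_coe_finset]
  refine (sum_eq_sum_iff_of_le fib_le).1 ?_ _ (mem_image_of_mem _ (fin64.mem_toFinset.2 ⟨hx, hn⟩))
  rw [sum64, sum_const, img64, cl_counts.2.2]; rfl

theorem exists_short {x : V} (hx : x ∈ leechLattice) : ∃ y ∈ leechLattice,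
    (sqNorm y = 0 ∨ sqNorm y = 32 ∨ sqNorm y = 48 ∨ sqNorm y = 64) ∧ cl x = cl y := by
  have := Set.eq_of_subset_of_ncard_le union_sub
    (by rw [union_card, card_cl, cl_counts.1, cl_counts.2.1, cl_counts.2.2]; decide) fin_cl
  have h : cl x ∈ cl '' leechLattice := ⟨x, hx, rfl⟩
  rw [← this] at h
  rcases h with ((⟨y, h, e⟩ | ⟨y, h, e⟩) | ⟨y, h, e⟩) | ⟨y, h, e⟩ <;> exact ⟨y, h.1, by simp [h.2], e.symm⟩

theorem cross_eq_iff {x y : V} (hx : x ∈ SN 64) (hy : y ∈ SN 64) : cross x = cross y ↔ cl x = cl y := by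
  refine ⟨fun h => ?_, fun h => Set.ext fun z => by rw [mem_cross, mem_cross, hx.2, hy.2, h]⟩
  have : y ∈ cross y := mem_cross.2 ⟨hy.1, rfl, rfl⟩
  rw [← h] at this
  exact (mem_cross.1 this).2.2

theorem ncard_crosses : crosses.ncard = 8292375 := by
  rw [← cl_counts.2.2]
  have e : crosses = (fun b => {y | y ∈ SN 64 ∧ b = cl y}) '' (cl '' SN 64) := by
    rw [Set.image_image]
    refine Set.image_congr fun x hx => Set.ext fun y => ?_
    rw [mem_cross, hx.2]; exact and_assoc.symm
  rw [e]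
  refine Set.InjOn.ncard_image ?_
  rintro _ ⟨x, hx, rfl⟩ _ ⟨y, hy, rfl⟩ h
  exact ((Set.ext_iff.1 h y).2 ⟨hy, rfl⟩).2

/-- the vector `8 e_i` -/
def e8 (i : GolayPt) : V := Pi.single i 8

theorem single_LS (i j : GolayPt) (a b : ℤ) (ha : a % 4 = 0) (hb : b % 4 = 0) (h : (a + b) % 8 = 0) :
    LS (Pi.single i a + Pi.single j b) 0 ∅ := by
  refine ⟨empty_mem_gC, fun k => ?_, by rw [sum_add, sum_single, sum_single]; exact h⟩
  simp only [Pi.add_apply, Pi.single_apply, tw, notMem_empty, if_false]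
  split_ifs <;> omega

theorem single_mem (i : GolayPt) {a : ℤ} (h : a % 8 = 0) : (Pi.single i a : V) ∈ leechLattice := by
  have := (single_LS i i a 0 (by omega) rfl (by omega)).lat
  rwa [Pi.single_zero, add_zero] at this

theorem e8_mem (i : GolayPt) : e8 i ∈ leechLattice := single_mem i rfl

theorem sqNorm_e8 (i : GolayPt) : sqNorm (e8 i) = 64 := sqNorm_single _ _

theorem std_sub (i : GolayPt) : stdCross ⊆ cross (e8 i) := by
  rintro _ ⟨j, s, hs, rfl⟩
  refine ⟨single_mem j (by omega), by rw [sqNorm_single, sqNorm_e8]; rcases hs with rfl | rfl <;> rfl,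
    _, (single_LS i j 4 (-s / 2) rfl (by omega) (by omega)).lat, funext fun k => ?_⟩
  simp only [e8, Pi.sub_apply, Pi.smul_apply, Pi.add_apply, Pi.single_apply, nsmul_eq_mul]
  split_ifs <;> omega

theorem cross_e8 (i : GolayPt) : cross (e8 i) = stdCross := by
  refine Set.Subset.antisymm (fun y hy => ?_) (std_sub i)
  by_contra h
  have : y = 0 := funext fun j => by
    rcases cross_orth (sqNorm_e8 i) hy (std_sub i ⟨j, 8, Or.inl rfl, rfl⟩) with e | e | e
    · exact absurd ⟨j, 8, Or.inl rfl, e⟩ h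
    · exact absurd ⟨j, -8, Or.inr rfl, e.trans (Pi.single_neg _ _).symm⟩ h
    · rw [dot_single] at e; simp only [Pi.zero_apply]; omega
  have a := hy.2.1
  rw [this, sqNorm_e8] at a
  simp [sqNorm] at a

end Cfsg.Agent.Leech
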