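import Cfsg.Agent.Lib.PermCert.Simple
import Cfsg.Agent.S0144

/-! Simplicity criteria. -/

set_option autoImplicit false
set_option linter.unusedSectionVars false
set_option linter.unusedVariables false

namespace Cfsg.Agent.Leech

open Cfsg.Agent.PC Subgroup MulAction
open scoped commutatorElement

variable {G : Type*} [Group G]

theorem iwasawa_le {H A N : Subgroup G} (hH : IsCoatom H) (hA : ∀ a ∈ A, ∀ b ∈ A, a * b = b * a)
    (hn : ∀ h ∈ H, ∀ a ∈ A, h * a * h⁻¹ ∈ A) (hg : normalClosure (A : Set G) = ⊤) [hN : N.Normal] (h1 : ¬ N ≤ H) :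
    _root_.commutator G ≤ N := by
  have h2 := sup_eq_top_of_coatom hH h1
  have h3 : (N ⊔ A).Normal := ⟨fun x hx g => by
    have a : g ∈ ((N ⊔ H : Subgroup G) : Set G) := by rw [sup_comm, h2]; trivial
    have b : x ∈ ((N ⊔ A : Subgroup G) : Set G) := hx
    rw [normal_mul] at a b
    obtain ⟨n, hn1, h, hh, rfl⟩ := a
    obtain ⟨m, hm, y, hy, rfl⟩ := b
    have : n * h * (m * y) * (n * h)⁻¹ = n * (h * m * h⁻¹) * (h * y * h⁻¹) * n⁻¹ := by group
    simp only [this]
    exact mul_mem (mul_mem (mem_sup_left (mul_mem hn1 (hN.conj_mem _ hm _))) (mem_sup_right (hn h hh y hy)))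
      (mem_sup_left (inv_mem hn1))⟩
  have h4 : N ⊔ A = ⊤ := by
    rw [eq_top_iff, ← hg]
    exact normalClosure_le_normal (fun a ha => mem_sup_right ha)
  rw [commutator_def, commutator_le]
  intro x _ y _
  have hx : x ∈ ((N ⊔ A : Subgroup G) : Set G) := by rw [h4]; trivial
  have hy : y ∈ ((N ⊔ A : Subgroup G) : Set G) := by rw [h4]; trivial
  rw [normal_mul] at hx hy
  obtain ⟨n, hn1, a, ha, rfl⟩ := hx
  obtain ⟨n', hn2, b, hb, rfl⟩ := hy
  rw [← QuotientGroup.eq_one_iff]
  have e1 : ((n : G) : G ⧸ N) = 1 := (QuotientGroup.eq_one_iff _).mpr hn1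
  have e2 : ((n' : G) : G ⧸ N) = 1 := (QuotientGroup.eq_one_iff _).mpr hn2
  have e3 : ((a : G) : G ⧸ N) * b = b * a := by rw [← QuotientGroup.mk_mul, hA a ha b hb]; rfl
  simp only [commutatorElement_def, QuotientGroup.mk_mul, QuotientGroup.mk_inv, e1, e2, one_mul, e3]
  group

theorem index_eq_relIndex {H N : Subgroup G} (hH : IsCoatom H) [N.Normal] (h1 : ¬ N ≤ H) [Finite G] :
    H.relIndex N = H.index := by
  have a := sup_eq_top_of_coatom hH h1
  have b := relIndex_mul_index (inf_le_left : H ⊓ N ≤ H)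
  have c := relIndex_mul_index (inf_le_right : H ⊓ N ≤ N)
  rw [inf_relIndex_left, ← relIndex_sup_right, a, relIndex_top_right] at b
  rw [inf_relIndex_right, ← b, mul_comm] at c
  exact Nat.eq_of_mul_eq_mul_left (Nat.pos_of_ne_zero index_ne_zero_of_finite) c

theorem index_dvd_card {H N : Subgroup G} (hH : IsCoatom H) (hcore : H.normalCore = ⊥) [N.Normal] (h0 : N ≠ ⊥) [Finite G] :
    H.index ∣ Nat.card N :=
  index_eq_relIndex hH (fun h => h0 (le_bot_iff.mp (hcore ▸ normal_le_normalCore.mpr h))) ▸ relIndex_dvd_card H N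

theorem nontrivial_of_coatom {H : Subgroup G} (hH : IsCoatom H) : Nontrivial G := by
  by_contra h
  rw [not_nontrivial_iff_subsingleton] at h
  exact hH.1 (Subsingleton.elim _ _)

theorem simple_of_stab [Finite G] {H : Subgroup G} (hH : IsCoatom H) (hcore : H.normalCore = ⊥) (hs : IsSimpleGroup H)
    {p q : ℕ} (hp : p.Prime) (hq : q.Prime) (hpq : p ≠ q) (hpd : p ∣ H.index) (hqd : q ∣ H.index)
    (h : ∀ r : ℕ, r.Prime → r ∣ H.index → r = p ∨ r = q) : IsSimpleGroup G := by
  have := nontrivial_of_coatom hH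
  refine ⟨fun N hN => or_iff_not_imp_left.2 fun h0 => ?_⟩
  have h3 : ¬ N ≤ H := fun h => h0 (le_bot_iff.mp (hcore ▸ normal_le_normalCore.mpr h))
  rcases hs.eq_bot_or_eq_top_of_normal (N.subgroupOf H) inferInstance with h5 | h5
  swap
  · rw [← sup_eq_top_of_coatom hH h3, sup_eq_right.2 (subgroupOf_eq_top.1 h5)]
  exfalso
  have c : Nat.card N = H.index := by
    rw [← index_eq_relIndex hH h3, relIndex, subgroupOf_eq_bot.2 (subgroupOf_eq_bot.1 h5).symm, index_bot]
  have s : Group.IsSolvable N := S0144.aux p q hp hq _ rfl (c ▸ h)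
  have : Nontrivial N := (nontrivial_iff_ne_bot _).2 h0
  have a : _root_.commutator N = ⊥ := by
    by_contra n
    have b := index_dvd_card hH hcore (N := (_root_.commutator N).map N.subtype)
      (fun e => n ((map_eq_bot_iff_of_injective _ N.subtype_injective).1 e))
    rw [card_map_of_injective N.subtype_injective, ← c] at b
    exact (IsSolvable.commutator_lt_top_of_nontrivial N).ne (eq_top_of_le_card _ (Nat.le_of_dvd Nat.card_pos b))
  have := Fact.mk hp
  obtain ⟨P⟩ : Nonempty (Sylow p N) := inferInstance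
  have pn : (P : Subgroup N).Normal := ⟨fun x hx g => by
    have : ⁅g, x⁆ ∈ _root_.commutator N := commutator_mem_commutator (mem_top _) (mem_top _)
    rw [a, mem_bot, commutatorElement_def, mul_inv_eq_one] at this
    rwa [this]⟩
  have := P.characteristic_of_normal pn
  have b := index_dvd_card hH hcore (N := (P : Subgroup N).map N.subtype)
    (fun e => P.ne_bot_of_dvd_card (c ▸ hpd) ((map_eq_bot_iff_of_injective _ N.subtype_injective).1 e))
  obtain ⟨k, hk⟩ := IsPGroup.iff_card.1 P.isPGroup'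
  rw [card_map_of_injective N.subtype_injective, hk] at b
  exact hpq ((Nat.prime_dvd_prime_iff_eq hq hp).1 (hq.dvd_of_dvd_pow (hqd.trans b))).symm

theorem simple_quot {Z : Subgroup G} [Z.Normal] (h0 : Z ≠ ⊤) (h : ∀ N : Subgroup G, N.Normal → N ≤ Z ∨ N = ⊤) :
    IsSimpleGroup (G ⧸ Z) := by
  have : Nontrivial (G ⧸ Z) := QuotientGroup.nontrivial_iff.2 h0
  refine ⟨fun N hN => (h _ (hN.comap (QuotientGroup.mk' Z))).imp (fun e => ?_) fun e => ?_⟩
  · rw [eq_bot_iff]
    intro x hx
    obtain ⟨y, rfl⟩ := QuotientGroup.mk'_surjective Z x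
    exact (QuotientGroup.eq_one_iff _).2 (e hx)
  · rw [← map_comap_eq_self_of_surjective (QuotientGroup.mk'_surjective Z) N, e,
      map_top_of_surjective _ (QuotientGroup.mk'_surjective Z)]

variable {X : Type*} [MulAction G X]

/-- conjugation of joint stabilisers -/
def conjE (g : G) {A B : Subgroup G} (h : ∀ a, a ∈ A ↔ g * a * g⁻¹ ∈ B) : A ≃* B where
  toFun a := ⟨g * a * g⁻¹, (h a).1 a.2⟩
  invFun b := ⟨g⁻¹ * b * g, (h _).2 (by simp [mul_assoc])⟩
  left_inv a := Subtype.ext (by simp [mul_assoc])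
  right_inv a := Subtype.ext (by simp [mul_assoc])
  map_mul' a b := Subtype.ext (by simp [mul_assoc])

theorem mem_stab_conj (g a : G) (x : X) : a ∈ stabilizer G x ↔ g * a * g⁻¹ ∈ stabilizer G (g • x) := by
  simp only [mem_stabilizer_iff, mul_smul, inv_smul_smul, smul_left_cancel_iff]

theorem simple_card_of {A B : Type*} [Group A] [Group B] (e : A ≃* B) {n : ℕ} (h : IsSimpleGroup B ∧ Nat.card B = n) :
    IsSimpleGroup A ∧ Nat.card A = n := ⟨have := h.1; e.isSimpleGroup, (Nat.card_congr e.toEquiv).trans h.2⟩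

theorem card_of_orbit {K : Subgroup G} {x : X} {S : Set X} (h : orbit K x = S) :
    Nat.card K = S.ncard * Nat.card ↥(K ⊓ stabilizer G x) := by rw [card_eq_orbit_mul K x, h]

end Cfsg.Agent.Leech
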