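import Cfsg.Agent.Lib.Leech.Pair
import Cfsg.Agent.Lib.Leech.Grp

/-! Explicit forms of minimal vectors; orbits of the stabiliser of two coordinates. -/

set_option autoImplicit false
set_option linter.unusedSectionVars false
set_option linter.unusedVariables false

namespace Cfsg.Agent.Leech

open Cfsg.Agent.Spor Cfsg.Agent.PC Finset MulAction
open scoped Pointwise symmDiff

def bv (a : ℤ) (o m : Finset GolayPt) : V := fun i => if i ∈ o then (if i ∈ m then -a else a) else 0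

def cv (p : GolayPt) (c : Finset GolayPt) : V := fun i => if i ∈ c then -pv p (-3) 1 i else pv p (-3) 1 i

theorem sum_bv (a : ℤ) {o m : Finset GolayPt} (h : m ⊆ o) : ∑ i, bv a o m i = a * o.card - 2 * a * m.card := by
  have : ∀ i, bv a o m i = (if i ∈ o then a else 0) - if i ∈ m then 2 * a else 0 := fun i => by
    unfold bv
    by_cases p : i ∈ m
    · simp only [p, h p, if_true]; ring
    · simp only [p, if_false]; ring
  simp only [this, sum_sub_distrib, sum_ite_mem, univ_inter, sum_const, nsmul_eq_mul]; ring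

theorem sum_cv (p : GolayPt) (c : Finset GolayPt) : ∑ i, cv p c i = (if p ∈ c then 28 else 20) - 2 * (c.card : ℤ) := by
  have : ∀ i, cv p c i = pv p (-3) 1 i - tw c i + (Pi.single p (if p ∈ c then 8 else 0) : V) i := fun i => by
    simp only [cv, pv, tw, Pi.single_apply]
    by_cases q : i = p
    · subst q; simp only [if_true]; split_ifs <;> rfl
    · simp only [q, if_false]; split_ifs <;> rfl
  simp only [this, sum_add_distrib, sum_sub_distrib, sum_pv, sum_tw, sum_single]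
  split_ifs <;> ring

theorem Sh.bv {a : ℤ} {s : Finset GolayPt} {x : V} (h : Sh a 0 s x) : ∃ m ⊆ s, x = bv a s m :=
  ⟨s.filter fun i => x i ≠ a, filter_subset _ _, funext fun i => by
    rcases h.cases i with ⟨p, q⟩ | ⟨p, q⟩ <;> simp only [Leech.bv, mem_filter, p, true_and, if_true, if_false]
    · split_ifs <;> omega
    · omega⟩

theorem Sh.cv {p : GolayPt} {x : L} (h : Sh 3 1 {p} x) : ∃ c ∈ gC, x.1 = cv p c := by
  obtain ⟨c, hc, e⟩ := odd_code (x := x) (y := U0) (i := pa) (by rcases h.cases pa with ⟨p, q⟩ | ⟨p, q⟩ <;> omega) rfl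
  have u : ∀ i, U0.1 i % 4 = 1 := fun i => by rw [U0_eq]; unfold v3; split_ifs <;> rfl
  refine ⟨c, hc, funext fun i => ?_⟩
  simp only [Leech.cv, pv, e, u]
  rcases h.cases i with ⟨p, q⟩ | ⟨p, q⟩ <;> rw [mem_singleton] at p
  · rw [if_pos p]; split_ifs <;> omega
  · rw [if_neg p]; split_ifs <;> omega

theorem form32 {x : L} (hn : sqNorm (x : V) = 32) : (∃ s : Finset GolayPt, s.card = 2 ∧ ∃ m ⊆ s, x.1 = bv 4 s m) ∨
    (∃ o ∈ octads, ∃ m ⊆ o, x.1 = bv 2 o m) ∨ ∃ p, ∃ c ∈ gC, x.1 = cv p c := by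
  rcases shape32 x.2 hn with ⟨s, h1, h2⟩ | ⟨s, h1, h2⟩ | ⟨s, h2⟩
  exacts [Or.inl ⟨s, h1, h2.bv⟩, Or.inr (Or.inl ⟨s, h1, h2.bv⟩), Or.inr (Or.inr ⟨s, h2.cv⟩)]

theorem prm_bv {σ : M24} {x y : L} {a : ℤ} {o m o' m' : Finset GolayPt} (hx : x.1 = bv a o m) (hy : y.1 = bv a o' m')
    (h1 : σ • o = o') (h2 : σ • m = m') : prm σ • x = y := prm_eq fun i => by
  simp only [hx, hy, ← h1, ← h2, bv, smul_mem_smul_finset_iff]

theorem prm_cv {σ : M24} {x y : L} {p p' : GolayPt} {c c' : Finset GolayPt} (hx : x.1 = cv p c) (hy : y.1 = cv p' c')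
    (h1 : σ • p = p') (h2 : σ • c = c') : prm σ • x = y := prm_eq fun i => by
  simp only [hx, hy, ← h1, ← h2, cv, pv, smul_mem_smul_finset_iff, smul_left_cancel_iff]

theorem bv_cases (a : ℤ) {o m : Finset GolayPt} (h : m ⊆ o) (i : GolayPt) :
    (i ∈ o ∧ i ∈ m ∧ bv a o m i = -a) ∨ (i ∈ o ∧ i ∉ m ∧ bv a o m i = a) ∨ (i ∉ o ∧ i ∉ m ∧ bv a o m i = 0) := by
  have := @h i
  unfold bv; split_ifs <;> tauto

theorem cv_cases (p : GolayPt) (c : Finset GolayPt) (i : GolayPt) :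
    (i = p ∧ i ∈ c ∧ cv p c i = 3) ∨ (i = p ∧ i ∉ c ∧ cv p c i = -3) ∨ (i ≠ p ∧ i ∈ c ∧ cv p c i = -1) ∨
      (i ≠ p ∧ i ∉ c ∧ cv p c i = 1) := by
  unfold cv pv; split_ifs <;> tauto

/-- two vectors of the same even form with few minus signs -/
theorem conj_bv {x y : L} {o m o' m' J : Finset GolayPt} (ho : o ∈ octads) (ho' : o' ∈ octads) (hm : m ⊆ o) (hm' : m' ⊆ o')
    (hx : x.1 = bv 2 o m) (hy : y.1 = bv 2 o' m') (hJ : ∀ j ∈ J, x.1 j = y.1 j) (h3 : J.card ≤ 3) (h0 : m ⊆ J) (h0' : m' ⊆ J) :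
    ∃ σ : M24, (∀ j ∈ J, σ • j = j) ∧ prm σ • x = y := by
  have k : ∀ j ∈ J, (j ∈ o ↔ j ∈ o') ∧ (j ∈ m ↔ j ∈ m') := fun j hj => by
    have := hJ j hj
    rw [hx, hy] at this
    rcases bv_cases 2 hm j with ⟨p, q, r⟩ | ⟨p, q, r⟩ | ⟨p, q, r⟩ <;>
      rcases bv_cases 2 hm' j with ⟨p', q', r'⟩ | ⟨p', q', r'⟩ | ⟨p', q', r'⟩ <;> simp only [p, q, p', q', and_self] <;> omega
  obtain ⟨σ, h1, h2⟩ := mapJ h3 ho ho' fun j hj => (k j hj).1
  refine ⟨σ, h1, prm_bv hx hy h2 ?_⟩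
  rw [show m' = m from Finset.ext fun j => ⟨fun h => (k j (h0' h)).2.2 h, fun h => (k j (h0 h)).2.1 h⟩]
  exact eq_of_subset_of_card_le (fun j hj => by
    obtain ⟨i, hi, rfl⟩ := mem_smul_finset.1 hj
    rwa [h1 i (h0 hi)]) (card_smul_finset _ _).ge

def prmH : M24 →* Co0 := MonoidHom.mk' prm fun σ τ => by
  rw [prm, prm, prm, mono_mul]
  congr 2

theorem prmH_inj : Function.Injective prmH := fun σ τ h =>
  congrArg Prod.fst (mono_inj (a₁ := (σ, ⟨∅, empty_mem_gC⟩)) (a₂ := (τ, ⟨∅, empty_mem_gC⟩)) h)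

def M22s : Subgroup M24 := stabilizer M24 pa ⊓ stabilizer M24 pb

def M22c : Subgroup Co0 := M22s.map prmH

theorem M22c_simple : IsSimpleGroup M22c ∧ Nat.card M22c = 443520 :=
  simple_card_of (M22s.equivMapOfInjective _ prmH_inj).symm ⟨simple22, card22⟩

theorem prm_mem {σ : M24} (h1 : σ • pa = pa) (h2 : σ • pb = pb) : prm σ ∈ M22c := ⟨σ, ⟨h1, h2⟩, rfl⟩

theorem mono_E8 {σ : M24} {c : gC} {i j : GolayPt} (h : mono σ c • E8 i = E8 j) : σ • i = j ∧ j ∉ c.1 := by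
  have := mono_apply σ c (E8 i) i
  rw [h] at this
  simp only [E8, e8, Pi.single_apply, if_true] at this
  by_cases p : σ • i = j
  · rw [if_pos p, p] at this
    exact ⟨p, fun q => by rw [if_pos q] at this; omega⟩
  · rw [if_neg p] at this
    split_ifs at this <;> omega

theorem mem_N_of_E8 {g : Co0} {i : GolayPt} (h : g • E8 i = E8 i) : ∃ σ c, g = mono σ c :=
  mem_Nstd_iff.1 ((mem_Nstd_cl i).2 (by rw [h]; rfl))

theorem mono_U0 {σ : M24} {c : gC} (h : mono σ c • U0 = U0) : mono σ c = prm σ := by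
  have u : ∀ i, U0.1 i % 4 = 1 := fun i => by rw [U0_eq]; unfold v3; split_ifs <;> rfl
  rw [prm]
  congr 1
  refine Subtype.ext (eq_empty_of_forall_notMem fun j hj => ?_)
  obtain ⟨i, rfl⟩ := exists_smul σ j
  have := mono_apply σ c U0 i
  rw [h, if_pos hj] at this
  have := u i
  have := u (σ • i)
  omega

theorem mem_M22c {g : Co0} : g ∈ M22c ↔ g • X0 = X0 ∧ g • Y0 = Y0 ∧ g • U0 = U0 := by
  constructor
  · rintro ⟨σ, ⟨h1, h2⟩, rfl⟩
    exact ⟨prm_fix h1 h2 X0_eq, prm_fix h1 h2 Y0_eq, prm_fix h1 h2 U0_eq⟩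
  · rintro ⟨h1, h2, h3⟩
    have a : g • E8 pa = E8 pa := by rw [← XaY, smul_add, h1, h2]
    have b : g • E8 pb = E8 pb := by rw [← XsY, smul_sub, h1, h2]
    obtain ⟨σ, c, rfl⟩ := mem_N_of_E8 a
    rw [mono_U0 h3]; exact prm_mem (mono_E8 a).1 (mono_E8 b).1

theorem pair_card : ({pa, pb} : Finset GolayPt).card = 2 := card_pair pab

theorem of_J {x y : L} (h : ∃ σ : M24, (∀ j ∈ ({pa, pb} : Finset GolayPt), σ • j = j) ∧ prm σ • x = y) :
    ∃ g ∈ M22c, g • x = y :=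
  let ⟨σ, h1, h2⟩ := h; ⟨_, prm_mem (h1 _ (by simp)) (h1 _ (by simp)), h2⟩

theorem simple_pack {G X : Type*} [Group G] [Finite G] [MulAction G X] {x : X} (O : X → ℕ) (K : Finset ℕ) (s : ℕ → ℕ)
    {S : Set X} (hfin : S.Finite) (horb : orbit G x = S) (hO : ∀ y ∈ S, O y ∈ K)
    (hconj : ∀ y ∈ S, ∀ z ∈ S, O y = O z → ∃ a ∈ stabilizer G x, a • y = z)
    (hs : ∀ k ∈ K, {y | y ∈ S ∧ O y = k}.ncard = s k) (h1 : 1 < ∑ k ∈ K, s k)
    (ht : ∀ A ∈ K.powerset, O x ∈ A → (∑ k ∈ A, s k) ∣ (∑ k ∈ K, s k) → A = {O x} ∨ A = K)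
    {k : ℕ} (hk : k ∈ K) (hk1 : 1 < s k) (hH : IsSimpleGroup (stabilizer G x)) {n p q : ℕ} (hn : S.ncard = n)
    (hp : p.Prime) (hq : q.Prime) (hpq : p ≠ q) (hpd : p ∣ n) (hqd : q ∣ n)
    (h : ∀ r : ℕ, r.Prime → r ∣ n → r = p ∨ r = q) : IsSimpleGroup G := by
  have i : (stabilizer G x).index = n := by rw [index_stabilizer, horb, hn]
  refine simple_of_stab (isCoatom_abs O K s hfin horb hO hconj hs h1 ht) ?_ hH hp hq hpq (i ▸ hpd) (i ▸ hqd) (i ▸ h)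
  rcases hH.eq_bot_or_eq_top_of_normal ((stabilizer G x).normalCore.subgroupOf _) inferInstance with e | e
  · exact disjoint_self.1 ((Subgroup.subgroupOf_eq_bot.1 e).mono_right (Subgroup.normalCore_le _))
  obtain ⟨y, hy, z, hz, n⟩ := (Set.one_lt_ncard (hfin.subset fun y hy => hy.1)).1 ((hs k hk).symm ▸ hk1)
  obtain ⟨a, ha, rfl⟩ := hconj y hy.1 z hz.1 (hy.2.trans hz.2.symm)
  obtain ⟨g, rfl⟩ : y ∈ orbit G x := horb ▸ hy.1
  have := Subgroup.subgroupOf_eq_top.1 e ha g⁻¹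
  rw [mem_stabilizer_iff, inv_inv, mul_smul, mul_smul, inv_smul_eq_iff] at this
  exact absurd this.symm n

theorem simple_stab_sub {K : Subgroup Co0} {x : L} (h : K ⊓ stabilizer Co0 x = M22c) : IsSimpleGroup (stabilizer K x) :=
  have := M22c_simple.1
  ((stab_sub_equiv K x).some.trans (MulEquiv.subgroupCongr h)).isSimpleGroup

end Cfsg.Agent.Leech
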