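import Cfsg.Agent.Lib.Leech.Mono

/-! Generators of the rank 24 lattice. -/

set_option autoImplicit false
set_option linter.unusedSectionVars false
set_option linter.unusedVariables false

namespace Cfsg.Agent.Leech

open Cfsg.Agent.Spor Finset
open scoped symmDiff Pointwise

theorem four_mem (K : AddSubgroup V) (h3 : ∀ i j, i ≠ j → (Pi.single i 4 + Pi.single j 4 : V) ∈ K ∧
    (Pi.single i 4 - Pi.single j 4 : V) ∈ K) {x : V} (h1 : ∀ i, x i % 4 = 0) (h2 : (∑ i, x i) % 8 = 0) : x ∈ K := by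
  have a : (Pi.single pa 8 : V) ∈ K := by
    have := add_mem (h3 pa pb (by decide)).1 (h3 pa pb (by decide)).2
    rwa [add_add_sub_cancel, ← Pi.single_add] at this
  have s : ∑ i, x i = 4 * ∑ i, x i / 4 := by
    rw [mul_sum]; exact sum_congr rfl fun i _ => by have := h1 i; omega
  have e : x = ∑ i, (x i / 4) • (Pi.single i 4 - Pi.single pa 4 : V) + ((∑ i, x i) / 8) • Pi.single pa 8 := by
    funext j
    have := h1 j
    simp only [Pi.add_apply, Finset.sum_apply, Pi.smul_apply, Pi.sub_apply, smul_eq_mul, mul_sub, sum_sub_distrib,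
      ← sum_mul, Pi.single_apply, mul_ite, mul_zero, sum_ite_eq, mem_univ, if_true]
    split_ifs
    · rw [← sum_mul]; omega
    · simp only [sum_const_zero]; omega
  rw [e]
  refine add_mem (sum_mem fun i _ => zsmul_mem ?_ _) (zsmul_mem a _)
  by_cases h : i = pa
  · rw [h, sub_self]; exact zero_mem _
  · exact (h3 i pa h).2

theorem lat_le (K : AddSubgroup V) (p : GolayPt) (h1 : pv p (-3) 1 ∈ K) (h2 : ∀ o ∈ octads, tw o ∈ K)
    (h3 : ∀ i j, i ≠ j → (Pi.single i 4 + Pi.single j 4 : V) ∈ K ∧ (Pi.single i 4 - Pi.single j 4 : V) ∈ K) :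
    leechLattice ≤ K := by
  have k : ∀ n, ∀ x c, c.card = n → LS x 0 c → x ∈ K := fun n => by
    induction n using Nat.strong_induction_on with
    | _ n ih =>
    rintro x c rfl h
    rcases c.eq_empty_or_nonempty with rfl | hc
    · exact four_mem K h3 (fun i => by simpa [tw] using h.md i) h.sum
    have := card_of_mem_gC h.mem
    have := hc.card_pos
    obtain ⟨s, hs, e⟩ := exists_subset_card_eq (show 5 ≤ c.card by omega)
    obtain ⟨o, ho, hso⟩ := exists_oct e.le
    have a := card_symmDiff c o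
    have b := card_le_card (subset_inter hs hso)
    have d := (mem_octads.1 ho).2
    have := ih _ (by omega) _ _ rfl (h.add (tw_LS (mem_octads.1 ho).1))
    exact (add_mem_cancel_right (h2 o ho)).1 this
  intro x hx
  obtain ⟨m, c, rfl | rfl, h⟩ := exists_01 hx
  · exact k _ _ _ rfl h
  · exact (add_mem_cancel_right (neg_mem h1)).1 (k _ _ _ rfl (h.add (pv_LS p).neg))

theorem sqNorm_tw (c : Finset GolayPt) : sqNorm (tw c) = 4 * c.card := by
  rw [show (4 : ℤ) * c.card = 2 * (2 * c.card) by ring, ← sum_tw, mul_sum]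
  exact sum_congr rfl fun i _ => by unfold tw; split_ifs <;> rfl

theorem sqNorm_single2 {i j : GolayPt} (h : i ≠ j) (a b : ℤ) : sqNorm (Pi.single i a + Pi.single j b : V) = a ^ 2 + b ^ 2 := by
  rw [sqNorm_add, sqNorm_single, sqNorm_single, dot_single, Pi.single_eq_of_ne h.symm]; ring

theorem closure_min : AddSubgroup.closure (SN 32) = leechLattice := by
  refine le_antisymm ((AddSubgroup.closure_le _).2 fun x hx => hx.1) (lat_le _ none ?_ (fun o ho => ?_) fun i j h => ⟨?_, ?_⟩)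
  · exact AddSubgroup.subset_closure ⟨(pv_LS _).lat, sqNorm_pv _ _ _⟩
  · exact AddSubgroup.subset_closure ⟨(tw_LS (mem_octads.1 ho).1).lat, by rw [sqNorm_tw, (mem_octads.1 ho).2]; rfl⟩
  · exact AddSubgroup.subset_closure ⟨(single_LS i j 4 4 rfl rfl rfl).lat, sqNorm_single2 h _ _⟩
  · rw [sub_eq_add_neg, ← Pi.single_neg]
    exact AddSubgroup.subset_closure ⟨(single_LS i j 4 (-4) rfl rfl rfl).lat, sqNorm_single2 h _ _⟩

/-- negation -/
def neg1 : Co0 := mono 1 ⟨univ, univ_mem_gC⟩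

theorem neg1_smul (v : L) : neg1 • v = -v := Subtype.ext (funext fun i => by simp [neg1, mono_smul, signedPerm]; rfl)

theorem neg1_ne : neg1 ≠ 1 := fun h => by
  have := congrFun (congrArg Subtype.val (neg1_smul (E8 none))) none
  rw [h, one_smul] at this
  simp [E8, e8] at this

theorem neg1_sq : neg1 * neg1 = 1 := co0_ext fun v => by rw [mul_smul, neg1_smul, neg1_smul, neg_neg, one_smul]

theorem mono_mul (σ τ : M24) (c d : gC) :
    mono σ c * mono τ d = mono (σ * τ) ⟨c.1 ∆ (σ.1 • d.1), symmDiff_mem_gC c.2 (smul_mem_gC σ.2 d.2)⟩ :=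
  co0_ext fun v => funext fun i => by
    have : i ∈ σ.1 • d.1 ↔ σ.1.symm i ∈ d.1 := Finset.inv_smul_mem_iff.symm
    simp only [mul_smul, mono_smul, signedPerm, mem_symmDiff, this]
    by_cases h1 : i ∈ c.1 <;> by_cases h2 : σ.1.symm i ∈ d.1 <;> simp [h1, h2] <;> rfl

theorem neg1_mem_index_two (K : Subgroup Co0) (hK : K.index = 2) : neg1 ∈ K := by
  obtain ⟨d, hd0⟩ : ∃ d, d ∈ dodecads := ⟨_, dod0⟩
  have hd := mem_dodecads.1 hd0
  obtain ⟨σ, hσ⟩ := dod_trans hd0 (mem_dodecads.2 ⟨compl_mem_gC hd.1, by rw [card_compl, card_golayPt, hd.2]⟩)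
  have e1 : mono σ ⟨∅, empty_mem_gC⟩ * mono 1 ⟨_, hd.1⟩ = mono 1 ⟨_, compl_mem_gC hd.1⟩ * mono σ ⟨∅, empty_mem_gC⟩ := by
    rw [mono_mul, mono_mul, mul_one, one_mul]
    congr 2
    rw [Finset.smul_finset_empty]
    exact ((bot_symmDiff _).trans hσ).trans (symmDiff_bot _).symm
  have e2 : mono 1 ⟨_, hd.1⟩ * mono 1 ⟨_, compl_mem_gC hd.1⟩ = neg1 := by
    rw [mono_mul, mul_one, neg1]
    congr 2
    rw [OneMemClass.coe_one, one_smul]
    exact symmDiff_compl_self _
  have := congrArg (· ∈ K) e1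
  simp only [Subgroup.mul_mem_iff_of_index_two hK, eq_iff_iff] at this
  rw [← e2, Subgroup.mul_mem_iff_of_index_two hK]
  tauto

end Cfsg.Agent.Leech
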