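import Cfsg.Agent.Lib.Leech.Cross

/-! The monomial group, the stabiliser of the standard cross. -/

set_option autoImplicit false
set_option linter.unusedSectionVars false
set_option linter.unusedVariables false

namespace Cfsg.Agent.Leech

open Cfsg.Agent.Spor Cfsg.Agent.PC Finset MulAction
open scoped Pointwise

abbrev L : Type := leechLattice

instance co0Distrib : DistribMulAction Co0 L :=
  { (inferInstance : MulAction Co0 L) with
    smul_zero := fun g => (AddMonoidHom.mk' (g.1 : L → L) g.2.1).map_zero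
    smul_add := fun g => g.2.1 }

theorem norm_smul (g : Co0) (v : L) : sqNorm ((g • v : L) : V) = sqNorm (v : V) := g.2.2 v

theorem dot_smul_smul (g : Co0) (v w : L) : dotInt ((g • v : L) : V) (g • w : L) = dotInt (v : V) w := by
  have a := norm_smul g (v + w)
  rw [smul_add, AddSubgroup.coe_add, AddSubgroup.coe_add, sqNorm_add, sqNorm_add, norm_smul, norm_smul] at a
  omega

theorem co0_ext {g h : Co0} (e : ∀ v : L, ((g • v : L) : V) = (h • v : L)) : g = h :=
  Subtype.ext (Equiv.ext fun v => Subtype.ext (e v))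

theorem cl_smul (g : Co0) {v w : L} (h : cl v = cl w) : cl (g • v : L) = cl (g • w : L) := by
  obtain ⟨z, hz, e⟩ := cl_eq.1 h
  refine cl_eq.2 ⟨_, (g • (⟨z, hz⟩ : L)).2, ?_⟩
  have : v - w = ⟨z, hz⟩ + ⟨z, hz⟩ := Subtype.ext (e.trans (two_nsmul z))
  rw [← AddSubgroup.coe_sub, ← smul_sub, this, smul_add, two_nsmul]; rfl

theorem perm_mem {σ : Equiv.Perm GolayPt} (hσ : σ ∈ M24) {x : V} (hx : x ∈ leechLattice) :
    (fun i => x (σ i)) ∈ leechLattice := by
  obtain ⟨m, c, -, h⟩ := exists_01 hx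
  refine (⟨smul_mem_gC (inv_mem hσ) h.mem, fun i => ?_, by rw [Equiv.sum_comp σ x]; exact h.sum⟩ : LS _ m (σ⁻¹ • c)).lat
  have := h.md (σ i)
  simp only [tw, Finset.mem_inv_smul_finset_iff] at this ⊢
  exact this

theorem signedPerm_mem {σ : Equiv.Perm GolayPt} (hσ : σ ∈ M24) {c : Finset GolayPt} (hc : c ∈ gC) {x : V}
    (hx : x ∈ leechLattice) : signedPerm σ c x ∈ leechLattice :=
  sign_mem (perm_mem (inv_mem hσ) hx) hc

theorem sqNorm_signedPerm (σ : Equiv.Perm GolayPt) (c : Finset GolayPt) (x : V) : sqNorm (signedPerm σ c x) = sqNorm x := by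
  rw [sqNorm, sqNorm, ← Equiv.sum_comp σ.symm fun i => x i ^ 2]
  exact sum_congr rfl fun i _ => by unfold signedPerm; split_ifs <;> simp

/-- the monomial automorphism -/
def mono (σ : M24) (c : gC) : Co0 :=
  ⟨⟨fun v => ⟨signedPerm σ c v, signedPerm_mem σ.2 c.2 v.2⟩,
    fun v => ⟨fun i => if σ.1 i ∈ c.1 then -v.1 (σ.1 i) else v.1 (σ.1 i), perm_mem σ.2 (sign_mem v.2 c.2)⟩,
    fun v => Subtype.ext (funext fun i => by simp only [signedPerm]; split_ifs <;> simp),
    fun v => Subtype.ext (funext fun i => by simp only [signedPerm, Equiv.apply_symm_apply]; split_ifs <;> simp)⟩,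
   fun v w => Subtype.ext (funext fun i => by
    simp only [Equiv.coe_fn_mk, signedPerm, AddSubgroup.coe_add, Pi.add_apply]; split_ifs <;> ring),
   fun v => sqNorm_signedPerm _ _ _⟩

theorem mono_smul (σ : M24) (c : gC) (v : L) : ((mono σ c • v : L) : V) = signedPerm σ c v := rfl

theorem signedPerm_single (σ : Equiv.Perm GolayPt) (c : Finset GolayPt) (i : GolayPt) (s : ℤ) :
    signedPerm σ c (Pi.single i s) = Pi.single (σ i) (if σ i ∈ c then -s else s) := funext fun j => by
  by_cases h : j = σ i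
  · subst h; simp [signedPerm]
  · have : σ.symm j ≠ i := fun e => h (by rw [← e]; simp)
    simp [signedPerm, h, this]

def E8 (i : GolayPt) : L := ⟨e8 i, e8_mem i⟩

theorem mono_inj : Function.Injective fun p : M24 × gC => mono p.1 p.2 := by
  rintro ⟨σ, c⟩ ⟨τ, d⟩ h
  have a : ∀ i, σ.1 i = τ.1 i ∧ (σ.1 i ∈ c.1 ↔ σ.1 i ∈ d.1) := fun i => by
    have := congrFun (congrArg (fun g : Co0 => ((g • E8 i : L) : V)) h) (σ.1 i)
    simp only [mono_smul, E8, e8, signedPerm_single, Pi.single_apply, if_true] at this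
    by_cases e : σ.1 i = τ.1 i
    · rw [if_pos e, ← e] at this
      refine ⟨e, ?_⟩
      split_ifs at this with p q q <;> simp [p, q] <;> omega
    · rw [if_neg e] at this
      split_ifs at this <;> omega
  refine Prod.ext (Subtype.ext (Equiv.ext fun i => (a i).1)) (Subtype.ext (Finset.ext fun j => ?_))
  obtain ⟨i, rfl⟩ := σ.1.surjective j
  exact (a i).2

theorem tw_LS {d : Finset GolayPt} (h : d ∈ gC) : LS (tw d) 0 d :=
  ⟨h, fun i => by rw [zero_add], by have := four_dvd h; rw [sum_tw]; omega⟩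

theorem exists_mono (g : Co0) (hg : ∀ i, ((g • E8 i : L) : V) ∈ stdCross) : ∃ σ c, g = mono σ c := by
  choose f s hs e using hg
  have k : ∀ (v : L) i, (g • v : L).1 (f i) * s i = v.1 i * 8 := fun v i => by
    have := dot_smul_smul g v (E8 i)
    rw [e, dot_single] at this
    exact this.trans (dot_single _ _ _)
  have inj : Function.Injective f := fun i j h => by
    have := k (E8 i) j
    rw [e, ← h, Pi.single_eq_same] at this
    by_contra n
    simp only [E8, e8, Pi.single_apply, if_neg (Ne.symm n)] at this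
    rcases hs i with a | a <;> rcases hs j with b | b <;> rw [a, b] at this <;> omega
  let σ : Equiv.Perm GolayPt := Equiv.ofBijective f (Finite.injective_iff_bijective.1 inj)
  let c : Finset GolayPt := univ.filter fun j => s (σ.symm j) = -8
  have k' : ∀ v : L, ((g • v : L) : V) = signedPerm σ c v := fun v => funext fun j => by
    obtain ⟨i, rfl⟩ := σ.surjective j
    have := k v i
    simp only [signedPerm, c, mem_filter, mem_univ, true_and, Equiv.symm_apply_apply]
    change (g • v : L).1 (f i) = _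
    rcases hs i with a | a <;> rw [a] at this ⊢ <;> simp <;> omega
  have hc : c ∈ gC := by
    obtain ⟨-, -, -, h⟩ := mem_iff_set.1 (g • (⟨_, (pv_LS none).lat⟩ : L)).2
    have := h 3
    rw [k'] at this
    convert this using 1
    ext j
    rw [mem_filter (p := fun i => _ ≡ 3 [ZMOD 4])]
    simp only [mem_univ, true_and, signedPerm, pv]
    unfold Int.ModEq
    split_ifs with p <;> simp [p]
  have hσ : σ ∈ M24 := mem_M24_of fun d hd => by
    obtain ⟨-, -, -, h⟩ := mem_iff_set.1 (g • (⟨_, (tw_LS hd).lat⟩ : L)).2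
    have := h 2
    rw [k'] at this
    convert this using 1
    ext j
    rw [← Finset.inv_smul_mem_iff, mem_filter]
    simp only [mem_univ, true_and, signedPerm, tw]
    unfold Int.ModEq
    change σ.symm j ∈ d ↔ _
    split_ifs with p q q <;> simp [q]
  exact ⟨⟨σ, hσ⟩, ⟨c, hc⟩, co0_ext k'⟩

theorem mono_std (σ : M24) (c : gC) (v : L) (hv : (v : V) ∈ stdCross) : ((mono σ c • v : L) : V) ∈ stdCross := by
  obtain ⟨i, s, hs, e⟩ := hv
  rw [mono_smul, e, signedPerm_single]
  exact ⟨_, _, by split_ifs <;> omega, rfl⟩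

theorem e8_std (i : GolayPt) : e8 i ∈ stdCross := ⟨i, 8, Or.inl rfl, rfl⟩

theorem std_iff {g : Co0} : (∀ v : L, (v : V) ∈ stdCross → ((g • v : L) : V) ∈ stdCross) ↔ ∃ σ c, g = mono σ c :=
  ⟨fun h => exists_mono g fun i => h _ (e8_std i), fun ⟨σ, c, e⟩ => e ▸ mono_std σ c⟩

theorem card_gC : Nat.card gC = 4096 := by
  have e : gC = cwd '' {d | d < 4096 ∧ True} :=
    Set.ext fun w => ⟨fun h => let ⟨k, hk, e⟩ := exists_cwd h; ⟨k, ⟨hk, trivial⟩, e⟩, fun ⟨k, hk, e⟩ => e ▸ cwd_mem hk.1⟩
  have := cwd_inj.ncard_image fun _ => True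
  rw [← e, filter_true, card_range] at this
  exact this

theorem card_std : Nat.card {g : Co0 // ∀ v : L, (v : V) ∈ stdCross → ((g • v : L) : V) ∈ stdCross} = 4096 * 244823040 := by
  rw [← card_gC, ← card_M24, mul_comm, ← Nat.card_prod]
  refine (Nat.card_eq_of_bijective (fun p : M24 × gC => ⟨mono p.1 p.2, mono_std _ _⟩) ⟨fun p q h => ?_, fun g => ?_⟩).symm
  · exact mono_inj (congrArg Subtype.val h)
  · obtain ⟨σ, c, e⟩ := std_iff.1 g.2
    exact ⟨(σ, c), Subtype.ext e.symm⟩

/-- the cross of a lattice vector, as a subset of the lattice -/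
def crL (v : L) : Set L := {w | (w : V) ∈ cross v}

theorem smul_crL (g : Co0) (v : L) : g • crL v = crL (g • v) := by
  ext w
  rw [Set.mem_smul_set_iff_inv_smul_mem]
  simp only [crL, Set.mem_setOf_eq, mem_cross, norm_smul, SetLike.coe_mem, true_and]
  refine and_congr_right fun _ => ⟨fun h => ?_, fun h => ?_⟩
  · simpa only [smul_inv_smul] using cl_smul g h
  · simpa only [inv_smul_smul] using cl_smul g⁻¹ h

/-- the monomial group -/
def Nstd : Subgroup Co0 := stabilizer Co0 (crL (E8 none))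

theorem mem_Nstd_cl {g : Co0} (i : GolayPt) : g ∈ Nstd ↔ cl (g • E8 i : L) = cl (e8 i) := by
  have e : crL (E8 none) = crL (E8 i) := by simp only [crL, E8, cross_e8]
  rw [Nstd, mem_stabilizer_iff, e, smul_crL]
  refine ⟨fun h => ?_, fun h => Set.ext fun w => ?_⟩
  · have : E8 i ∈ crL (E8 i) := mem_cross.2 ⟨e8_mem i, rfl, rfl⟩
    rw [← h] at this
    exact (mem_cross.1 this).2.2
  · simp only [crL, Set.mem_setOf_eq, mem_cross, norm_smul, h]; rfl

theorem mem_Nstd {g : Co0} : g ∈ Nstd ↔ ∀ v : L, (v : V) ∈ stdCross → ((g • v : L) : V) ∈ stdCross := by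
  refine ⟨fun h v hv => ?_, fun h => (mem_Nstd_cl none).2 ?_⟩
  · rw [← cross_e8 none] at hv ⊢
    have : g • v ∈ g • crL (E8 none) := Set.smul_mem_smul_set hv
    rwa [mem_stabilizer_iff.1 h] at this
  · have := h (E8 none) (e8_std none)
    rw [← cross_e8 none] at this
    exact (mem_cross.1 this).2.2.symm

theorem mem_Nstd_iff {g : Co0} : g ∈ Nstd ↔ ∃ σ c, g = mono σ c := mem_Nstd.trans std_iff

theorem mono_mem (σ : M24) (c : gC) : mono σ c ∈ Nstd := mem_Nstd_iff.2 ⟨σ, c, rfl⟩

theorem card_Nstd : Nat.card Nstd = 4096 * 244823040 :=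
  card_std ▸ Nat.card_congr (Equiv.subtypeEquivRight fun _ => mem_Nstd)

theorem orbit_sub : (fun S : Set L => Subtype.val '' S) '' orbit Co0 (crL (E8 none)) ⊆ crosses := by
  rintro _ ⟨_, ⟨g, rfl⟩, rfl⟩
  refine ⟨(g • E8 none : L), ⟨(g • E8 none).2, (norm_smul _ _).trans (sqNorm_e8 _)⟩, ?_⟩
  simp only [smul_crL]
  ext y
  exact ⟨fun h => ⟨⟨y, h.1⟩, h, rfl⟩, fun ⟨w, h, e⟩ => e ▸ h⟩

theorem fin_crosses : crosses.Finite := Set.finite_of_ncard_ne_zero (by rw [ncard_crosses]; decide)

theorem index_Nstd : Nstd.index ≠ 0 ∧ Nstd.index ≤ 8292375 := by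
  have i : Function.Injective fun S : Set L => Subtype.val '' S := Subtype.val_injective.image_injective
  have f : (orbit Co0 (crL (E8 none))).Finite := (fin_crosses.subset orbit_sub).of_finite_image i.injOn
  rw [Nstd, index_stabilizer]
  refine ⟨Set.ncard_ne_zero_of_mem (mem_orbit_self _) f, ?_⟩
  rw [← ncard_crosses, ← Set.ncard_image_of_injective _ i]
  exact Set.ncard_le_ncard orbit_sub fin_crosses

instance finiteCo0 : Finite Co0 := Nat.finite_of_card_ne_zero (by
  rw [← Nstd.card_mul_index, card_Nstd]; exact mul_ne_zero (by decide) index_Nstd.1)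

theorem card_Co0_le : Nat.card Co0 ≤ 8292375 * (4096 * 244823040) := by
  rw [← Nstd.card_mul_index, card_Nstd, mul_comm]; exact Nat.mul_le_mul_right _ index_Nstd.2

end Cfsg.Agent.Leech
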