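import Cfsg.Agent.Lib.Spor.Key2
import Cfsg.Agent.Lib.Steiner.Lin
import Cfsg.Agent.Lib.Leech.Index

/-! Moving points and octads; restrictions of code words. -/

set_option autoImplicit false
set_option linter.unusedSectionVars false
set_option linter.unusedVariables false

namespace Cfsg.Agent.Leech

open Cfsg.Agent.Spor Cfsg.Agent.PC Cfsg.Agent.Steiner Finset MulAction
open scoped symmDiff Pointwise

def k21aV_t : TN := (TN.node (TN.node (TN.node (TN.node (TN.node (TN.node (TN.leaf (nat_lit 0x70001900000060070000002301c0006c000002400000000001c60060001801c000024480700000000000000)) (TN.leaf (nat_lit 0x1b00000002300000000000000001a01c00060000002448000000001800000000000001302300068001901a))) (TN.node (TN.leaf (nat_lit 0x1c0000000000000000188c070000001000070000000064000000044001200000070001a00c)) (TN.leaf (nat_lit 0x22000000000009000000000000000000010010023000000000000023000900)))) (TN.node (TN.node (TN.leaf (nat_lit 0x22000700000000000019000000019010000000000024000000023018011011000480023000000500)) (TN.leaf (nat_lit 0x240000000000005000000000000000000000000004000000000000000006c002001b)))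 (TN.node (TN.leaf (nat_lit 0x1c00000000000000000000000000000001c000000000000000000000013000000000000000019500000010011)) (TN.leaf (nat_lit 0x19000000000440000000000000))))) (TN.node (TN.node (TN.node (TN.leaf (nat_lit 0x2400000000000002400000064001c01800000001c01800000000001a00002400048001b0188c0000)) (TN.leaf (nat_lit 0x7000000000000000000000000000000240009000000000000196c0000000024))) (TN.node (TN.leaf (nat_lit 0x2900001400000000000000000000000000000002000000068000000000002100000001201b)) (TN.leaf (nat_lit 0x19000000000000000000000000000000000000000000000000500)))) (TN.node (TN.node (TN.leaf (nat_lit 0x210006c0000000000000014000000000000000000024680900)) (TN.leaf (nat_lit 0x14000000000000000000000000000000000000000000000000000000020000000000000019))) (TN.node (TN.leaf (nat_lit 0x640000000000000000000000000000000000023000000000000)) (TN.leaf (nat_lit 0x20000000)))))) (TN.node (TN.node (TN.node (TN.node (TN.leaf (nat_lit 0x2200000000000000000000000000001c0000000080190000000220000004c001a01300001400000001301a2c0900)) (TN.leaf (nat_lit 0x1a0000000000000000000004000000000000000000000008c0000400000010000000014000)))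 (TN.node (TN.leaf (nat_lit 0x1b0000000006c002400000000000000000000000001b00000000000001c01c00000000000c)) (TN.leaf (nat_lit 0x1b400000)))) (TN.node (TN.node (TN.leaf (nat_lit 0x60001900000000000001b0000000000000000004c000000002b000880)) (TN.leaf (nat_lit 0x1100000000000000000001b000000000010))) (TN.node (TN.leaf (nat_lit 0x44000000000000000000000001c)) (TN.leaf (nat_lit 0x24000000000000000000000000000000000000000000000000))))) (TN.node (TN.node (TN.node (TN.leaf (nat_lit 0x6c00000000000000000000000000190000000000000000000000180180000006c0000000000280)) (TN.leaf (nat_lit 0x2200000000000000000000000000000000000000000000000001b024))) (TN.node (TN.leaf (nat_lit 0x6c0000013)) (TN.leaf (nat_lit 0x14000000000000000000000000000000000000)))) (TN.node (TN.node (TN.leaf (nat_lit 0xb00000000000000000000000000000000001a000000000000000014000000)) (TN.leaf (nat_lit 0x0))) (TN.node (TN.leaf (nat_lit 0x23000)) (TN.leaf (nat_lit 0x0))))))) (TN.node (TN.node (TN.node (TN.node (TN.node (TN.leaf (nat_lit 0x1b01b00001800000000001820000001a000000000000018000700000900018013000000018024)) (TN.leaf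 (nat_lit 0x2a000000000000000000000018000000000240020000900400))) (TN.node (TN.leaf (nat_lit 0x900000002000000000000001c00000000002000000000000001a02c000300)) (TN.leaf (nat_lit 0x50000000000000000000000000000000000000000000000000000000000000000001b000000000000)))) (TN.node (TN.node (TN.leaf (nat_lit 0x70000000000000000000000000000002160000000000001c000000640000011)) (TN.leaf (nat_lit 0x2300000000001c000000000000000000000000000014000000))) (TN.node (TN.leaf (nat_lit 0x1c000000000000000000000000000000000000000000000700)) (TN.leaf (nat_lit 0x21000))))) (TN.node (TN.node (TN.node (TN.leaf (nat_lit 0x200000000000000000000000000000000008000000000000000000000008c000000000000000068001b00a)) (TN.leaf (nat_lit 0x2100000000000000000001a000000023000000000000000000))) (TN.node (TN.leaf (nat_lit 0x640000000021000000)) (TN.leaf (nat_lit 0x24)))) (TN.node (TN.node (TN.leaf (nat_lit 0x23000000000000000000000000000000000000000000021000000000022)) (TN.leaf (nat_lit 0x0))) (TN.node (TN.leaf (nat_lit 0x24000000000000000000000000)) (TN.leaf (nat_lit 0x0)))))) (TN.node (TN.node (TN.node (TN.node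 (TN.leaf (nat_lit 0x1a00088000000000060000000000000000000000001c6c0000000008)) (TN.leaf (nat_lit 0xb000000000000000000000000000000000000023000000000000000019000000))) (TN.node (TN.leaf (nat_lit 0x23000000000000000000000000300)) (TN.leaf (nat_lit 0x1b)))) (TN.node (TN.node (TN.leaf (nat_lit 0x19000000000000000000000000000000000000000000000000000000000000000000018010)) (TN.leaf (nat_lit 0x0))) (TN.node (TN.leaf (nat_lit 0x14000000000000000000)) (TN.leaf (nat_lit 0x0))))) (TN.node (TN.node (TN.node (TN.leaf (nat_lit 0x1a000000000000000023000000024000)) (TN.leaf (nat_lit 0x0))) (TN.node (TN.leaf (nat_lit 0x1b000000000000000000000000000000000000000000000000)) (TN.leaf (nat_lit 0x0)))) (TN.node (TN.node (TN.leaf (nat_lit 0x0)) (TN.leaf (nat_lit 0x2c0))) (TN.node (TN.leaf (nat_lit 0x0)) (TN.leaf (nat_lit 0x0))))))))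
noncomputable def k21aV (i : ℕ) : ℕ := get2 k21aV_t (nat_lit 6) (nat_lit 63) i
def k21aR (i : ℕ) : ℕ := Nat.land (Nat.shiftRight (nat_lit 0x1004000000000000000000000000000000000000000000000000000000000000000000000000000000000000000000003006000) (Nat.mul (nat_lit 12) i)) (nat_lit 4095)

def k21bV_t : TN := (TN.node (TN.node (TN.node (TN.node (TN.node (TN.node (TN.leaf (nat_lit 0x8800200120000000220180220180007000280186806800190200009000130184c0600900000000020000000000000)) (TN.leaf (nat_lit 0x237008c0000600022000000a000140110004c00000218c000001b021010029700900000024900600))) (TN.node (TN.leaf (nat_lit 0x1c0000000220208c00000000000190210006c002401c00000002401a00080002802302401148070001c00a000900)) (TN.leaf (nat_lit 0x24000000000000000000ac000000001c000240000000000600020000000400000000000013440600028013)))) (TN.node (TN.node (TN.leaf (nat_lit 0x2164000000001c00000000070001b0238806400280006c04c0000019000700000440024012900600020010)) (TN.leaf (nat_lit 0x2800000000000002301800000000002100000001c00000048002b010000019000b0002b013640000))) (TN.node (TN.leaf (nat_lit 0x70000070000001c00000001900000000000000000090001902200002480000000001c400440))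 (TN.leaf (nat_lit 0x1900000000000001c00000068000002c00000000000000000000000000001400000001a01c))))) (TN.node (TN.node (TN.node (TN.leaf (nat_lit 0x60002a01b00002400088001c0006406c000002490000000002a50068080084001b022000900012024)) (TN.leaf (nat_lit 0x2c00000000000000000050000000000001900000002b01000000000002b00000001a020000029000000010022840800))) (TN.node (TN.leaf (nat_lit 0x6c000000000000000000000002470000000001c00000002300000064000001800000000048002401b900900)) (TN.leaf (nat_lit 0x2200000000000000002900000000000000000000001b000000000a0001a02100000001c000)))) (TN.node (TN.node (TN.leaf (nat_lit 0x240000000220000000202c0000000019000000000000000000022020000800000000022021000840021024)) (TN.leaf (nat_lit 0x6c000002000000000001a0000000000000000000009000210000006c0))) (TN.node (TN.leaf (nat_lit 0x2b01c00000000002400000000001c01900000000000002c000640)) (TN.leaf (nat_lit 0x70000000000000000000000000001c)))))) (TN.node (TN.node (TN.node (TN.node (TN.leaf (nat_lit 0x1200000060000002300002184088000002420000000000000070001b0186806800006c002301868060001900c)) (TN.leaf (nat_lit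 0x1400000000000000002484000001302000000002901100000000002c01b0000004000180200008c0))) (TN.node (TN.leaf (nat_lit 0x6c00000000000000006c001802340000000001a00000000001c0000140004c00200008c0700)) (TN.leaf (nat_lit 0x2c00000001b00000000000000000000000000000000002c000400000000000023000000010014)))) (TN.node (TN.node (TN.leaf (nat_lit 0x2101802200000000000001a00070000002400000000002288000000048001a023000000013024)) (TN.leaf (nat_lit 0xb0000000000000000000000000000000000001b0000000000000000000000240000000000000000186c0400))) (TN.node (TN.leaf (nat_lit 0x1c00000000002100000000001c00000001c00000000000000002001b0004c0)) (TN.leaf (nat_lit 0x23000000500000000))))) (TN.node (TN.node (TN.node (TN.leaf (nat_lit 0x2200000000002000000000000001a02800080000001b00090002a0000000000000000230110006c001a00a)) (TN.leaf (nat_lit 0x23000000000000000000000000000800020000000000880000000010000900))) (TN.node (TN.leaf (nat_lit 0x2200000000000001300000000000000000001b02300002400000000001b840000)) (TN.leaf (nat_lit 0x64000000000000000000000000000000000000000000000002a)))) (TN.node (TN.node (TN.leaf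 (nat_lit 0x8c0000000000000000000000880000000000021a0000002001a)) (TN.leaf (nat_lit 0x2b00000000000000000000000002b00001b000000000000000000))) (TN.node (TN.leaf (nat_lit 0x23000000000000000000000000000000000000000000000000000000000000000600000000000000)) (TN.leaf (nat_lit 0x11))))))) (TN.node (TN.node (TN.node (TN.node (TN.node (TN.leaf (nat_lit 0xac00000000240008c000000000001c68060000801800088001a02300060002400000002b680a0001a01b8c0300)) (TN.leaf (nat_lit 0x2400000000002a0000230002c0021000000000000000000000023019000ac0000000020009000b0002201a))) (TN.node (TN.leaf (nat_lit 0x200230000002400000000009000000000000000000206807000006c000002484000001b01c)) (TN.leaf (nat_lit 0x20023000000018000000000000023000019000000000021500000)))) (TN.node (TN.node (TN.leaf (nat_lit 0x1b00000000000000000000000001c00000080001a02400000000002100000000801900002100000002402aa40900)) (TN.leaf (nat_lit 0x2c000000000000000000000000400000000000000000000000840680000000020000000000014))) (TN.node (TN.leaf (nat_lit 0x2400000000000000002300000000000000070002c000000000000000024018000000000011)) (TN.leaf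 (nat_lit 0x1b000880))))) (TN.node (TN.node (TN.node (TN.leaf (nat_lit 0x2c00000000000001202400000000002000000000002468000002a01a02400000084002001a000280)) (TN.leaf (nat_lit 0x208c0000000000000500000000000000000000023000000b00000024))) (TN.node (TN.leaf (nat_lit 0x240000000000000000000200008c000002400000000000000000000000000002b000000023018)) (TN.leaf (nat_lit 0x200000000000000000000008c0)))) (TN.node (TN.node (TN.leaf (nat_lit 0x80000000000000000000000001100000000000000000000002900002c000840000000840000)) (TN.leaf (nat_lit 0x2800000000000000000000000000b021))) (TN.node (TN.leaf (nat_lit 0x500023000)) (TN.leaf (nat_lit 0x21000000000000000000000000000000000000000000000000000000000000)))))) (TN.node (TN.node (TN.node (TN.node (TN.leaf (nat_lit 0x280000006c000000000002000000001c01000000000001c00000001801801b021a8000000001c000200)) (TN.leaf (nat_lit 0x84000002c000000000000b0000000000000000000050001a021))) (TN.node (TN.leaf (nat_lit 0x1b00000000000000000000000000001b00000000000000000000000c000000000000024000000800022012)) (TN.leaf (nat_lit 0x240000000000000000000000000000000008c0000000000000))))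 (TN.node (TN.node (TN.leaf (nat_lit 0x2300000000000000000000000000088000000b000000000700014000000900)) (TN.leaf (nat_lit 0x28000000000000000000000000000000000000000019000000020000))) (TN.node (TN.leaf (nat_lit 0x640000000000000000000000000000000000000000000000000023)) (TN.leaf (nat_lit 0x24000000000000000000000000))))) (TN.node (TN.node (TN.node (TN.leaf (nat_lit 0x50000000000000002300000000000000000000000001c00000000000000002b6006c0)) (TN.leaf (nat_lit 0x23000000000000000000000000000000000000000000000000000000000020000000000014))) (TN.node (TN.leaf (nat_lit 0x8c0000000000013000000000000)) (TN.leaf (nat_lit 0x1b000000000)))) (TN.node (TN.node (TN.leaf (nat_lit 0x2300000002b000000000000000000000000000000022000000)) (TN.leaf (nat_lit 0x0))) (TN.node (TN.leaf (nat_lit 0x23)) (TN.leaf (nat_lit 0x0))))))))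
noncomputable def k21bV (i : ℕ) : ℕ := get2 k21bV_t (nat_lit 6) (nat_lit 63) i
def k21bR (i : ℕ) : ℕ := Nat.land (Nat.shiftRight (nat_lit 0x700200000000000000000000000000000000000000000000000000000000000000000000000000000000000000000000500a000) (Nat.mul (nat_lit 12) i)) (nat_lit 4095)


theorem b12 : bset 4096 = {gp 12} := bset_pow' (i := 12) (by norm_num)

theorem map_pts3 {p p' p'' q q' q'' : GolayPt} {s t : Finset GolayPt} (h1 : p ≠ p') (h2 : p ≠ p'') (h3 : p' ≠ p'')
    (h4 : q ≠ q') (h5 : q ≠ q'') (h6 : q' ≠ q'') (hs : s ∈ octads) (ht : t ∈ octads)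
    (hp : p ∈ s ↔ q ∈ t) (hp' : p' ∈ s ↔ q' ∈ t) (hp'' : p'' ∈ s ↔ q'' ∈ t) :
    ∃ g : M24, g • p = q ∧ g • p' = q' ∧ g • p'' = q'' ∧ g • s = t := by
  obtain ⟨a, rfl, rfl, rfl⟩ := map3 (a := gp 23) (b := gp 0) (c := gp 12) (by decide) (by decide) (by decide) h1 h2 h3
  obtain ⟨b, rfl, rfl, rfl⟩ := map3 (a := gp 23) (b := gp 0) (c := gp 12) (by decide) (by decide) (by decide) h4 h5 h6
  obtain ⟨s, rfl⟩ := exists_smul a s
  obtain ⟨t, rfl⟩ := exists_smul b t
  simp only [smul_mem_octads, Finset.smul_mem_smul_finset_iff] at hs ht hp hp' hp''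
  have : ∃ g ∈ stabilizer M24 (gp 23) ⊓ stabilizer M24 (gp 0) ⊓ stabilizer M24 (gp 12), g • s = t := by
    by_cases h : gp 23 ∈ s
    · exact conjC (c24_ok.mono (by norm_num)) gen21.le 8 8388608 8388608 1 4096 8 k21aV k21aR (by norm_num)
        (by decide +kernel) hs.1 ht.1 hs.2 ht.2 (J1.2 h) (J1.2 (hp.1 h)) (by simp only [b0, card_single_inter, hp'])
        (by simp only [b12, card_single_inter, hp''])
    · exact conjC (c24_ok.mono (by norm_num)) gen21.le 8 8388608 0 1 4096 8 k21bV k21bR (by norm_num)
        (by decide +kernel) hs.1 ht.1 hs.2 ht.2 (J0.2 h) (J0.2 fun e => h (hp.2 e))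
        (by simp only [b0, card_single_inter, hp']) (by simp only [b12, card_single_inter, hp''])
  obtain ⟨g, h1, h2⟩ := this
  exact ⟨b * g * a⁻¹, by simp [mul_smul, mem_stabilizer_iff.mp h1.1.1], by simp [mul_smul, mem_stabilizer_iff.mp h1.1.2],
    by simp [mul_smul, mem_stabilizer_iff.mp h1.2], by simp [mul_smul, h2]⟩

theorem mapJ {J s t : Finset GolayPt} (hJ : J.card ≤ 3) (hs : s ∈ octads) (ht : t ∈ octads) (h : ∀ j ∈ J, j ∈ s ↔ j ∈ t) :
    ∃ g : M24, (∀ j ∈ J, g • j = j) ∧ g • s = t := by
  obtain e | e | e | e : J.card = 0 ∨ J.card = 1 ∨ J.card = 2 ∨ J.card = 3 := by omega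
  · obtain ⟨g, hg⟩ := oct_trans hs ht
    exact ⟨g, by simp [card_eq_zero.1 e], hg⟩
  · obtain ⟨a, rfl⟩ := card_eq_one.1 e
    obtain ⟨g, h1, h2⟩ := map_pt_cw (Or.inl ⟨hs, ht⟩) (h a (by simp))
    exact ⟨g, by simpa using h1, h2⟩
  · obtain ⟨a, b, n, rfl⟩ := card_eq_two.1 e
    obtain ⟨g, h1, h2, h3⟩ := map_pts_cw n n (Or.inl ⟨hs, ht⟩) (h a (by simp)) (h b (by simp))
    exact ⟨g, by simp [h1, h2], h3⟩
  · obtain ⟨a, b, c, n1, n2, n3, rfl⟩ := card_eq_three.1 e
    obtain ⟨g, h1, h2, h3, h4⟩ := map_pts3 n1 n2 n3 n1 n2 n3 hs ht (h a (by simp)) (h b (by simp)) (h c (by simp))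
    exact ⟨g, by simp [h1, h2, h3], h4⟩

theorem exists_emb5 {ι : Type*} [Fintype ι] (hk : Fintype.card ι ≤ 5) (x y : ι → GolayPt) (hx : Function.Injective x)
    (hy : Function.Injective y) : ∃ g : M24, ∀ i, g • x i = y i := by
  obtain ⟨g, hg⟩ := exists_tuple hk _ _ (hx.comp (Fintype.equivFin ι).symm.injective)
    (hy.comp (Fintype.equivFin ι).symm.injective)
  exact ⟨g, fun i => by simpa using hg (Fintype.equivFin ι i)⟩

theorem agree5 (π : Equiv.Perm GolayPt) {S : Finset GolayPt} (h : S.card ≤ 5) : ∃ g : M24, ∀ i ∈ S, g • i = π i := by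
  obtain ⟨g, hg⟩ := exists_emb5 (ι := S) (by simpa using h) Subtype.val (fun i => π i) Subtype.val_injective
    (π.injective.comp Subtype.val_injective)
  exact ⟨g, fun i hi => hg ⟨i, hi⟩⟩

theorem mapJset {J s t : Finset GolayPt} (h5 : J.card + s.card ≤ 5) (hc : s.card = t.card) (h : ∀ j ∈ J, j ∈ s ↔ j ∈ t) :
    ∃ g : M24, (∀ j ∈ J, g • j = j) ∧ g • s = t := by
  have e : s ∩ J = t ∩ J := by ext j; simp only [mem_inter]; exact and_congr_left (h j)
  have c : (s \ J).card = (t \ J).card := by
    have a := card_sdiff_add_card_inter s J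
    have b := card_sdiff_add_card_inter t J
    rw [e] at a; omega
  let f : ↥(s \ J) ≃ ↥(t \ J) := Finset.equivOfCardEq c
  have i : ∀ u : Finset GolayPt, Function.Injective (Sum.elim Subtype.val Subtype.val : J ⊕ ↥(u \ J) → GolayPt) :=
    fun u => Subtype.val_injective.sumElim Subtype.val_injective fun a b e => (mem_sdiff.1 b.2).2 (e ▸ a.2)
  obtain ⟨g, hg⟩ := exists_emb5 (ι := J ⊕ ↥(s \ J)) (by
    have := card_le_card (sdiff_subset (s := s) (t := J))
    simp only [Fintype.card_sum, Fintype.card_coe]; omega) _ _ (i s) ((i t).comp (Equiv.sumCongr (Equiv.refl _) f).injective)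
  refine ⟨g, fun j hj => hg (Sum.inl ⟨j, hj⟩), eq_of_subset_of_card_le (fun x hx => ?_) (by rw [card_smul_finset, hc])⟩
  obtain ⟨y, hy, rfl⟩ := mem_smul_finset.1 hx
  by_cases n : y ∈ J
  · exact (hg (Sum.inl ⟨y, n⟩)).symm ▸ (h y n).1 hy
  · exact (hg (Sum.inr ⟨y, mem_sdiff.2 ⟨hy, n⟩⟩)).symm ▸ (mem_sdiff.1 (f _).2).1

theorem even_inter {c d : Finset GolayPt} (hc : c ∈ gC) (hd : d ∈ gC) : Even (c ∩ d).card := by
  have a := card_of_mem_gC hc
  have b := card_of_mem_gC hd
  have e := card_of_mem_gC (symmDiff_mem_gC hc hd)
  have f := card_symmDiff c d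
  rw [Nat.even_iff]; omega

theorem exists_restrict {S s : Finset GolayPt} (h : ∀ c ∈ gC, c ⊆ S → Even (c ∩ s).card) :
    ∃ d ∈ gC, ∀ i ∈ S, i ∈ d ↔ i ∈ s := by
  let B : LinearMap.BilinForm (ZMod 2) (GolayPt → ZMod 2) := dotProductBilin _ _
  have r : B.IsRefl := fun x y e => (dotProduct_comm y x).trans e
  have n : B.Nondegenerate := ⟨fun x e => dotProduct_eq_zero x e, fun x e => dotProduct_eq_zero x fun y => r _ _ (e y)⟩
  have ev : ∀ v w : GolayPt → ZMod 2, B v w = 0 ↔ Even (support₂ v ∩ support₂ w).card := fun v w => by
    rw [← ZMod.natCast_eq_zero_iff_even, ← sum_mul_eq]; rfl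
  have d : Module.finrank (ZMod 2) golayCode = 12 := by
    have := Module.natCard_eq_pow_finrank (K := ZMod 2) (V := golayCode)
    rw [card_golayCode, Nat.card_zmod] at this
    exact Nat.pow_right_injective le_rfl (this.symm.trans (by norm_num))
  have sd : golayCode = B.orthogonal golayCode := Submodule.eq_of_le_of_finrank_eq
    (fun v hv w hw => (ev w v).2 (even_inter (support_mem_gC.2 hw) (support_mem_gC.2 hv))) (by
      rw [LinearMap.BilinForm.finrank_orthogonal n, d, Module.finrank_fintype_fun_eq_card, card_golayPt])
  let U : Submodule (ZMod 2) (GolayPt → ZMod 2) := Submodule.pi (S : Set GolayPt) fun _ => ⊥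
  obtain ⟨w, rfl⟩ := exists_support s
  have : w ∈ golayCode ⊔ U := by
    rw [← LinearMap.BilinForm.orthogonal_orthogonal n r (golayCode ⊔ U)]
    intro v hv
    refine (ev v w).2 (h _ (support_mem_gC.2 (sd ▸ fun u hu => hv u (Submodule.mem_sup_left hu))) fun i hi => ?_)
    by_contra m
    have := hv (Pi.single i 1) (Submodule.mem_sup_right fun j hj => Pi.single_eq_of_ne (fun e : j = i => m (e ▸ hj)) _)
    exact mem_support₂.1 hi (by simpa [B, LinearMap.BilinForm.IsOrtho] using this)
  obtain ⟨c, hc, u, hu, rfl⟩ := Submodule.mem_sup.1 this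
  exact ⟨_, support_mem_gC.2 hc, fun i hi => by
    rw [mem_support₂, mem_support₂, Pi.add_apply, show u i = 0 from hu i hi, add_zero]⟩

theorem exists_restrict7 {S : Finset GolayPt} (h : S.card ≤ 7) (s : Finset GolayPt) : ∃ d ∈ gC, ∀ i ∈ S, i ∈ d ↔ i ∈ s :=
  exists_restrict fun c hc e => by
    have a := card_le_card e
    have b := card_of_mem_gC hc
    rw [card_eq_zero.1 (by omega : c.card = 0)]; simp

theorem exists_restrict_oct {o J s : Finset GolayPt} (ho : o ∈ octads) (hJ : J.card ≤ 3) (hs : Even (o ∩ s).card) :
    ∃ d ∈ gC, ∀ i ∈ o ∪ J, i ∈ d ↔ i ∈ s :=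
  exists_restrict fun c hc e => by
    have a := (card_le_card e).trans (card_union_le _ _)
    have b := card_of_mem_gC hc
    have o8 := (mem_octads.1 ho).2
    by_cases c0 : c.card = 0
    · rw [card_eq_zero.1 c0]; simp
    have : c ⊆ (c ∩ o) ∪ J := fun i hi => by
      have := e hi
      simp only [mem_union, mem_inter] at this ⊢; tauto
    have := (card_le_card this).trans (card_union_le _ _)
    rwa [oct_eq (mem_octads.2 ⟨hc, by omega⟩) ho (by omega)]

end Cfsg.Agent.Leech
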