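import Cfsg.Agent.Lib.Leech.Trans
import Cfsg.Agent.Lib.Leech.Pts

/-! Shapes of minimal vectors and orbits of monomial subgroups. -/

set_option autoImplicit false
set_option linter.unusedSectionVars false
set_option linter.unusedVariables false

namespace Cfsg.Agent.Leech

open Cfsg.Agent.Spor Cfsg.Agent.PC Finset MulAction
open scoped Pointwise symmDiff

def Sh (a b : ℤ) (s : Finset GolayPt) (x : V) : Prop := ∀ i, if i ∈ s then x i = a ∨ x i = -a else x i = b ∨ x i = -b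

theorem Sh.pos {a b : ℤ} {s : Finset GolayPt} {x : V} (h : Sh a b s x) {i : GolayPt} (hi : i ∈ s) : x i = a ∨ x i = -a := by
  simpa only [hi, if_true] using h i

theorem Sh.neg {a b : ℤ} {s : Finset GolayPt} {x : V} (h : Sh a b s x) {i : GolayPt} (hi : i ∉ s) : x i = b ∨ x i = -b := by
  simpa only [hi, if_false] using h i

theorem Sh.cases {a b : ℤ} {s : Finset GolayPt} {x : V} (h : Sh a b s x) (i : GolayPt) :
    (i ∈ s ∧ (x i = a ∨ x i = -a)) ∨ (i ∉ s ∧ (x i = b ∨ x i = -b)) :=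
  (em (i ∈ s)).imp (fun hi => ⟨hi, h.pos hi⟩) fun hi => ⟨hi, h.neg hi⟩

theorem shape32 {x : V} (hx : x ∈ leechLattice) (hn : sqNorm x = 32) :
    (∃ s : Finset GolayPt, s.card = 2 ∧ Sh 4 0 s x) ∨ (∃ o ∈ octads, Sh 2 0 o x) ∨ ∃ p, Sh 3 1 {p} x := by
  obtain ⟨m, c, rfl | rfl, l⟩ := exists_01 hx
  · rcases c.eq_empty_or_nonempty with rfl | hc
    · have k : ∀ i, x i = 0 ∨ x i = 4 ∨ x i = -4 := fun i => by
        have a := l.md i
        have b := sq_le_sqNorm x i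
        simp only [tw, notMem_empty, if_false] at a
        rcases (by omega : (x i = 0 ∨ x i = 4 ∨ x i = -4) ∨ x i ≤ -8 ∨ 8 ≤ x i) with e | e | e
        exacts [e, by nlinarith, by nlinarith]
      refine Or.inl ⟨univ.filter fun i => x i ≠ 0, ?_, fun i => ?_⟩
      · have : sqNorm x = ∑ i, if x i ≠ 0 then 16 else 0 := sum_congr rfl fun i _ => by
          rcases k i with e | e | e <;> rw [e] <;> rfl
        rw [← sum_filter, sum_const, nsmul_eq_mul] at this; omega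
      · have := k i
        simp only [mem_filter, mem_univ, true_and]; split_ifs <;> omega
    · have a := card_of_mem_gC l.mem
      have b := hc.card_pos
      obtain ⟨e, h⟩ := even_shape (c := c) (fun i => by have := l.md i; unfold tw at *; split_ifs at * <;> omega) hn (by omega)
      exact Or.inr (Or.inl ⟨c, mem_octads.2 ⟨l.mem, e⟩, fun i => by have := h i; split_ifs at * <;> omega⟩)
  · obtain ⟨p, h1, h2⟩ := odd_shape l.par hn
    exact Or.inr (Or.inr ⟨p, fun i => by simp only [mem_singleton]; split_ifs with e; exacts [e ▸ h1, h2 i e]⟩)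

theorem mono_apply (σ : M24) (c : gC) (x : L) (i : GolayPt) :
    (mono σ c • x : L).1 (σ • i) = if σ • i ∈ c.1 then -x.1 i else x.1 i := by
  change signedPerm σ c x (σ.1 i) = _
  simp only [signedPerm, Equiv.symm_apply_apply]; rfl

/-- a coordinate permutation -/
def prm (σ : M24) : Co0 := mono σ ⟨∅, empty_mem_gC⟩

theorem prm_apply (σ : M24) (x : L) (i : GolayPt) : (prm σ • x : L).1 (σ • i) = x.1 i := by
  rw [prm, mono_apply]; exact if_neg (notMem_empty _)

theorem prm_eq {σ : M24} {x y : L} (h : ∀ i, y.1 (σ • i) = x.1 i) : prm σ • x = y := Subtype.ext (funext fun j => by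
  obtain ⟨i, rfl⟩ := exists_smul σ j
  rw [prm_apply, h])

theorem Sh.prm {a b : ℤ} {s : Finset GolayPt} {x : L} (h : Sh a b s x) (σ : M24) : Sh a b (σ • s) (prm σ • x : L) := fun j => by
  obtain ⟨i, rfl⟩ := exists_smul σ j
  simp only [prm_apply, smul_mem_smul_finset_iff]; exact h i

theorem sign_of {a b : ℤ} {s : Finset GolayPt} {x y : L} (hx : Sh a b s x) (hy : Sh a b s y) {c : gC}
    (hc : ∀ i, x.1 i ≠ 0 → (i ∈ c.1 ↔ x.1 i ≠ y.1 i)) : mono 1 c • x = y := Subtype.ext (funext fun i => by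
  have := mono_apply 1 c x i
  rw [one_smul] at this
  rw [this]
  have := hc i
  rcases hx.cases i with ⟨p, q⟩ | ⟨p, q⟩
  · have := hy.pos p
    split_ifs with e <;> simp only [e, true_iff, false_iff] at * <;> omega
  · have := hy.neg p
    split_ifs with e <;> simp only [e, true_iff, false_iff] at * <;> omega)

theorem conj_of {a b : ℤ} {s t J : Finset GolayPt} {x y : L} (hx : Sh a b s x) (hy : Sh a b t y) (hJ : ∀ j ∈ J, x.1 j = y.1 j)
    {σ : M24} (h1 : ∀ j ∈ J, σ • j = j) (h2 : σ • s = t)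
    (h : ∀ z : L, Sh a b t z → ∃ c ∈ gC, ∀ i, (z.1 i ≠ 0 ∨ i ∈ J) → (i ∈ c ↔ z.1 i ≠ y.1 i)) :
    ∃ (σ : M24) (c : gC), (∀ j ∈ J, σ • j = j ∧ j ∉ c.1) ∧ mono σ c • x = y := by
  have a := h2 ▸ hx.prm σ
  obtain ⟨c, hc, e⟩ := h _ a
  refine ⟨σ, ⟨c, hc⟩, fun j hj => ⟨h1 j hj, fun m => (e j (Or.inr hj)).1 m ?_⟩, ?_⟩
  · rw [← hJ j hj, ← prm_apply σ x j, h1 j hj]
  · rw [← sign_of a hy (c := ⟨c, hc⟩) fun i hi => e i (Or.inl hi), ← mul_smul, prm, mono_mul, one_mul]
    congr 3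
    rw [Finset.smul_finset_empty]; exact (symmDiff_bot _).symm

theorem conjA {s t J : Finset GolayPt} {x y : L} (hs : s.card = 2) (ht : t.card = 2) (hx : Sh 4 0 s x) (hy : Sh 4 0 t y)
    (h3 : J.card ≤ 3) (hJ : ∀ j ∈ J, x.1 j = y.1 j) :
    ∃ (σ : M24) (c : gC), (∀ j ∈ J, σ • j = j ∧ j ∉ c.1) ∧ mono σ c • x = y := by
  obtain ⟨σ, h1, h2⟩ := mapJset (J := J) (s := s) (t := t) (by omega) (by omega) fun j hj => by
    have := hJ j hj
    rcases hx.cases j with ⟨p, q⟩ | ⟨p, q⟩ <;> rcases hy.cases j with ⟨p', q'⟩ | ⟨p', q'⟩ <;> simp only [p, p'] <;> omega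
  refine conj_of hx hy hJ h1 h2 fun z hz => ?_
  obtain ⟨c, hc, e⟩ := exists_restrict7 (S := t ∪ J) ((card_union_le _ _).trans (by omega)) (univ.filter fun i => z.1 i ≠ y.1 i)
  refine ⟨c, hc, fun i hi => (e i (mem_union.2 (hi.imp_left fun n => ?_))).trans (by simp)⟩
  by_contra m
  have := hz.neg m; omega

theorem LS.sum_even {x : L} {i : GolayPt} (h : x.1 i % 2 = 0) : (∑ i, x.1 i) % 8 = 0 := by
  obtain ⟨m, c, hm, l⟩ := exists_01 x.2
  have := l.par i
  have := l.sum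
  omega

theorem conjB {s t J : Finset GolayPt} {x y : L} (hs : s ∈ octads) (ht : t ∈ octads) (hx : Sh 2 0 s x) (hy : Sh 2 0 t y)
    (h3 : J.card ≤ 3) (hJ : ∀ j ∈ J, x.1 j = y.1 j) :
    ∃ (σ : M24) (c : gC), (∀ j ∈ J, σ • j = j ∧ j ∉ c.1) ∧ mono σ c • x = y := by
  obtain ⟨σ, h1, h2⟩ := mapJ h3 hs ht fun j hj => by
    have := hJ j hj
    rcases hx.cases j with ⟨p, q⟩ | ⟨p, q⟩ <;> rcases hy.cases j with ⟨p', q'⟩ | ⟨p', q'⟩ <;> simp only [p, p'] <;> omega
  refine conj_of hx hy hJ h1 h2 fun z hz => ?_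
  obtain ⟨c, hc, e⟩ := exists_restrict_oct (s := univ.filter fun i => z.1 i ≠ y.1 i) ht h3 (by
    have a : (8 : ℤ) ∣ ∑ i, (z.1 i - y.1 i - 2 * tw (t ∩ univ.filter fun i => z.1 i ≠ y.1 i) i) := dvd_sum fun i _ => by
      simp only [tw, mem_inter, mem_filter, mem_univ, true_and]
      rcases hz.cases i with ⟨p, q⟩ | ⟨p, q⟩
      · have := hy.pos p
        split_ifs with e <;> simp only [p, true_and] at e <;> omega
      · have := hy.neg p
        rw [if_neg (fun e => p e.1)]; omega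
    have b := LS.sum_even (x := z) (i := none) (by rcases hz.cases none with ⟨p, q⟩ | ⟨p, q⟩ <;> omega)
    have c := LS.sum_even (x := y) (i := none) (by rcases hy.cases none with ⟨p, q⟩ | ⟨p, q⟩ <;> omega)
    rw [sum_sub_distrib, sum_sub_distrib, ← mul_sum, sum_tw] at a
    rw [Nat.even_iff]; omega)
  refine ⟨c, hc, fun i hi => (e i (mem_union.2 (hi.imp_left fun n => ?_))).trans (by simp)⟩
  by_contra m
  have := hz.neg m; omega

theorem odd_code {x y : L} {i : GolayPt} (hx : x.1 i % 2 = 1) (hy : y.1 i % 2 = 1) :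
    ∃ c ∈ gC, ∀ i, i ∈ c ↔ x.1 i % 4 ≠ y.1 i % 4 := by
  obtain ⟨m, c, hm, l⟩ := exists_01 x.2
  obtain ⟨n, d, hn, l'⟩ := exists_01 y.2
  obtain rfl : m = 1 := by have := l.par i; omega
  obtain rfl : n = 1 := by have := l'.par i; omega
  refine ⟨_, symmDiff_mem_gC l.mem l'.mem, fun i => ?_⟩
  have a := l.md i
  have b := l'.md i
  simp only [tw, mem_symmDiff] at a b ⊢
  by_cases p : i ∈ c <;> by_cases q : i ∈ d <;> simp [p, q] at a b ⊢ <;> omega

theorem conjC' {a : ℤ} (ha : a = 3 ∨ a = 5) {p q : GolayPt} {J : Finset GolayPt} {x y : L} (hx : Sh a 1 {p} x)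
    (hy : Sh a 1 {q} y) (h3 : J.card ≤ 4) (hJ : ∀ j ∈ J, x.1 j = y.1 j) :
    ∃ (σ : M24) (c : gC), (∀ j ∈ J, σ • j = j ∧ j ∉ c.1) ∧ mono σ c • x = y := by
  obtain ⟨σ, h1, h2⟩ := mapJset (J := J) (s := {p}) (t := {q}) (by rw [card_singleton]; omega) rfl fun j hj => by
    have := hJ j hj
    rcases hx.cases j with ⟨p, q⟩ | ⟨p, q⟩ <;> rcases hy.cases j with ⟨p', q'⟩ | ⟨p', q'⟩ <;> simp only [p, p'] <;> omega
  refine conj_of hx hy hJ h1 h2 fun z hz => ?_
  obtain ⟨c, hc, e⟩ := odd_code (x := z) (y := y) (i := none) (by rcases hz.cases none with ⟨p, q⟩ | ⟨p, q⟩ <;> omega)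
    (by rcases hy.cases none with ⟨p, q⟩ | ⟨p, q⟩ <;> omega)
  refine ⟨c, hc, fun i _ => (e i).trans ?_⟩
  rcases hz.cases i with ⟨p, q⟩ | ⟨p, q⟩
  · have := hy.pos p; omega
  · have := hy.neg p; omega

/-- type of a minimal vector -/
noncomputable def ty (x : V) : ℕ := if x none % 2 = 1 then 2 else if ∀ i, x i % 4 = 0 then 0 else 1

theorem ty_A {s : Finset GolayPt} {x : V} (h : Sh 4 0 s x) : ty x = 0 := by
  have : ∀ i, x i % 4 = 0 := fun i => by rcases h.cases i with ⟨p, q⟩ | ⟨p, q⟩ <;> omega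
  rw [ty, if_neg (by have := this none; omega), if_pos this]

theorem ty_B {s : Finset GolayPt} (hs : s ∈ octads) {x : V} (h : Sh 2 0 s x) : ty x = 1 := by
  obtain ⟨i, hi⟩ : s.Nonempty := card_pos.1 (by rw [(mem_octads.1 hs).2]; decide)
  rw [ty, if_neg (by rcases h.cases none with ⟨p, q⟩ | ⟨p, q⟩ <;> omega),
    if_neg fun e => by have := e i; have := h.pos hi; omega]

theorem ty_C {s : Finset GolayPt} {x : V} (h : Sh 3 1 s x) : ty x = 2 := by
  rw [ty, if_pos (by rcases h.cases none with ⟨p, q⟩ | ⟨p, q⟩ <;> omega)]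

theorem conjJ {x y : L} (hx : sqNorm (x : V) = 32) (hy : sqNorm (y : V) = 32) {J : Finset GolayPt} (h3 : J.card ≤ 3)
    (hJ : ∀ j ∈ J, x.1 j = y.1 j) (ht : ty x = ty y) :
    ∃ (σ : M24) (c : gC), (∀ j ∈ J, σ • j = j ∧ j ∉ c.1) ∧ mono σ c • x = y := by
  rcases shape32 x.2 hx with ⟨s, h1, h2⟩ | ⟨s, h1, h2⟩ | ⟨s, h2⟩ <;>
    rcases shape32 y.2 hy with ⟨t, h4, h5⟩ | ⟨t, h4, h5⟩ | ⟨t, h5⟩
  · exact conjA h1 h4 h2 h5 h3 hJ
  · rw [ty_A h2, ty_B h4 h5] at ht; omega
  · rw [ty_A h2, ty_C h5] at ht; omega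
  · rw [ty_B h1 h2, ty_A h5] at ht; omega
  · exact conjB h1 h4 h2 h5 h3 hJ
  · rw [ty_B h1 h2, ty_C h5] at ht; omega
  · rw [ty_C h2, ty_A h5] at ht; omega
  · rw [ty_C h2, ty_B h4 h5] at ht; omega
  · exact conjC' (Or.inl rfl) h2 h5 (by omega) hJ

/-! ### counting with two special coordinates -/

def GG2 (fa fb fo : ℤ → ℕ) : ℤ :=
  ∑ j ∈ range 92, if hist j = 0 then 0 else
    hist j * ((FF fa fb fo 1 0 j + FF fa fb fo (-1) 0 j) + (FF fa fb fo 1 1 j - FF fa fb fo (-1) 1 j))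

theorem GG_eq (fa fb fo : ℤ → ℕ) : GG fa fb fo = GG2 fa fb fo := sum_congr rfl fun j _ => by
  split_ifs with h
  · rw [h]; simp
  · rfl

def v3 (a b o : ℤ) : V := fun i => if i = pa then a else if i = pb then b else o

theorem sum_v3 (a b o : ℤ) : ∑ i, v3 a b o i = a + b + 22 * o := by
  rw [← add_sum_erase _ _ (mem_univ pa), ← add_sum_erase _ _ (show pb ∈ univ.erase pa by decide)]
  have : ∑ i ∈ rest, v3 a b o i = ∑ i ∈ rest, o := sum_congr rfl fun i hi => by
    simp only [rest, mem_erase] at hi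
    simp only [v3, hi.1, hi.2.1, if_false]
  change _ + (_ + ∑ i ∈ rest, _) = _
  rw [this, sum_const, card_rest]
  simp [v3, show pb ≠ pa by decide, add_assoc]

theorem dot_v3 (a b o : ℤ) (x : V) : dotInt (v3 a b o) x = (a - o) * x pa + (b - o) * x pb + o * ∑ i, x i := by
  have : v3 a b o = (Pi.single pa (a - o) + Pi.single pb (b - o)) + fun _ => o := funext fun i => by
    simp only [v3, Pi.add_apply, Pi.single_apply]
    by_cases h : i = pa
    · subst h; simp [show pa ≠ pb by decide]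
    · simp only [h, if_false]; split_ifs <;> ring
  rw [this, dot_comm, dot_add, dot_add, dot_single, dot_single, mul_sum]
  simp only [dotInt, mul_comm]

theorem sqNorm_v3 (a b o : ℤ) : sqNorm (v3 a b o) = a ^ 2 + b ^ 2 + 22 * o ^ 2 := by
  rw [← sum_v3]; exact sum_congr rfl fun i _ => by unfold v3; split_ifs <;> rfl

def ff (K N : ℕ) (z : ℤ) (P : ℤ → Prop) [DecidablePred P] (t : ℤ) : ℕ :=
  if P t ∧ t.natAbs ≤ 5 then K * t.natAbs ^ 2 + (t + z).natAbs ^ 2 else N + 1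

def cnt2 (a b o : ℤ) (Pa Pb Po : ℤ → Prop) [DecidablePred Pa] [DecidablePred Pb] [DecidablePred Po] (K N : ℕ) : ℕ :=
  (GG2 (ff K N a Pa) (ff K N b Pb) (ff K N o Po) / 2).toNat / (2 ^ 70) ^ N % 2 ^ 70

theorem count2 (a b o d : ℤ) (Pa Pb Po : ℤ → Prop) [DecidablePred Pa] [DecidablePred Pb] [DecidablePred Po] (K N : ℕ)
    (h1 : N < 48 * K) (h2 : a ^ 2 + b ^ 2 + 22 * o ^ 2 < 32 * K) (h3 : (N : ℤ) = 32 * K + 32 + (a ^ 2 + b ^ 2 + 22 * o ^ 2) + 2 * d)
    (h4 : 32 * K ≤ N) :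
    {x : L | sqNorm (x : V) = 32 ∧ dotInt (v3 a b o) x = d ∧ Pa (x.1 pa) ∧ Pb (x.1 pb) ∧
      ∀ i, i ≠ pa → i ≠ pb → Po (x.1 i)}.ncard = cnt2 a b o Pa Pb Po K N := by
  have b1 : ∀ (z : ℤ) (P : ℤ → Prop) [DecidablePred P] (t : ℤ), ff K N z P t ≤ N → -8 ≤ t ∧ t ≤ 8 := fun z P _ t h => by
    unfold ff at h; split_ifs at h <;> omega
  rw [cnt2, ← GG_eq, ← count _ _ _ N (b1 _ _) (b1 _ _) (b1 _ _), ncard_L fun x => sqNorm x = 32 ∧ dotInt (v3 a b o) x = d ∧
    Pa (x pa) ∧ Pb (x pb) ∧ ∀ i, i ≠ pa → i ≠ pb → Po (x i)]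
  congr 1
  ext x
  refine and_congr_right fun hx => ?_
  let P : GolayPt → Prop := fun i => (if i = pa then Pa (x i) else if i = pb then Pb (x i) else Po (x i)) ∧ (x i).natAbs ≤ 5
  have e1 : ∀ i, P i → sel3 (ff K N a Pa) (ff K N b Pb) (ff K N o Po) i (x i) =
      K * (x i).natAbs ^ 2 + (x i + v3 a b o i).natAbs ^ 2 := fun i h => by
    simp only [P] at h
    unfold sel3 v3
    split_ifs at h ⊢ <;> exact if_pos h
  have e2 : ∀ i, ¬ P i → sel3 (ff K N a Pa) (ff K N b Pb) (ff K N o Po) i (x i) = N + 1 := fun i h => by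
    simp only [P] at h
    unfold sel3
    split_ifs at h ⊢ <;> exact if_neg h
  have e3 : (∀ i, P i) → ((∑ i, sel3 (ff K N a Pa) (ff K N b Pb) (ff K N o Po) i (x i) : ℕ) : ℤ) =
      K * sqNorm x + (sqNorm x + (a ^ 2 + b ^ 2 + 22 * o ^ 2) + 2 * dotInt (v3 a b o) x) := fun h => by
    rw [← sqNorm_v3, dot_comm, ← sqNorm_add, sum_congr rfl fun i _ => e1 i (h i)]
    simp only [sqNorm, Nat.cast_sum, mul_sum, ← sum_add_distrib, Nat.cast_add, Nat.cast_mul, Nat.cast_pow,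
      Int.natAbs_sq, Nat.cast_natAbs, Int.cast_abs, Int.cast_id, sq_abs, Pi.add_apply]
  constructor
  · rintro ⟨p1, p2, p3, p4, p5⟩
    have := e3 fun i => ⟨by split_ifs with q r; exacts [q ▸ p3, r ▸ p4, p5 i q r], by
      have := sq_le_sqNorm x i
      rw [p1, ← Int.natAbs_sq] at this
      have : (x i).natAbs ^ 2 ≤ 32 := by exact_mod_cast this
      nlinarith⟩
    rw [p1, p2] at this; omega
  · intro h
    have p : ∀ i, P i := fun i => by
      by_contra n
      have := single_le_sum (f := fun i => sel3 (ff K N a Pa) (ff K N b Pb) (ff K N o Po) i (x i))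
        (fun _ _ => Nat.zero_le _) (mem_univ i)
      rw [h, e2 i n] at this; omega
    have q := e3 p
    have q' := sqNorm_nonneg (x + v3 a b o)
    rw [sqNorm_add, sqNorm_v3, dot_comm] at q'
    rw [h] at q
    have n : sqNorm x = 32 := by
      by_cases z : x = 0
      · rw [z] at q
        simp only [sqNorm, dotInt, Pi.zero_apply, mul_zero, sum_const_zero] at q
        simp at q; omega
      have r := min_norm hx z
      have s := sixteen_dvd hx
      by_contra n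
      have : (K : ℤ) * 48 ≤ K * sqNorm x := mul_le_mul_of_nonneg_left (by omega) (Nat.cast_nonneg _)
      omega
    rw [n] at q
    exact ⟨n, by omega, by simpa [P] using (p pa).1, by simpa [P, show pb ≠ pa by decide] using (p pb).1,
      fun i h1 h2 => by simpa only [P, h1, h2, if_false] using (p i).1⟩

theorem ncard_smul (g : Co0) (p : L → Prop) : {x | p (g • x)}.ncard = {x | p x}.ncard := (ncard_pre g {x | p x}).symm

theorem X0_eq : (X0 : V) = v3 4 4 0 := funext fun i => by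
  simp only [X0, v3, Pi.add_apply, Pi.single_apply]
  by_cases h : i = pa
  · subst h; rfl
  · simp only [h, if_false]; split_ifs <;> rfl

theorem U0_eq : (U0 : V) = v3 5 1 1 := funext fun i => by simp only [U0, v3, pv, ite_self]

end Cfsg.Agent.Leech
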