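import Cfsg.Agent.Lib.Leech.Orb

/-! Normal forms of pairs and triples of short vectors. -/

set_option autoImplicit false
set_option linter.unusedSectionVars false
set_option linter.unusedVariables false

namespace Cfsg.Agent.Leech

open Cfsg.Agent.Spor Cfsg.Agent.PC Finset MulAction
open scoped Pointwise symmDiff

theorem pab : pa ≠ pb := by decide

def T3 (a b o : ℤ) (h : a % 4 = o % 4 ∧ b % 4 = o % 4 ∧ (a + b + 22 * o) % 8 = (4 * o) % 8 := by decide) : L :=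
  ⟨v3 a b o, (⟨empty_mem_gC, fun i => by
    simp only [v3, tw, notMem_empty, if_false]; split_ifs <;> omega, by rw [sum_v3]; exact h.2.2⟩ : LS _ o ∅).lat⟩

theorem v3_a (a b o : ℤ) : v3 a b o pa = a := rfl
theorem v3_b (a b o : ℤ) : v3 a b o pb = b := rfl
theorem v3_o (a b o : ℤ) {i : GolayPt} (h : i ≠ pa) (h' : i ≠ pb) : v3 a b o i = o := by simp only [v3, h, h', if_false]

theorem v3_ext {x : V} {a b o : ℤ} (h1 : x pa = a) (h2 : x pb = b) (h3 : ∀ i, i ≠ pa → i ≠ pb → x i = o) : x = v3 a b o :=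
  funext fun i => by unfold v3; split_ifs with p q; exacts [p ▸ h1, q ▸ h2, h3 i p q]

theorem v3_add (a b o a' b' o' : ℤ) : v3 a b o + v3 a' b' o' = v3 (a + a') (b + b') (o + o') :=
  funext fun i => by simp only [v3, Pi.add_apply]; split_ifs <;> rfl

theorem v3_sub (a b o a' b' o' : ℤ) : v3 a b o - v3 a' b' o' = v3 (a - a') (b - b') (o - o') :=
  funext fun i => by simp only [v3, Pi.sub_apply]; split_ifs <;> rfl

theorem v3_neg (a b o : ℤ) : -v3 a b o = v3 (-a) (-b) (-o) :=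
  funext fun i => by simp only [v3, Pi.neg_apply]; split_ifs <;> rfl

theorem e8_pa : e8 pa = v3 8 0 0 := v3_ext rfl rfl fun i h _ => Pi.single_eq_of_ne h _
theorem e8_pb : e8 pb = v3 0 8 0 := v3_ext rfl rfl fun i _ h => Pi.single_eq_of_ne h _

def Y0 : L := T3 4 (-4) 0
def W0 : L := T3 1 (-3) 1
def U1 : L := T3 1 5 1

theorem Y0_eq : (Y0 : V) = v3 4 (-4) 0 := rfl
theorem W0_eq : (W0 : V) = v3 1 (-3) 1 := rfl
theorem U1_eq : (U1 : V) = v3 1 5 1 := rfl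

theorem nX0 : sqNorm (X0 : V) = 32 := by rw [X0_eq, sqNorm_v3]; rfl
theorem nY0 : sqNorm (Y0 : V) = 32 := by rw [Y0_eq, sqNorm_v3]; rfl
theorem nW0 : sqNorm (W0 : V) = 32 := by rw [W0_eq, sqNorm_v3]; rfl
theorem nU0 : sqNorm (U0 : V) = 48 := by rw [U0_eq, sqNorm_v3]; rfl
theorem nU1 : sqNorm (U1 : V) = 48 := by rw [U1_eq, sqNorm_v3]; rfl

theorem dX0 (x : V) : dotInt (X0 : V) x = 4 * x pa + 4 * x pb := by rw [X0_eq, dot_v3]; ring
theorem dY0 (x : V) : dotInt (Y0 : V) x = 4 * x pa - 4 * x pb := by rw [Y0_eq, dot_v3]; ring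
theorem dW0 (x : V) : dotInt (W0 : V) x = ∑ i, x i - 4 * x pb := by rw [W0_eq, dot_v3]; ring
theorem dU0 (x : V) : dotInt (U0 : V) x = ∑ i, x i + 4 * x pa := by rw [U0_eq, dot_v3]; ring
theorem dU1 (x : V) : dotInt (U1 : V) x = ∑ i, x i + 4 * x pb := by rw [U1_eq, dot_v3]; ring

theorem XW : X0 + W0 = U0 := Subtype.ext (by rw [AddSubgroup.coe_add, X0_eq, W0_eq, U0_eq, v3_add]; rfl)
theorem UY : U1 + Y0 = U0 := Subtype.ext (by rw [AddSubgroup.coe_add, U1_eq, Y0_eq, U0_eq, v3_add]; rfl)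
theorem XaY : X0 + Y0 = E8 pa := Subtype.ext (by rw [AddSubgroup.coe_add, X0_eq, Y0_eq, v3_add]; exact e8_pa.symm)
theorem XsY : X0 - Y0 = E8 pb := Subtype.ext (by rw [AddSubgroup.coe_sub, X0_eq, Y0_eq, v3_sub]; exact e8_pb.symm)

theorem dot_sub (x y z : V) : dotInt x (y - z) = dotInt x y - dotInt x z := by
  rw [sub_eq_add_neg, dot_add, dot_neg, sub_eq_add_neg]

theorem dot_of {g : Co0} {v w v' w' : L} (h1 : g • v = v') (h2 : g • w = w') : dotInt (v' : V) w' = dotInt (v : V) w := by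
  rw [← h1, ← h2, dot_smul_smul]

theorem mono_fix0 {σ : M24} {c : gC} (h1 : σ • pa = pa) (h2 : σ • pb = pb) (h3 : pa ∉ c.1) (h4 : pb ∉ c.1) {x : L} {a b : ℤ}
    (h : (x : V) = v3 a b 0) : mono σ c • x = x := Subtype.ext (h ▸ v3_ext
  (by rw [← h1, mono_apply, h1, if_neg h3, h]; rfl) (by rw [← h2, mono_apply, h2, if_neg h4, h]; rfl) fun j p q => by
    obtain ⟨i, rfl⟩ := exists_smul σ j
    rw [mono_apply, h, v3_o _ _ _ (fun e => p (e ▸ h1)) (fun e => q (e ▸ h2))]; simp)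

theorem prm_fix {σ : M24} (h1 : σ • pa = pa) (h2 : σ • pb = pb) {x : L} {a b o : ℤ} (h : (x : V) = v3 a b o) : prm σ • x = x :=
  prm_eq fun i => by
    have e1 : σ • i = pa ↔ i = pa := by rw [← h1, smul_left_cancel_iff, h1]
    have e2 : σ • i = pb ↔ i = pb := by rw [← h2, smul_left_cancel_iff, h2]
    simp only [h, v3, e1, e2]

theorem half_ext {x y : L} (h : x + x = y + y) : x = y := Subtype.ext (funext fun i => by
  have := congrFun (congrArg Subtype.val h) i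
  simp only [AddSubgroup.coe_add, Pi.add_apply] at this; omega)

theorem to_pair (p q : L) (hp : sqNorm (p : V) = 64) (hq : sqNorm (q : V) = 64) (h : cl p = cl q) (hd : dotInt (p : V) q = 0) :
    ∃ g : Co0, g • p = E8 pa ∧ g • q = E8 pb := by
  obtain ⟨g, hg⟩ := exists_std _ hp
  obtain ⟨a, s, hs, e1⟩ := mem_std ((norm_smul g _).trans hp) hg
  obtain ⟨b, t, ht, e2⟩ := mem_std ((norm_smul g _).trans hq) ((cl_smul g h.symm).trans hg)
  have ab : a ≠ b := by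
    rintro rfl
    have := dot_smul_smul g p q
    rw [e1, e2, dot_single, Pi.single_eq_same, hd] at this
    rcases hs with rfl | rfl <;> rcases ht with rfl | rfl <;> omega
  obtain ⟨σ, h1, h2⟩ := map2 ab pab
  obtain ⟨c, hc, h3, h4⟩ := exists_code2 pab (s = -8) (t = -8)
  refine ⟨mono σ ⟨c, hc⟩ * g, Subtype.ext ?_, Subtype.ext ?_⟩
  · rw [mul_smul, mono_smul, e1, signedPerm_single, show σ.1 a = pa from h1]
    simp only [h3, E8, e8]; congr 1; split_ifs <;> omega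
  · rw [mul_smul, mono_smul, e2, signedPerm_single, show σ.1 b = pb from h2]
    simp only [h4, E8, e8]; congr 1; split_ifs <;> omega

theorem to_XY (v w : L) (hv : sqNorm (v : V) = 32) (hw : sqNorm (w : V) = 32) (hd : dotInt (v : V) w = 0) :
    ∃ g : Co0, g • v = X0 ∧ g • w = Y0 := by
  obtain ⟨g, h1, h2⟩ := to_pair (v + w) (v - w) (by rw [AddSubgroup.coe_add, sqNorm_add]; omega)
    (by rw [AddSubgroup.coe_sub, sqNorm_sub]; omega)
    (cl_eq.2 ⟨w, w.2, by rw [AddSubgroup.coe_add, AddSubgroup.coe_sub, two_nsmul]; abel⟩) (by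
      rw [AddSubgroup.coe_add, AddSubgroup.coe_sub, dot_sub, dot_comm _ v.1, dot_comm _ w.1, dot_add, dot_add, dot_self,
        dot_self, dot_comm w.1]; omega)
  rw [smul_add, ← XaY] at h1
  rw [smul_sub, ← XsY] at h2
  exact ⟨g, half_ext (by linear_combination (norm := abel) h1 + h2), half_ext (by linear_combination (norm := abel) h1 - h2)⟩

theorem norm_odd (x : L) {a b : ℤ} (ha : x.1 pa = a) (hb : x.1 pb = b) (h1 : a % 4 = 1) (h2 : b % 4 = 1)
    (hn : sqNorm (x : V) = a ^ 2 + b ^ 2 + 22) : ∃ c : gC, pa ∉ c.1 ∧ pb ∉ c.1 ∧ ((mono 1 c • x : L) : V) = v3 a b 1 := by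
  obtain ⟨c, hc, e⟩ := odd_code (x := x) (y := U0) (i := pa) (by omega) rfl
  have u : ∀ i, U0.1 i % 4 = 1 := fun i => by rw [U0_eq]; unfold v3; split_ifs <;> rfl
  simp only [u] at e
  have m : ∀ i, (mono 1 ⟨c, hc⟩ • x : L).1 i = if i ∈ c then -x.1 i else x.1 i := fun i => mono_apply 1 ⟨c, hc⟩ x i
  obtain ⟨n, d, hn', l⟩ := exists_01 x.2
  have o : ∀ i, x.1 i % 2 = 1 := fun i => by have := l.par i; have := l.par pa; omega
  have p : ∀ i ∈ univ, 0 ≤ x.1 i ^ 2 - v3 a b 1 i ^ 2 := fun i _ => by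
    unfold v3
    split_ifs with p q
    · rw [p, ha, sub_self]
    · rw [q, hb, sub_self]
    · rcases odd_sq (o i) with (r | r) | r <;> [simp [r]; simp [r]; omega]
  have q := (sum_eq_zero_iff_of_nonneg p).1 (by
    rw [sum_sub_distrib]; change sqNorm x.1 - sqNorm (v3 a b 1) = 0; rw [hn, sqNorm_v3]; ring)
  refine ⟨⟨c, hc⟩, by rw [e]; omega, by rw [e]; omega, v3_ext (by rw [m, if_neg (by rw [e]; omega), ha])
    (by rw [m, if_neg (by rw [e]; omega), hb]) fun i p1 p2 => ?_⟩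
  have r := q i (mem_univ i)
  rw [v3_o _ _ _ p1 p2] at r
  have : (x.1 i - 1) * (x.1 i + 1) = 0 := by linarith
  simp only [m, e]
  rcases mul_eq_zero.1 this with r | r <;> split_ifs <;> omega

theorem to_XYodd (v w x : L) (hv : sqNorm (v : V) = 32) (hw : sqNorm (w : V) = 32) (hd : dotInt (v : V) w = 0) {a b : ℤ}
    (h1 : a % 4 = 1) (h2 : b % 4 = 1) (hn : sqNorm (x : V) = a ^ 2 + b ^ 2 + 22) (h3 : dotInt (v : V) x = 4 * a + 4 * b)
    (h4 : dotInt (w : V) x = 4 * a - 4 * b) : ∃ g : Co0, g • v = X0 ∧ g • w = Y0 ∧ ((g • x : L) : V) = v3 a b 1 := by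
  obtain ⟨g, e1, e2⟩ := to_XY v w hv hw hd
  have p := dot_of e1 (rfl : g • x = _)
  have q := dot_of e2 (rfl : g • x = _)
  rw [dX0] at p
  rw [dY0] at q
  obtain ⟨c, c1, c2, e⟩ := norm_odd (g • x) (by omega) (by omega) h1 h2 ((norm_smul _ _).trans hn)
  exact ⟨mono 1 c * g, by rw [mul_smul, e1, mono_fix0 rfl rfl c1 c2 X0_eq], by rw [mul_smul, e2, mono_fix0 rfl rfl c1 c2 Y0_eq],
    by rw [mul_smul, e]⟩

/-- triangle of type 223 with a point of the 2025-set -/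
theorem to_223x (v w x : L) (hv : sqNorm (v : V) = 32) (hw : sqNorm (w : V) = 32) (hx : sqNorm (x : V) = 32)
    (h1 : dotInt (v : V) w = -8) (h2 : dotInt (v : V) x = 0) (h3 : dotInt (w : V) x = 16) :
    ∃ g : Co0, g • v = X0 ∧ g • w = W0 ∧ g • x = Y0 := by
  obtain ⟨g, e1, e2, e3⟩ := to_XYodd v x w hv hx h2 (a := 1) (b := -3) rfl rfl (hw.trans (by decide)) (h1.trans (by decide))
    (by rw [dot_comm, h3]; rfl)
  exact ⟨g, e1, Subtype.ext e3, e2⟩

/-- triangle of type 233 with a point of the 100-set -/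
theorem to_233x (v w x : L) (hv : sqNorm (v : V) = 48) (hw : sqNorm (w : V) = 48) (hx : sqNorm (x : V) = 32)
    (h1 : dotInt (v : V) w = 32) (h2 : dotInt (v : V) x = 24) (h3 : dotInt (w : V) x = 24) :
    ∃ g : Co0, g • v = U0 ∧ g • w = U1 ∧ g • x = X0 := by
  obtain ⟨g, e1, e2, e3⟩ := to_XYodd x (v - w) v hx (by rw [AddSubgroup.coe_sub, sqNorm_sub]; omega)
    (by rw [AddSubgroup.coe_sub, dot_sub, dot_comm _ v.1, dot_comm _ w.1]; omega) (a := 5) (b := 1) rfl rfl hv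
    (by rw [dot_comm, h2]; rfl) (by rw [dot_comm, AddSubgroup.coe_sub, dot_sub, dot_self]; omega)
  have e : g • v = U0 := Subtype.ext (e3.trans U0_eq.symm)
  rw [smul_sub, e] at e2
  exact ⟨g, e, by rw [← UY] at e2; linear_combination (norm := abel) -e2, e1⟩

theorem finL32 : {x : L | sqNorm (x : V) = 32}.Finite :=
  Set.finite_of_ncard_ne_zero (by rw [ncard_L fun x => sqNorm x = 32, count32]; decide)

theorem empty2 (a b o d : ℤ) (Pa Pb Po : ℤ → Prop) [DecidablePred Pa] [DecidablePred Pb] [DecidablePred Po] (K N : ℕ)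
    (h1 : N < 48 * K) (h2 : a ^ 2 + b ^ 2 + 22 * o ^ 2 < 32 * K) (h3 : (N : ℤ) = 32 * K + 32 + (a ^ 2 + b ^ 2 + 22 * o ^ 2) + 2 * d)
    (h4 : 32 * K ≤ N) (h : cnt2 a b o Pa Pb Po K N = 0) {x : L} (hx : sqNorm (x : V) = 32) (hd : dotInt (v3 a b o) x = d)
    (ha : Pa (x.1 pa)) (hb : Pb (x.1 pb)) (ho : ∀ i, i ≠ pa → i ≠ pb → Po (x.1 i)) : False := by
  rw [← count2 a b o d Pa Pb Po K N h1 h2 h3 h4, Set.ncard_eq_zero (finL32.subset fun x hx => hx.1)] at h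
  exact (Set.ext_iff.1 h x).1 ⟨hx, hd, ha, hb, ho⟩

theorem coord_bd {x : L} (hx : sqNorm (x : V) = 32) (i : GolayPt) : x.1 i ∈ Icc (-5 : ℤ) 5 := by
  have := sq_le_sqNorm x.1 i
  rw [mem_Icc]; constructor <;> nlinarith

/-- the vector `s e_i + t e_j` -/
def S2 (i j : GolayPt) (s t : ℤ) (h : (s = 4 ∨ s = -4) ∧ (t = 4 ∨ t = -4) := by decide) : L :=
  ⟨_, (single_LS i j s t (by omega) (by omega) (by omega)).lat⟩

theorem nS2 {i j : GolayPt} (n : i ≠ j) {s t : ℤ} (h : (s = 4 ∨ s = -4) ∧ (t = 4 ∨ t = -4)) : sqNorm (S2 i j s t h : V) = 32 :=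
  (sqNorm_single2 n _ _).trans (by obtain ⟨rfl | rfl, rfl | rfl⟩ := h <;> rfl)

theorem dS2 (x : V) (i j : GolayPt) {s t : ℤ} (h : (s = 4 ∨ s = -4) ∧ (t = 4 ∨ t = -4)) :
    dotInt x (S2 i j s t h : V) = x i * s + x j * t := by
  rw [← dot_single, ← dot_single, ← dot_add]; rfl

theorem U0_a : U0.1 pa = 5 := rfl
theorem U0_o {i : GolayPt} (h : i ≠ pa) : U0.1 i = 1 := if_neg h

theorem to_223' (v : L) (hv : sqNorm (v : V) = 32) (hd : dotInt (U0 : V) v = 24) {c : GolayPt} (h : c ≠ pa)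
    (e : v.1 c = v.1 pa) : ∃ g : Co0, g • U0 = U0 ∧ g • v = X0 := by
  have d' := (dot_comm _ _).trans hd
  obtain ⟨g, e1, e2, -⟩ := to_223x v (U0 - v) (S2 pa c 4 (-4)) hv (by rw [AddSubgroup.coe_sub, sqNorm_sub, nU0]; omega)
    (nS2 h.symm _) (by rw [AddSubgroup.coe_sub, dot_sub, dot_self]; omega) (by rw [dS2]; omega)
    (by rw [dS2, AddSubgroup.coe_sub, Pi.sub_apply, Pi.sub_apply, U0_a, U0_o h]; omega)
  rw [smul_sub, e1] at e2
  exact ⟨g, (sub_eq_iff_eq_add'.1 e2).trans XW, e1⟩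

theorem swap223 : ∃ g : Co0, g • U0 = U0 ∧ g • W0 = X0 ∧ g • X0 = W0 := by
  obtain ⟨g, h1, h2⟩ := to_223' W0 nW0 (by rw [dU0, W0_eq, sum_v3]; rfl) (c := some 1) (by decide) rfl
  refine ⟨g, h1, h2, ?_⟩
  rw [← XW, smul_add, h2] at h1
  linear_combination (norm := abel) h1

theorem emp223 : ∀ t ∈ Icc (-5 : ℤ) 5, cnt2 5 1 1 (· = t) (fun s => s ≠ t ∧ s ≠ t - 4) (fun s => s ≠ t ∧ s ≠ t - 4) 9 416 = 0 := by
  decide +kernel

theorem to_223 (u v : L) (hu : sqNorm (u : V) = 48) (hv : sqNorm (v : V) = 32) (hd : dotInt (u : V) v = 24) :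
    ∃ g : Co0, g • u = U0 ∧ g • v = X0 := by
  obtain ⟨g, hg⟩ := to_U0 u hu
  have n := (norm_smul g v).trans hv
  have d := (dot_of hg (rfl : g • v = _)).trans hd
  suffices ∃ h : Co0, h • U0 = U0 ∧ h • g • v = X0 from
    let ⟨h, h1, h2⟩ := this; ⟨h * g, by rw [mul_smul, hg, h1], by rw [mul_smul, h2]⟩
  generalize g • v = x at n d
  obtain ⟨c, h, e⟩ : ∃ c, c ≠ pa ∧ (x.1 c = x.1 pa ∨ x.1 c = x.1 pa - 4) := by
    by_contra! k
    exact empty2 5 1 1 24 _ _ _ 9 416 (by decide) (by decide) (by decide) (by decide) (emp223 _ (coord_bd n pa)) n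
      (U0_eq ▸ d) rfl (k _ pab.symm) fun i h _ => k i h
  rcases e with e | e
  · exact to_223' x n d h e
  obtain ⟨k, h1, h2⟩ := to_223' (U0 - x) (by rw [AddSubgroup.coe_sub, sqNorm_sub, nU0]; omega)
    (by rw [AddSubgroup.coe_sub, dot_sub, dot_self, nU0]; omega) h
    (by rw [AddSubgroup.coe_sub, Pi.sub_apply, Pi.sub_apply, U0_a, U0_o h]; omega)
  obtain ⟨l, l1, l2, -⟩ := swap223
  rw [smul_sub, h1, ← XW] at h2
  exact ⟨l * k, by rw [mul_smul, h1, l1], by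
    rw [mul_smul, show k • x = W0 by linear_combination (norm := abel) -h2, l2]⟩

theorem emp233 : ∀ t ∈ Icc (-5 : ℤ) 5, cnt2 5 1 1 (· = t) (fun s => s ≠ -t ∧ s ≠ 4 - t) (fun s => s ≠ -t ∧ s ≠ 4 - t) 8 368 = 0 := by
  decide +kernel

theorem exists_100 (v w : L) (hv : sqNorm (v : V) = 48) (hw : sqNorm (w : V) = 48) (h1 : dotInt (v : V) w = 32) :
    ∃ x : L, sqNorm (x : V) = 32 ∧ dotInt (v : V) x = 24 ∧ dotInt (w : V) x = 24 := by
  obtain ⟨g, hg⟩ := to_U0 v hv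
  have n : sqNorm ((g • (v - w) : L) : V) = 32 := by rw [norm_smul, AddSubgroup.coe_sub, sqNorm_sub]; omega
  have d : dotInt (U0 : V) (g • (v - w) : L) = 16 := by
    rw [dot_of hg rfl, AddSubgroup.coe_sub, dot_sub, dot_self]; omega
  suffices ∃ x : L, sqNorm (x : V) = 32 ∧ dotInt (U0 : V) x = 24 ∧ dotInt ((g • (v - w) : L) : V) x = 0 by
    obtain ⟨x, p1, p2, p3⟩ := this
    rw [dot_of hg (smul_inv_smul g x)] at p2
    rw [dot_of rfl (smul_inv_smul g x), dot_comm, AddSubgroup.coe_sub, dot_sub, dot_comm _ v.1, dot_comm _ w.1] at p3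
    exact ⟨g⁻¹ • x, (norm_smul _ _).trans p1, p2, by omega⟩
  generalize g • (v - w) = x at n d
  obtain ⟨c, h, e⟩ : ∃ c, c ≠ pa ∧ (x.1 c = -x.1 pa ∨ x.1 c = 4 - x.1 pa) := by
    by_contra! k
    exact empty2 5 1 1 16 _ _ _ 8 368 (by decide) (by decide) (by decide) (by decide) (emp233 _ (coord_bd n pa)) n
      (U0_eq ▸ d) rfl (k _ pab.symm) fun i h _ => k i h
  have a : dotInt (U0 : V) (S2 pa c 4 4) = 24 := by rw [dS2, U0_a, U0_o h]; rfl
  rcases e with e | e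
  · exact ⟨S2 pa c 4 4, nS2 h.symm _, a, by rw [dS2]; omega⟩
  · exact ⟨U0 - S2 pa c 4 4, by rw [AddSubgroup.coe_sub, sqNorm_sub, nU0, nS2 h.symm, a]; rfl,
      by rw [AddSubgroup.coe_sub, dot_sub, dot_self, nU0, a]; rfl,
      by rw [AddSubgroup.coe_sub, dot_sub, dot_comm, d, dS2]; omega⟩

theorem to_233 (v w : L) (hv : sqNorm (v : V) = 48) (hw : sqNorm (w : V) = 48) (h1 : dotInt (v : V) w = 32) :
    ∃ g : Co0, g • v = U0 ∧ g • w = U1 := by
  obtain ⟨x, p1, p2, p3⟩ := exists_100 v w hv hw h1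
  obtain ⟨g, e1, e2, -⟩ := to_233x v w x hv hw p1 h1 p2 p3
  exact ⟨g, e1, e2⟩

theorem to_223w (v w : L) (hv : sqNorm (v : V) = 32) (hw : sqNorm (w : V) = 32) (h1 : dotInt (v : V) w = -8) :
    ∃ g : Co0, g • v = X0 ∧ g • w = W0 := by
  obtain ⟨g, e1, e2⟩ := to_223 (v + w) v (by rw [AddSubgroup.coe_add, sqNorm_add]; omega) hv
    (by rw [dot_comm, AddSubgroup.coe_add, dot_add, dot_self]; omega)
  rw [smul_add, e2, ← XW] at e1
  exact ⟨g, e2, add_left_cancel e1⟩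

theorem two_of {g h : Co0} {x y z : L} (h1 : g • x = z) (h2 : h • y = z) : (h⁻¹ * g) • x = y := by
  rw [mul_smul, h1, ← h2, inv_smul_smul]

end Cfsg.Agent.Leech
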