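import Cfsg.Agent.Lib.Leech.Count

/-! Shapes of the vectors of squared length 48. -/

set_option autoImplicit false
set_option linter.unusedSectionVars false
set_option linter.unusedVariables false

namespace Cfsg.Agent.Leech

open Cfsg.Agent.Spor Finset

theorem sum_cap (p : ℤ → Prop) [DecidablePred p] (g : ℤ → ℕ) (N : ℕ) (x : V) :
    ∑ i, (if p (x i) then g (x i) else N + 1) = N ↔ (∀ i, p (x i)) ∧ ∑ i, g (x i) = N := by
  refine ⟨fun h => ?_, fun ⟨h1, h2⟩ => by simp only [h1, if_true, h2]⟩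
  have a : ∀ i, p (x i) := fun i => by
    by_contra hi
    have := single_le_sum (f := fun i => if p (x i) then g (x i) else N + 1) (fun _ _ => Nat.zero_le _) (mem_univ i)
    rw [h, if_neg hi] at this; omega
  exact ⟨a, by simpa only [a, if_true] using h⟩

theorem count_all (p : ℤ → Prop) [DecidablePred p] (N : ℕ) (h : N ≤ 64) :
    {x : V | x ∈ leechLattice ∧ sqNorm x = N ∧ ∀ i, p (x i)}.ncard =
    (GG (fun t => if p t then t.natAbs ^ 2 else N + 1) (fun t => if p t then t.natAbs ^ 2 else N + 1)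
      (fun t => if p t then t.natAbs ^ 2 else N + 1) / 2).toNat / (2 ^ 70) ^ N % 2 ^ 70 := by
  rw [← count1 _ N fun t ht => ?_]
  · simp only [sqNorm_eq_iff, sum_cap p (fun t => t.natAbs ^ 2), and_comm]
  · split_ifs at ht
    · have : t.natAbs ≤ 8 := by nlinarith
      omega
    · omega

theorem count_ex (p : ℤ → Prop) [DecidablePred p] (N : ℕ) (h : N ≤ 64) (a b : ℕ)
    (ha : {x : V | x ∈ leechLattice ∧ sqNorm x = N}.ncard = a + 1)
    (hb : {x : V | x ∈ leechLattice ∧ sqNorm x = N ∧ ∀ i, ¬ p (x i)}.ncard = b) :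
    {x : V | x ∈ leechLattice ∧ sqNorm x = N ∧ ∃ i, p (x i)}.ncard = a + 1 - b := by
  have s : {x : V | x ∈ leechLattice ∧ sqNorm x = N ∧ ∀ i, ¬ p (x i)} ⊆ {x : V | x ∈ leechLattice ∧ sqNorm x = N} :=
    fun x hx => ⟨hx.1, hx.2.1⟩
  rw [← hb, ← ha, ← Set.ncard_diff s ((Set.finite_of_ncard_ne_zero (by rw [ha]; omega)).subset s)]
  congr 1
  ext x
  simp only [Set.mem_setOf_eq, Set.mem_diff, not_and, not_forall, not_not]
  tauto

theorem three_iff {x : V} (hx : x ∈ leechLattice) :
    (sqNorm x = 48 ∧ ∃ i j k, i ≠ j ∧ j ≠ k ∧ i ≠ k ∧ |x i| = 3 ∧ |x j| = 3 ∧ |x k| = 3) ↔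
    ∑ i, (if (x i).natAbs ≤ 8 then (x i).natAbs ^ 2 + (if |x i| = 3 then 49 else 0) else 195 + 1) = 195 := by
  rw [sum_cap (fun t => t.natAbs ≤ 8) (fun t => t.natAbs ^ 2 + (if |t| = 3 then 49 else 0)), sum_add_distrib,
    ← sum_filter, sum_const, smul_eq_mul]
  have e := (sqNorm_eq_iff x _).2 rfl
  constructor
  · rintro ⟨h, i, j, k, h1, h2, h3, h4, h5, h6⟩
    refine ⟨fun l => ?_, ?_⟩
    · have := sq_le_sqNorm x l
      rw [h, ← Int.natAbs_sq] at this
      have : (x l).natAbs ^ 2 ≤ 48 := by exact_mod_cast this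
      nlinarith
    have a : 3 ≤ (univ.filter fun i => |x i| = 3).card := by
      rw [← (card_eq_three.2 ⟨i, j, k, h1, h3, h2, rfl⟩ : ({i, j, k} : Finset GolayPt).card = 3)]
      refine card_le_card fun l hl => ?_
      simp only [mem_insert, mem_singleton] at hl
      rcases hl with rfl | rfl | rfl <;> simpa
    obtain ⟨m, c, -, hm⟩ := exists_01 hx
    have b : ∑ l, (1 + if |x l| = 3 then 8 else 0 : ℤ) ≤ sqNorm x := sum_le_sum fun l _ => by
      have p := hm.md l
      have q := hm.md i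
      unfold tw at p q
      have : x l ≠ 0 := by rcases abs_eq (by norm_num : (0 : ℤ) ≤ 3) |>.1 h4 with r | r <;> split_ifs at p q <;> omega
      have := sq_pos_of_ne_zero this
      split_ifs with r
      · rw [← sq_abs, r]; norm_num
      · omega
    rw [sum_add_distrib, ← sum_filter, sum_const, sum_const, card_univ, card_golayPt] at b
    simp only [nsmul_eq_mul] at b
    omega
  · rintro ⟨-, h⟩
    have := sixteen_dvd hx
    obtain ⟨i, j, k, h1, h2, h3, h4⟩ := card_eq_three.1 (show (univ.filter fun i => |x i| = 3).card = 3 by omega)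
    have a : ∀ l ∈ ({i, j, k} : Finset GolayPt), |x l| = 3 := fun l hl => by
      rw [← h4] at hl; simpa only [mem_filter, mem_univ, true_and] using hl
    exact ⟨by omega, i, j, k, h1, h3, h2, a _ (by simp), a _ (by simp), a _ (by simp)⟩

theorem count_three : {x : V | x ∈ leechLattice ∧ sqNorm x = 48 ∧
    ∃ i j k, i ≠ j ∧ j ≠ k ∧ i ≠ k ∧ |x i| = 3 ∧ |x j| = 3 ∧ |x k| = 3}.ncard = 8290304 := by
  have := count1 (fun t => if t.natAbs ≤ 8 then t.natAbs ^ 2 + (if |t| = 3 then 49 else 0) else 195 + 1) 195 fun t ht => by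
    by_cases h : t.natAbs ≤ 8
    · omega
    · rw [if_neg h] at ht; omega
  refine Eq.trans ?_ (this.trans (by decide +kernel))
  congr 1
  ext x
  exact and_congr_right fun hx => three_iff hx

end Cfsg.Agent.Leech
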