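import Cfsg.Agent.Lib.Leech.Uniq

/-! Transitivity of the automorphism group on crosses and on short vectors. -/

set_option autoImplicit false
set_option linter.unusedSectionVars false
set_option linter.unusedVariables false

namespace Cfsg.Agent.Leech

open Cfsg.Agent.Spor Finset Matrix MulAction
open scoped Pointwise

theorem commN {n : Type*} [Fintype n] [DecidableEq n] {A C : Matrix n n ℤ} {c : ℤ} (hc : c ≠ 0) (h : A * C = c • 1) :
    C * A = c • 1 := by
  have d : A.det ≠ 0 := fun e => by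
    have := congrArg det h
    rw [det_mul, e, det_smul, det_one, zero_mul, mul_one] at this
    exact pow_ne_zero _ hc this.symm
  have : A.adjugate * (A * (C * A)) = A.adjugate * (A * c • 1) := by
    rw [← Matrix.mul_assoc A, h, Matrix.smul_mul, Matrix.mul_smul A, Matrix.one_mul, Matrix.mul_one]
  rw [← Matrix.mul_assoc, ← Matrix.mul_assoc _ A, adjugate_mul, Matrix.smul_mul, Matrix.smul_mul, Matrix.one_mul,
    Matrix.one_mul] at this
  exact smul_right_injective _ d this

theorem parseval {v : GolayPt → V} (hv : ∀ i j, dotInt (v i) (v j) = if i = j then 64 else 0) (x : V) :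
    ∑ i, dotInt x (v i) ^ 2 = 64 * sqNorm x := by
  have a : Matrix.of v * (Matrix.of v)ᵀ = (64 : ℤ) • 1 := by
    ext i j
    rw [Matrix.smul_apply, one_apply, smul_eq_mul, mul_ite, mul_one, mul_zero, ← hv]; rfl
  have b := commN (by decide) a
  calc _ = (x ᵥ* (Matrix.of v)ᵀ) ⬝ᵥ (Matrix.of v *ᵥ x) :=
        sum_congr rfl fun i _ => by rw [vecMul_transpose, sq, dot_comm]; rfl
    _ = _ := by
      rw [← dotProduct_mulVec, mulVec_mulVec, b, smul_mulVec, one_mulVec, dotProduct_smul, ← dot_self]; rfl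

theorem exists_frame {x : V} (hx : x ∈ leechLattice) (hn : sqNorm x = 64) :
    ∃ v : GolayPt → V, (∀ i, v i ∈ cross x) ∧ ∀ i j, dotInt (v i) (v j) = if i = j then 64 else 0 := by
  classical
  obtain ⟨C, m, c⟩ : ∃ C : Finset V, (∀ y, y ∈ C ↔ y ∈ cross x) ∧ C.card = 48 :=
    ⟨(cross_finite hn).toFinset, fun y => Set.Finite.mem_toFinset _,
      by rw [← cross_card hx hn, Set.ncard_eq_toFinset_card _ (cross_finite hn)]⟩
  let o : V → Lex (Fin 24 → ℤ) := fun y => toLex fun k => y (gp k)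
  have a : C ⊆ (C.filter fun y => 0 < o y) ∪ (C.filter fun y => 0 < o y).image Neg.neg := fun y hy => by
    obtain ⟨h1, h2, h3⟩ := mem_cross.1 ((m y).1 hy)
    rcases lt_trichotomy 0 (o y) with e | e | e
    · exact mem_union_left _ (mem_filter.2 ⟨hy, e⟩)
    · have : y = 0 := funext fun p => by
        have := congrFun (congrArg ofLex e) ⟨gi p, gi_lt p⟩
        simp only [o, ofLex_toLex, gp_gi] at this
        exact this.symm
      rw [this, hn] at h2
      simp [sqNorm] at h2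
    · refine mem_union_right _ (mem_image.2 ⟨-y, mem_filter.2 ⟨(m _).2 (mem_cross.2 ⟨neg_mem h1, ?_, ?_⟩),
        (neg_pos.2 e : 0 < -o y)⟩, neg_neg y⟩)
      · rw [sqNorm_neg, h2]
      · exact h3.trans (cl_eq.2 ⟨y, h1, by rw [sub_neg_eq_add, two_nsmul]⟩)
  have a1 := (card_le_card a).trans (card_union_le _ _)
  have a2 := card_image_le (s := C.filter fun y => 0 < o y) (f := Neg.neg)
  obtain ⟨T, hT, e⟩ := exists_subset_card_eq (show 24 ≤ (C.filter fun y => 0 < o y).card by omega)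
  let f : GolayPt ≃ T := Fintype.equivOfCardEq (by rw [card_golayPt, Fintype.card_coe, e])
  have hv : ∀ i, (f i).1 ∈ cross x ∧ 0 < o (f i) := fun i => by
    have := mem_filter.1 (hT (f i).2)
    exact ⟨(m _).1 this.1, this.2⟩
  refine ⟨fun i => f i, fun i => (hv i).1, fun i j => ?_⟩
  split_ifs with n
  · rw [← n, dot_self, (hv i).1.2.1, hn]
  rcases cross_orth hn (hv i).1 (hv j).1 with e' | e' | e'
  · exact absurd (f.injective (Subtype.ext e')) n
  · have p := (hv i).2
    rw [e'] at p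
    exact absurd (neg_pos.1 (p : 0 < -o (f j))) (hv j).2.not_gt
  · exact e'

theorem ncard_L (p : V → Prop) : {v : L | p v}.ncard = {x : V | x ∈ leechLattice ∧ p x}.ncard := by
  rw [← Set.ncard_image_of_injective _ Subtype.val_injective]
  congr 1
  ext x
  exact ⟨fun ⟨v, h, e⟩ => e ▸ ⟨v.2, h⟩, fun h => ⟨⟨x, h.1⟩, h.2, rfl⟩⟩

theorem exists_std (x : L) (hn : sqNorm (x : V) = 64) : ∃ g : Co0, cl (g • x : L) = cl (e8 none) := by
  obtain ⟨v, hc, hv⟩ := exists_frame x.2 hn
  have d : ∀ (y : L) i, (8 : ℤ) ∣ dotInt y.1 (v i) := fun y i => eight_dvd y.2 (hc i).1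
  let φ : L →+ V := AddMonoidHom.mk' (fun y i => dotInt y.1 (v i) / 8) fun y z => funext fun i => by
    have a := d y i
    have b := d z i
    rw [AddSubgroup.coe_add, dot_comm, dot_add, dot_comm _ y.1, dot_comm _ z.1, Pi.add_apply]; omega
  have n : ∀ y, sqNorm (φ y) = sqNorm y.1 := fun y => by
    refine mul_left_cancel₀ (by decide : (64 : ℤ) ≠ 0) ?_
    rw [← parseval hv y.1, sqNorm, mul_sum]
    refine sum_congr rfl fun i _ => ?_
    obtain ⟨k, hk⟩ := d y i
    change 64 * (dotInt y.1 (v i) / 8) ^ 2 = _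
    rw [hk, Int.mul_ediv_cancel_left _ (by decide)]; ring
  have inj : Function.Injective φ := (injective_iff_map_eq_zero φ).2 fun y e => by
    have b := n y
    rw [e] at b
    exact Subtype.ext (sqNorm_eq_zero (b.symm.trans (by simp [sqNorm])))
  have s : ∀ i, φ ⟨v i, (hc i).1⟩ = Pi.single i 8 := fun i => funext fun j => by
    change dotInt (v i) (v j) / 8 = _
    rw [hv, Pi.single_apply]; simp only [eq_comm]; split_ifs <;> rfl
  have t : ∀ i j, (Pi.single i 4 - Pi.single j 4 : V) ∈ φ.range := fun i j => by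
    obtain ⟨z, hz, e⟩ := cl_eq.1 ((mem_cross.1 (hc i)).2.2.symm.trans (mem_cross.1 (hc j)).2.2)
    refine ⟨⟨z, hz⟩, funext fun k => ?_⟩
    have e' : (⟨v i, (hc i).1⟩ - ⟨v j, (hc j).1⟩ : L) = ⟨z, hz⟩ + ⟨z, hz⟩ := Subtype.ext (e.trans (two_nsmul z))
    have := congrFun (congrArg φ e') k
    rw [map_sub, s, s, map_add] at this
    simp only [Pi.sub_apply, Pi.add_apply, Pi.single_apply] at this ⊢
    split_ifs at this ⊢ <;> omega
  have P : Pre φ.range := by
    refine ⟨?_, fun x => four_mem _ fun i j _ => ⟨?_, t i j⟩⟩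
    · rintro _ ⟨x, rfl⟩
      rw [n]; exact sixteen_dvd x.2
    · have := add_mem (t i j) (⟨_, s j⟩ : Pi.single j 8 ∈ φ.range)
      rwa [show (Pi.single j 8 : V) = Pi.single j 4 + Pi.single j 4 by rw [← Pi.single_add]; rfl, ← add_assoc,
        sub_add_cancel] at this
  obtain ⟨σ, c, k⟩ := P.iso (by
    rintro _ ⟨x, rfl⟩ p
    rw [n]; exact min_norm x.2 fun e => p (by rw [show x = 0 from Subtype.ext e, map_zero])) (by
    rw [← count32, ← ncard_L fun x => sqNorm x = 32, ← Set.ncard_image_of_injective _ inj]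
    congr 1
    ext y
    constructor
    · rintro ⟨⟨x, rfl⟩, p⟩
      exact ⟨x, (n x).symm.trans p, rfl⟩
    · rintro ⟨x, p, rfl⟩
      exact ⟨⟨x, rfl⟩, (n x).trans p⟩)
  let f : L ≃+ L := (AddMonoidHom.ofInjective inj).trans (((spE σ c).addSubgroupMap _).trans (AddEquiv.addSubgroupCongr k))
  have hf : ∀ y, (f y : V) = signedPerm σ c (φ y) := fun y => rfl
  let g : Co0 := ⟨f.toEquiv, f.map_add, fun y => (hf y ▸ sqNorm_signedPerm _ _ _ : sqNorm (f y : V) = _).trans (n y)⟩
  refine ⟨g, (cl_smul g (w := ⟨v none, (hc none).1⟩) (mem_cross.1 (hc none)).2.2).trans ?_⟩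
  have : ((g • (⟨v none, (hc none).1⟩ : L) : L) : V) ∈ cross (e8 none) := by
    rw [cross_e8]
    change (f _ : V) ∈ _
    rw [hf, s, signedPerm_single]
    exact ⟨_, _, by split_ifs <;> omega, rfl⟩
  exact (mem_cross.1 this).2.2.symm

theorem mem_std {x : L} (hn : sqNorm (x : V) = 64) (h : cl x = cl (e8 none)) : (x : V) ∈ stdCross := by
  rw [← cross_e8 none]; exact mem_cross.2 ⟨x.2, by rw [hn, sqNorm_e8], h.symm⟩

theorem cross_trans (v w : L) (hv : sqNorm (v : V) = 64) (hw : sqNorm (w : V) = 64) : ∃ g : Co0, cl (g • v : L) = cl w := by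
  obtain ⟨g, hg⟩ := exists_std v hv
  obtain ⟨h, hh⟩ := exists_std w hw
  exact ⟨h⁻¹ * g, by simpa only [mul_smul, inv_smul_smul] using cl_smul h⁻¹ (hg.trans hh.symm)⟩

theorem index_Nstd_eq : Nstd.index = 8292375 := by
  have i : Function.Injective fun S : Set L => Subtype.val '' S := Subtype.val_injective.image_injective
  rw [Nstd, index_stabilizer, ← ncard_crosses, ← Set.ncard_image_of_injective _ i]
  congr 1
  refine Set.Subset.antisymm orbit_sub ?_
  rintro _ ⟨x, hx, rfl⟩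
  obtain ⟨g, hg⟩ := cross_trans (E8 none) ⟨x, hx.1⟩ (sqNorm_e8 _) hx.2
  refine ⟨_, ⟨g, rfl⟩, ?_⟩
  simp only [smul_crL]
  rw [← (cross_eq_iff ⟨(g • E8 none).2, (norm_smul _ _).trans (sqNorm_e8 _)⟩ hx).2 hg]
  ext y
  exact ⟨fun ⟨w, h, e⟩ => e ▸ h, fun h => ⟨⟨y, h.1⟩, h, rfl⟩⟩

theorem card_Co0 : Nat.card Co0 = 8315553613086720000 := by
  rw [← Nstd.card_mul_index, card_Nstd, index_Nstd_eq]

theorem exists_sep {i j : GolayPt} (h : i ≠ j) : ∃ c ∈ gC, i ∈ c ∧ j ∉ c := by
  obtain ⟨o, ho⟩ : ∃ o, o ∈ octads := ⟨_, oct1⟩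
  obtain ⟨h1, h2⟩ := mem_octads.1 ho
  obtain ⟨a, ha⟩ : o.Nonempty := card_pos.1 (by omega)
  obtain ⟨b, hb⟩ : oᶜ.Nonempty := card_pos.1 (by rw [card_compl, card_golayPt]; omega)
  rw [mem_compl] at hb
  obtain ⟨g, rfl, rfl⟩ := map2 (show a ≠ b from fun e => hb (e ▸ ha)) h
  exact ⟨g.1 • o, smul_mem_gC g.2 h1, smul_mem_smul_finset ha, fun e => hb (smul_mem_smul_finset_iff _ |>.1 e)⟩

theorem exists_code2 {i j : GolayPt} (h : i ≠ j) (P Q : Prop) : ∃ c ∈ gC, (i ∈ c ↔ P) ∧ (j ∈ c ↔ Q) := by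
  by_cases p : P <;> by_cases q : Q
  · exact ⟨univ, univ_mem_gC, by simp [p, q]⟩
  · obtain ⟨c, h1, h2, h3⟩ := exists_sep h
    exact ⟨c, h1, by simp [*]⟩
  · obtain ⟨c, h1, h2, h3⟩ := exists_sep h.symm
    exact ⟨c, h1, by simp [*]⟩
  · exact ⟨∅, empty_mem_gC, by simp [p, q]⟩

theorem signedPerm_add (σ : Equiv.Perm GolayPt) (c : Finset GolayPt) (x y : V) :
    signedPerm σ c (x + y) = signedPerm σ c x + signedPerm σ c y := (spE σ c).map_add x y

/-- the standard minimal vector -/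
def X0 : L := ⟨Pi.single pa 4 + Pi.single pb 4, (single_LS _ _ 4 4 rfl rfl rfl).lat⟩

/-- the standard vector of squared length 48 -/
def U0 : L := ⟨pv pa 5 1, (⟨empty_mem_gC, fun i => by simp only [pv, tw, notMem_empty, if_false]; split_ifs <;> rfl,
  by rw [sum_pv]; rfl⟩ : LS _ 1 ∅).lat⟩

theorem to_X0' (x : L) {a b : GolayPt} (h : a ≠ b) {s t : ℤ} (hs : s = 4 ∨ s = -4) (ht : t = 4 ∨ t = -4)
    (e : (x : V) = Pi.single a s + Pi.single b t) : ∃ g ∈ Nstd, g • x = X0 := by
  obtain ⟨σ, h1, h2⟩ := map2 h (show pa ≠ pb by decide)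
  obtain ⟨c, hc, h3, h4⟩ := exists_code2 (show pa ≠ pb by decide) (s = -4) (t = -4)
  refine ⟨mono σ ⟨c, hc⟩, mono_mem _ _, Subtype.ext ?_⟩
  rw [mono_smul, e, signedPerm_add, signedPerm_single, signedPerm_single, show σ.1 a = pa from h1, show σ.1 b = pb from h2]
  simp only [h3, h4, X0]
  congr 2 <;> split_ifs <;> omega

theorem to_X0 (x : L) (hn : sqNorm (x : V) = 32) : ∃ g : Co0, g • x = X0 := by
  obtain ⟨i, -, j, -, n, e⟩ := exists_ne_map_eq_of_card_lt_of_maps_to (s := univ) (t := range 6)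
    (f := fun i => (x.1 i).natAbs) (by rw [card_univ, card_golayPt]; decide) fun i _ => by
      have := sq_le_sqNorm x.1 i
      rw [hn, ← Int.natAbs_sq] at this
      have : (x.1 i).natAbs ^ 2 ≤ 32 := by exact_mod_cast this
      exact mem_coe.2 (mem_range.2 (by nlinarith))
  obtain ⟨y, h1, h2⟩ : ∃ y : L, sqNorm (y : V) = 32 ∧ dotInt (x : V) y = 0 := by
    rcases Int.natAbs_eq_natAbs_iff.1 e with e | e
    · exact ⟨⟨_, (single_LS i j 4 (-4) rfl rfl rfl).lat⟩, sqNorm_single2 n _ _,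
        by rw [dot_add, dot_single, dot_single]; omega⟩
    · exact ⟨⟨_, (single_LS i j 4 4 rfl rfl rfl).lat⟩, sqNorm_single2 n _ _,
        by rw [dot_add, dot_single, dot_single]; omega⟩
  have n1 : sqNorm ((x + y : L) : V) = 64 := by rw [AddSubgroup.coe_add, sqNorm_add]; omega
  have n2 : sqNorm ((x - y : L) : V) = 64 := by rw [AddSubgroup.coe_sub, sqNorm_sub]; omega
  obtain ⟨g, hg⟩ := exists_std _ n1
  obtain ⟨a, s, hs, e1⟩ := mem_std ((norm_smul g _).trans n1) hg
  obtain ⟨b, t, ht, e2⟩ := mem_std ((norm_smul g _).trans n2) ((cl_smul g (cl_eq.2 ⟨-y, neg_mem y.2, by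
    rw [AddSubgroup.coe_add, AddSubgroup.coe_sub, two_nsmul]; abel⟩)).trans hg)
  have e3 : ((g • x : L) : V) = Pi.single a (s / 2) + Pi.single b (t / 2) := funext fun k => by
    have p := congrFun e1 k
    have q := congrFun e2 k
    rw [smul_add, AddSubgroup.coe_add] at p
    rw [smul_sub, AddSubgroup.coe_sub] at q
    simp only [Pi.add_apply, Pi.sub_apply, Pi.single_apply] at p q ⊢
    split_ifs at p q ⊢ <;> omega
  have ab : a ≠ b := by
    rintro rfl
    have := norm_smul g x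
    rw [e3, ← Pi.single_add, sqNorm_single, hn] at this
    rcases hs with rfl | rfl <;> rcases ht with rfl | rfl <;> omega
  obtain ⟨h, -, hh⟩ := to_X0' _ ab (by omega) (by omega) e3
  exact ⟨h * g, by rw [mul_smul, hh]⟩

theorem trans32 (v w : L) (hv : sqNorm (v : V) = 32) (hw : sqNorm (w : V) = 32) : ∃ g : Co0, g • v = w := by
  obtain ⟨g, hg⟩ := to_X0 v hv
  obtain ⟨h, hh⟩ := to_X0 w hw
  exact ⟨h⁻¹ * g, by rw [mul_smul, hg, ← hh, inv_smul_smul]⟩

theorem odd_sq {t : ℤ} (h : t % 2 = 1) : (t = 1 ∨ t = -1) ∨ 9 ≤ t ^ 2 := by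
  rcases (by omega : (t = 1 ∨ t = -1) ∨ t ≤ -3 ∨ 3 ≤ t) with e | e | e
  exacts [Or.inl e, Or.inr (by nlinarith), Or.inr (by nlinarith)]

theorem to_U0' (u : L) (hn : sqNorm (u : V) = 48) {a : GolayPt} (h : u.1 a = 5 ∨ u.1 a = -5) : ∃ g ∈ Nstd, g • u = U0 := by
  obtain ⟨m, c, hm, l⟩ := exists_01 u.2
  obtain rfl : m = 1 := by have := l.par a; omega
  have k : ∀ i, i ≠ a → u.1 i = 1 ∨ u.1 i = -1 := fun i hi => (odd_sq (l.par i)).resolve_right fun e => by
    have p : ∀ i, 0 ≤ u.1 i ^ 2 - 1 := fun i => by rcases odd_sq (l.par i) with (e | e) | e <;> [simp [e]; simp [e]; omega]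
    have q := sum_le_one p hi
    simp only [sum_sub_distrib, sum_const, card_univ, card_golayPt, nsmul_eq_mul] at q
    change _ ≤ sqNorm u.1 - _ at q
    rcases h with h | h <;> rw [h] at q <;> omega
  obtain ⟨σ, hσ⟩ := map1 a pa
  refine ⟨mono σ ⟨_, smul_mem_gC σ.2 l.mem⟩, mono_mem _ _, Subtype.ext (funext fun j => ?_)⟩
  obtain ⟨i, rfl⟩ := σ.1.surjective j
  have e : σ.1 i ∈ σ.1 • c ↔ i ∈ c := smul_mem_smul_finset_iff _
  have e' : σ.1 i = pa ↔ i = a := by rw [← hσ]; exact σ.1.injective.eq_iff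
  have := l.md i
  simp only [mono_smul, signedPerm, Equiv.symm_apply_apply, e, U0, pv, e', tw] at this ⊢
  by_cases n : i = a
  · subst n; rw [if_pos rfl]; split_ifs at this ⊢ <;> omega
  · have := k i n
    rw [if_neg n]; split_ifs at * <;> omega

theorem to_U0 (u : L) (hn : sqNorm (u : V) = 48) : ∃ g : Co0, g • u = U0 := by
  obtain ⟨i, j, a, b, n, ha, hb, e⟩ : ∃ i j, ∃ a b : ℤ, i ≠ j ∧ (a = 4 ∨ a = -4) ∧ (b = 4 ∨ b = -4) ∧
      u.1 i * a + u.1 j * b = -8 := by
    obtain ⟨m, c, rfl | rfl, l⟩ := exists_01 u.2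
    · obtain ⟨j, hj⟩ : ∃ j, u.1 j = 0 := by
        by_contra! h
        have : ∑ i : GolayPt, (4 : ℤ) ≤ sqNorm u.1 := sum_le_sum fun i _ => by
          have := h i
          have := l.par i
          rcases (by omega : u.1 i ≤ -2 ∨ 2 ≤ u.1 i) with e | e <;> nlinarith
        simp only [sum_const, card_univ, card_golayPt, nsmul_eq_mul] at this; omega
      obtain ⟨i, hi⟩ : ∃ i, u.1 i = 2 ∨ u.1 i = -2 := by
        by_contra! h
        have : ∑ i, 18 * tw c i ≤ sqNorm u.1 := sum_le_sum fun i _ => by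
          have := h i
          have := l.md i
          unfold tw at *
          split_ifs at *
          · rcases (by omega : u.1 i ≤ -6 ∨ 6 ≤ u.1 i) with e | e <;> nlinarith
          · simpa using sq_nonneg (u.1 i)
        rw [← mul_sum, sum_tw] at this
        have p := card_of_mem_gC l.mem
        obtain rfl : c = ∅ := card_eq_zero.1 (by omega)
        have q := four_sum (x := u.1) fun i => by simpa [tw] using l.md i
        have := l.sum
        omega
      exact ⟨i, j, -2 * u.1 i, 4, fun e => by rw [e] at hi; omega, by omega, Or.inl rfl,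
        by rcases hi with h | h <;> rw [h, hj] <;> rfl⟩
    · have : ∑ i : GolayPt, (9 - if u.1 i = 1 ∨ u.1 i = -1 then 8 else 0 : ℤ) ≤ sqNorm u.1 := sum_le_sum fun i _ => by
        split_ifs with h
        · rcases h with h | h <;> rw [h] <;> decide
        · have := (odd_sq (l.par i)).resolve_left h; omega
      rw [sum_sub_distrib, ← sum_filter, sum_const, sum_const, card_univ, card_golayPt] at this
      simp only [nsmul_eq_mul] at this
      obtain ⟨i, hi, j, hj, n⟩ := one_lt_card.1 (show 1 < (univ.filter fun i => u.1 i = 1 ∨ u.1 i = -1).card by omega)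
      rw [mem_filter] at hi hj
      exact ⟨i, j, -4 * u.1 i, -4 * u.1 j, n, by omega, by omega,
        by rcases hi.2 with h | h <;> rcases hj.2 with h' | h' <;> rw [h, h'] <;> rfl⟩
  let y : L := ⟨_, (single_LS i j a b (by omega) (by omega) (by omega)).lat⟩
  have h1 : sqNorm (y : V) = 32 := (sqNorm_single2 n _ _).trans (by rcases ha with rfl | rfl <;> rcases hb with rfl | rfl <;> rfl)
  have h2 : dotInt (u : V) y = -8 := by rw [← e, ← dot_single, ← dot_single, ← dot_add]
  have n1 : sqNorm ((u + y : L) : V) = 64 := by rw [AddSubgroup.coe_add, sqNorm_add]; omega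
  obtain ⟨g, hg⟩ := exists_std _ n1
  obtain ⟨p, s, hs, e1⟩ := mem_std ((norm_smul g _).trans n1) hg
  have := dot_smul_smul g u (u + y)
  rw [e1, dot_single, AddSubgroup.coe_add, dot_add, dot_self, hn, h2] at this
  obtain ⟨h, -, hh⟩ := to_U0' (g • u) ((norm_smul _ _).trans hn) (a := p) (by rcases hs with rfl | rfl <;> omega)
  exact ⟨h * g, by rw [mul_smul, hh]⟩

theorem trans48 (v w : L) (hv : sqNorm (v : V) = 48) (hw : sqNorm (w : V) = 48) : ∃ g : Co0, g • v = w := by
  obtain ⟨g, hg⟩ := to_U0 v hv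
  obtain ⟨h, hh⟩ := to_U0 w hw
  exact ⟨h⁻¹ * g, by rw [mul_smul, hg, ← hh, inv_smul_smul]⟩

theorem eq_of_E8 {g : Co0} {s : ℤ} (hs : s = 1 ∨ s = -1) (h : ∀ i, ((g • E8 i : L) : V) = Pi.single i (8 * s)) :
    g = 1 ∨ g = neg1 := by
  have k : ∀ (v : L) i, (g • v : L).1 i * (8 * s) = v.1 i * 8 := fun v i => by
    have := dot_smul_smul g v (E8 i)
    rw [h, dot_single] at this
    exact this.trans (dot_single _ _ _)
  rcases hs with rfl | rfl
  · exact Or.inl (co0_ext fun v => funext fun i => by have := k v i; rw [one_smul]; omega)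
  · exact Or.inr (co0_ext fun v => funext fun i => by
      have := k v i; rw [neg1_smul, AddSubgroup.coe_neg, Pi.neg_apply]; omega)

theorem neg1_center : neg1 ∈ Subgroup.center Co0 := Subgroup.mem_center_iff.2 fun g =>
  co0_ext fun v => by rw [mul_smul, mul_smul, neg1_smul, neg1_smul, smul_neg]

theorem comm_N {z : Co0} (h : ∀ σ c, mono σ c * z = z * mono σ c) : z = 1 ∨ z = neg1 := by
  have a : ((z • E8 none : L) : V) = Pi.single none ((z • E8 none : L).1 none) := funext fun i => by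
    by_cases n : i = none
    · rw [n, Pi.single_eq_same]
    obtain ⟨c, hc, h1, h2⟩ := exists_sep n
    have e : mono 1 ⟨c, hc⟩ • E8 none = E8 none := Subtype.ext (by
      rw [mono_smul]; exact (signedPerm_single _ _ _ _).trans (congrArg _ (if_neg h2)))
    have := congrFun (congrArg (fun g : Co0 => ((g • E8 none : L) : V)) (h 1 ⟨c, hc⟩)) i
    simp only [mul_smul, e, mono_smul, signedPerm, h1, if_true] at this
    rw [Pi.single_eq_of_ne n]
    change -(z • E8 none : L).1 i = _ at this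
    omega
  have b := norm_smul z (E8 none)
  rw [a, sqNorm_single, show sqNorm (E8 none : V) = 64 from sqNorm_e8 _] at b
  generalize (z • E8 none : L).1 none = t at a b
  have : (t - 8) * (t + 8) = 0 := by linarith
  refine eq_of_E8 (s := t / 8) (by rcases mul_eq_zero.1 this with e | e <;> omega) fun i => ?_
  obtain ⟨σ, rfl⟩ := map1 none i
  have e : mono σ ⟨∅, empty_mem_gC⟩ • E8 none = E8 (σ • none) := Subtype.ext (by
    rw [mono_smul]; exact signedPerm_single _ _ _ _)
  rw [← e, ← mul_smul, ← h, mul_smul, mono_smul, a, signedPerm_single]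
  exact congrArg _ ((if_neg (notMem_empty _)).trans (by rcases mul_eq_zero.1 this with e | e <;> omega))

theorem mem_center_iff {z : Co0} : z ∈ Subgroup.center Co0 ↔ z = 1 ∨ z = neg1 :=
  ⟨fun h => comm_N fun σ c => Subgroup.mem_center_iff.1 h _, by rintro (rfl | rfl); exacts [one_mem _, neg1_center]⟩

theorem card_center : Nat.card (Subgroup.center Co0) = 2 := by
  have : (Subgroup.center Co0 : Set Co0) = {1, neg1} := Set.ext fun z => mem_center_iff
  rw [← Set.ncard_pair neg1_ne.symm, ← this]; rfl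

end Cfsg.Agent.Leech
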