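import Cfsg.Agent.Lib.Leech.Gen
import Cfsg.Agent.Lib.Leech.Shape6
import Cfsg.Agent.Lib.Steiner.Code

/-! Conway's characterisation of the rank 24 lattice. -/

set_option autoImplicit false
set_option linter.unusedSectionVars false
set_option linter.unusedVariables false

namespace Cfsg.Agent.Leech

open Cfsg.Agent.Spor Cfsg.Agent.Steiner Finset
open scoped symmDiff Pointwise

structure Pre (M : AddSubgroup V) : Prop where
  h16 : ∀ x ∈ M, (16 : ℤ) ∣ sqNorm x
  hF : ∀ x : V, (∀ i, x i % 4 = 0) → (∑ i, x i) % 8 = 0 → x ∈ M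

def codeOf (M : AddSubgroup V) : Set (Finset GolayPt) := {c | ∃ x ∈ M, ∀ i, x i % 4 = tw c i}

theorem sum_sub' (x y : V) : ∑ i, (x - y) i = ∑ i, x i - ∑ i, y i := by simp only [Pi.sub_apply, sum_sub_distrib]

theorem sub_mem_cancel {M : AddSubgroup V} {x y : V} (hx : x ∈ M) : y - x ∈ M ↔ y ∈ M := by
  rw [sub_eq_add_neg]; exact add_mem_cancel_right (neg_mem hx)

theorem Pre.dot {M : AddSubgroup V} (h : Pre M) {x y : V} (hx : x ∈ M) (hy : y ∈ M) : (8 : ℤ) ∣ dotInt x y := by
  have a := h.h16 _ (add_mem hx hy)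
  have b := h.h16 _ hx
  have c := h.h16 _ hy
  rw [sqNorm_add] at a; omega

theorem Pre.par {M : AddSubgroup V} (h : Pre M) {x : V} (hx : x ∈ M) (i j : GolayPt) : x i % 2 = x j % 2 := by
  have l := single_LS i j 4 4 rfl rfl rfl
  have := h.dot hx (h.hF _ (fun k => by simpa [tw] using l.md k) l.sum)
  rw [dot_add, dot_single, dot_single] at this; omega

theorem ev_code {M : AddSubgroup V} {x : V} (hx : x ∈ M) (h : ∀ i, x i % 2 = 0) :
    (univ.filter fun i => x i % 4 = 2) ∈ codeOf M := ⟨x, hx, fun i => by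
  have := h i
  simp only [tw, mem_filter, mem_univ, true_and]; split_ifs <;> omega⟩

theorem Pre.eq_lat {M : AddSubgroup V} (h : Pre M) (hC : codeOf M = gC) {u : V} (hu : u ∈ M) (h1 : ∀ i, u i % 4 = 1) :
    M = leechLattice := by
  have m1 : ∀ i, u i % 4 = (1 + tw ∅ i) % 4 := fun i => by simpa [tw] using h1 i
  have a := LS.sq_mod empty_mem_gC m1
  have b := h.h16 u hu
  have hp : pv none (-3) 1 ∈ M := by
    refine (sub_mem_cancel hu).1 (h.hF _ (fun i => ?_) (by rw [sum_sub', sum_pv]; omega))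
    have := h1 i
    simp only [pv, Pi.sub_apply]; split_ifs <;> omega
  have hs : ∀ x ∈ M, (8 : ℤ) ∣ ∑ i, x i - 4 * x none := fun x hx => by
    have := h.dot hx hp
    have e : pv none (-3) 1 = (fun _ => 1) + Pi.single none (-4) := funext fun i => by
      simp only [pv, Pi.add_apply, Pi.single_apply]; split_ifs <;> rfl
    rw [e, dot_add, dot_single] at this
    simp only [dotInt, mul_one] at this
    omega
  have ev : ∀ x ∈ M, x none % 2 = 0 → x ∈ leechLattice := fun x hx e => by
    have p : ∀ i, x i % 2 = 0 := fun i => (h.par hx i none).trans e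
    refine (⟨hC ▸ ev_code hx p, fun i => ?_, by have := hs x hx; omega⟩ : LS x 0 _).lat
    have := p i
    simp only [tw, mem_filter, mem_univ, true_and]; split_ifs <;> omega
  have l : ∀ i j a b, a % 4 = 0 → b % 4 = 0 → (a + b) % 8 = 0 → (Pi.single i a + Pi.single j b : V) ∈ M :=
    fun i j a b h1 h2 h3 => h.hF _ (fun k => by simpa [tw] using (single_LS i j a b h1 h2 h3).md k)
      (single_LS i j a b h1 h2 h3).sum
  refine le_antisymm (fun x hx => ?_) (lat_le M none hp (fun o ho => ?_) fun i j _ => ⟨l _ _ _ _ rfl rfl rfl, ?_⟩)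
  · by_cases e : x none % 2 = 0
    · exact ev x hx e
    · refine (add_mem_cancel_right (pv_LS none).lat).1 (ev _ (add_mem hx hp) ?_)
      simp only [Pi.add_apply, pv, if_true]; omega
  · obtain ⟨x, hx, e⟩ : o ∈ codeOf M := hC ▸ (mem_octads.1 ho).1
    refine (sub_mem_cancel hx).1 (h.hF _ (fun i => ?_) ?_)
    · have := e i
      simp only [Pi.sub_apply]; omega
    · have a := hs x hx
      have b := e none
      rw [sum_sub', sum_tw, (mem_octads.1 ho).2]
      unfold tw at b
      split_ifs at b <;> omega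
  · rw [sub_eq_add_neg, ← Pi.single_neg]; exact l _ _ _ _ rfl rfl rfl

theorem code_xor (M : AddSubgroup V) : ∀ a ∈ codeOf M, ∀ b ∈ codeOf M, a ∆ b ∈ codeOf M := by
  rintro a ⟨x, hx, e⟩ b ⟨y, hy, e'⟩
  refine ⟨_, add_mem hx hy, fun i => ?_⟩
  have p := e i
  have q := e' i
  simp only [tw, mem_symmDiff, Pi.add_apply] at *
  by_cases h1 : i ∈ a <;> by_cases h2 : i ∈ b <;> simp [h1, h2] at p q ⊢ <;> omega

theorem Pre.code_norm {M : AddSubgroup V} (h : Pre M) {c : Finset GolayPt} (hc : c ∈ codeOf M) (h0 : c ≠ ∅) :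
    ∃ y ∈ M, y ≠ 0 ∧ sqNorm y = 4 * c.card := by
  obtain ⟨x, hx, e⟩ := hc
  obtain ⟨p, hp⟩ := nonempty_iff_ne_empty.2 h0
  have d : (4 : ℤ) ∣ ∑ i, (tw c - x) i := dvd_sum fun i _ => by have := e i; simp only [Pi.sub_apply]; omega
  by_cases k : (∑ i, (tw c - x) i) % 8 = 0
  · refine ⟨tw c, (sub_mem_cancel hx).1 (h.hF _ (fun i => ?_) k), fun a => ?_, sqNorm_tw c⟩
    · have := e i
      simp only [Pi.sub_apply]; omega
    · have := congrFun a p
      simp [tw, hp] at this
  · refine ⟨tw c + Pi.single p (-4), (sub_mem_cancel hx).1 (h.hF _ (fun i => ?_) ?_), fun a => ?_, ?_⟩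
    · have := e i
      simp only [Pi.sub_apply, Pi.add_apply, Pi.single_apply]; split_ifs <;> omega
    · rw [sum_sub'] at k d ⊢
      rw [sum_add, sum_single]; omega
    · have := congrFun a p
      simp [tw, hp] at this
    · rw [sqNorm_add, sqNorm_tw, sqNorm_single, dot_single]; simp [tw, hp]

theorem pack {C : Set (Finset GolayPt)} (hx : ∀ a ∈ C, ∀ b ∈ C, a ∆ b ∈ C) (hm : ∀ a ∈ C, a ≠ ∅ → 8 ≤ a.card)
    (O : Finset (Finset GolayPt)) (hO : ∀ o ∈ O, o ∈ C ∧ o.card = 8) : O.card ≤ 759 := by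
  have a : (O.biUnion (powersetCard 5)).card ≤ (powersetCard 5 (univ : Finset GolayPt)).card :=
    card_le_card fun s hs => by
      obtain ⟨o, -, h⟩ := mem_biUnion.1 hs
      exact mem_powersetCard.2 ⟨subset_univ _, (mem_powersetCard.1 h).2⟩
  rw [card_biUnion, sum_congr rfl fun o ho => (card_powersetCard 5 o).trans (by rw [(hO o ho).2]), sum_const,
    card_powersetCard, card_univ, card_golayPt, show Nat.choose 24 5 = 42504 by decide +kernel,
    show Nat.choose 8 5 = 56 by decide, smul_eq_mul] at a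
  · omega
  intro o ho o' ho' n
  refine disjoint_left.2 fun s h h' => n ?_
  have b := card_le_card (subset_inter (mem_powersetCard.1 h).1 (mem_powersetCard.1 h').1)
  have c := card_symmDiff o o'
  rw [(mem_powersetCard.1 h).2] at b
  rw [(hO o ho).2, (hO o' ho').2] at c
  by_contra n
  have := hm _ (hx _ (hO o ho).1 _ (hO o' ho').1) fun e => n (symmDiff_eq_bot.1 e)
  omega

theorem sum_le_one {f : GolayPt → ℤ} (h : ∀ i, 0 ≤ f i) {i j : GolayPt} (n : i ≠ j) : f i + f j ≤ ∑ k, f k := by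
  rw [← sum_pair n]; exact sum_le_sum_of_subset_of_nonneg (subset_univ _) fun k _ _ => h k

theorem odd_shape {x : V} (h : ∀ i, x i % 2 = 1) (hn : sqNorm x = 32) :
    ∃ p, (x p = 3 ∨ x p = -3) ∧ ∀ i, i ≠ p → x i = 1 ∨ x i = -1 := by
  have a : ∑ i, (x i ^ 2 - 1) = 8 := by
    simp only [sum_sub_distrib, sum_const, card_univ, card_golayPt, nsmul_eq_mul]
    change sqNorm x - _ = _; omega
  have b : ∀ i, (x i = 1 ∨ x i = -1) ∨ 8 ≤ x i ^ 2 - 1 := fun i => by
    have := h i
    rcases (by omega : (x i = 1 ∨ x i = -1) ∨ x i ≤ -3 ∨ 3 ≤ x i) with e | e | e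
    exacts [Or.inl e, Or.inr (by nlinarith), Or.inr (by nlinarith)]
  have c : ∀ i, 0 ≤ x i ^ 2 - 1 := fun i => by rcases b i with (e | e) | e <;> [simp [e]; simp [e]; omega]
  obtain ⟨p, -, hp⟩ := exists_ne_zero_of_sum_ne_zero (a ▸ (by decide) : ∑ i, (x i ^ 2 - 1) ≠ 0)
  have d : 8 ≤ x p ^ 2 - 1 := (b p).resolve_left (by rintro (e | e) <;> simp [e] at hp)
  refine ⟨p, ?_, fun i hi => (b i).resolve_right fun e => ?_⟩
  · have := single_le_sum (f := fun i => x i ^ 2 - 1) (fun i _ => c i) (mem_univ p)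
    have e : (x p - 3) * (x p + 3) = 0 := by linarith
    rcases mul_eq_zero.1 e with e | e <;> omega
  · have := sum_le_one c hi
    omega

theorem even_shape {x : V} {c : Finset GolayPt} (h : ∀ i, x i % 4 = tw c i) (hn : sqNorm x = 32) (hc : 8 ≤ c.card) :
    c.card = 8 ∧ ∀ i, if i ∈ c then x i = 2 ∨ x i = -2 else x i = 0 := by
  have a : ∀ i ∈ univ, 0 ≤ x i ^ 2 - 2 * tw c i := fun i _ => by
    have := h i
    unfold tw at *
    split_ifs at this ⊢
    · rcases (by omega : x i ≤ -2 ∨ 2 ≤ x i) with e | e <;> nlinarith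
    · simpa using sq_nonneg (x i)
  have b : ∑ i, (x i ^ 2 - 2 * tw c i) = 32 - 4 * (c.card : ℤ) := by
    rw [sum_sub_distrib, ← mul_sum, sum_tw, ← hn, sqNorm]; ring
  have d := sum_nonneg a
  have e : c.card = 8 := by omega
  refine ⟨e, fun i => ?_⟩
  have := (sum_eq_zero_iff_of_nonneg a).1 (by rw [b, e]; rfl) i (mem_univ i)
  unfold tw at this
  split_ifs at this ⊢
  · have e : (x i - 2) * (x i + 2) = 0 := by linarith
    rcases mul_eq_zero.1 e with e | e <;> omega
  · simpa using this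

theorem four_sum {x : V} (h : ∀ i, x i % 4 = 0) : (32 : ℤ) ∣ sqNorm x - 4 * ∑ i, x i := by
  have q : (32 : ℤ) ∣ ∑ i, (x i ^ 2 - 4 * x i) := Finset.dvd_sum fun i _ => by
    have a := h i
    obtain ⟨k, hk⟩ : ∃ k, x i = 4 * k := ⟨x i / 4, by omega⟩
    obtain ⟨l, hl⟩ := Int.even_mul_pred_self k
    exact ⟨l, by rw [hk]; linear_combination 16 * hl⟩
  rwa [sum_sub_distrib, ← mul_sum] at q

theorem count_four : {x : V | x ∈ leechLattice ∧ sqNorm x = 32 ∧ ∀ i, x i % 4 = 0}.ncard = 1104 :=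
  (count_all (fun t => t % 4 = 0) 32 (by decide)).trans (by decide +kernel)

theorem Pre.big {M : AddSubgroup V} (h : Pre M) (hmin : ∀ x ∈ M, x ≠ 0 → 32 ≤ sqNorm x)
    (hc : {x | x ∈ M ∧ sqNorm x = 32}.ncard = 196560) : Gol (codeOf M) ∧ ∃ u ∈ M, ∀ i, u i % 2 = 1 := by
  classical
  have hm : ∀ a ∈ codeOf M, a ≠ ∅ → 8 ≤ a.card := fun a ha n => by
    obtain ⟨y, h1, h2, h3⟩ := h.code_norm ha n
    have := hmin y h1 h2; omega
  have h4 : ∀ a ∈ codeOf M, 4 ∣ a.card := fun a ha => by
    by_cases n : a = ∅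
    · simp [n]
    obtain ⟨y, h1, h2, h3⟩ := h.code_norm ha n
    have := h.h16 y h1; omega
  have fin : {x | x ∈ M ∧ sqNorm x = 32}.Finite := Set.finite_of_ncard_ne_zero (by rw [hc]; decide)
  rw [Set.ncard_eq_toFinset_card _ fin] at hc
  obtain ⟨S, hS, hc⟩ : ∃ S : Finset V, (∀ x, x ∈ S ↔ x ∈ M ∧ sqNorm x = 32) ∧ S.card = 196560 :=
    ⟨_, fun x => fin.mem_toFinset, hc⟩
  have e1 := card_filter_add_card_filter_not (s := S) fun x => x none % 2 = 0
  have e2 := card_filter_add_card_filter_not (s := S.filter fun x => x none % 2 = 0) fun x => ∀ i, x i % 4 = 0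
  have b0 : ((S.filter fun x => x none % 2 = 0).filter fun x => ∀ i, x i % 4 = 0).card ≤ 1104 := by
    rw [← count_four, ← Set.ncard_coe_finset]
    refine Set.ncard_le_ncard (fun x hx => ?_) (fin32.subset fun x hx => ⟨hx.1, hx.2.1⟩)
    simp only [coe_filter, mem_filter, hS, Set.mem_setOf_eq] at hx
    have := four_sum hx.2
    exact ⟨(⟨empty_mem_gC, fun i => by simpa [tw] using hx.2 i, by omega⟩ : LS x 0 ∅).lat, hx.1.1.2, hx.2⟩
  have b2 : ((S.filter fun x => x none % 2 = 0).filter fun x => ¬ ∀ i, x i % 4 = 0).card ≤ 128 * 759 := by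
    have k : ∀ x ∈ (S.filter fun x => x none % 2 = 0).filter fun x => ¬ ∀ i, x i % 4 = 0, x ∈ M ∧
        (univ.filter fun i => x i % 4 = 2) ∈ codeOf M ∧ (univ.filter fun i => x i % 4 = 2).card = 8 ∧
        ∀ i, if i ∈ (univ.filter fun i => x i % 4 = 2) then x i = 2 ∨ x i = -2 else x i = 0 := fun x hx => by
      simp only [mem_filter, hS, not_forall] at hx
      obtain ⟨⟨⟨h1, h2⟩, h3⟩, j, hj⟩ := hx
      have p : ∀ i, x i % 2 = 0 := fun i => (h.par h1 i none).trans h3
      refine ⟨h1, ev_code h1 p, even_shape (fun i => ?_) h2 (hm _ (ev_code h1 p) (ne_empty_of_mem (a := j) ?_))⟩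
      · have := p i
        simp only [tw, mem_filter, mem_univ, true_and]; split_ifs <;> omega
      · have := p j
        simp only [mem_filter, mem_univ, true_and]; omega
    refine (card_le_mul_card_image (f := fun x : V => univ.filter fun i => x i % 4 = 2) _ 128 fun o ho => ?_).trans
      (Nat.mul_le_mul_left _ (pack (code_xor M) hm _ fun o ho => ?_))
    · obtain ⟨x₀, hx₀, e₀⟩ := mem_image.1 ho
      have c8 : o.card = 8 := e₀ ▸ (k x₀ hx₀).2.2.1
      obtain ⟨p, hp⟩ : o.Nonempty := card_pos.1 (by omega)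
      rw [show 128 = (o.erase p).powerset.card by rw [card_powerset, card_erase_of_mem hp, c8]; rfl]
      refine card_le_card_of_injOn (fun x => (o.erase p).filter fun i => x i = 2)
        (fun x _ => mem_coe.2 (mem_powerset.2 (filter_subset _ _))) fun x hx y hy e => ?_
      obtain ⟨hx, ex⟩ := mem_filter.1 (mem_coe.1 hx)
      obtain ⟨hy, ey⟩ := mem_filter.1 (mem_coe.1 hy)
      obtain ⟨x1, -, -, x2⟩ := k x hx
      obtain ⟨y1, -, -, y2⟩ := k y hy
      simp only [ex] at x2
      simp only [ey] at y2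
      have q : x - y = Pi.single p (x p - y p) := funext fun i => by
        by_cases n : i = p
        · rw [n, Pi.single_eq_same]; rfl
        have a := x2 i
        have b := y2 i
        have c := Finset.ext_iff.1 e i
        simp only [mem_filter, mem_erase, ne_eq, n, not_false_iff, true_and] at c
        rw [Pi.single_eq_of_ne n, Pi.sub_apply]
        split_ifs at a b with r
        · simp only [r, true_and] at c; omega
        · omega
      by_contra n
      have := hmin _ (sub_mem x1 y1) (sub_ne_zero.2 n)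
      have a := x2 p
      have b := y2 p
      rw [q, sqNorm_single] at this
      rw [if_pos hp] at a b
      rcases a with a | a <;> rcases b with b | b <;> rw [a, b] at this <;> omega
    · obtain ⟨x, hx, rfl⟩ := mem_image.1 ho
      exact ⟨(k x hx).2.1, (k x hx).2.2.1⟩
  obtain ⟨u, hu⟩ : (S.filter fun x => ¬ x none % 2 = 0).Nonempty := card_pos.1 (by omega)
  have k : ∀ x ∈ S.filter fun x => ¬ x none % 2 = 0, x ∈ M ∧ (∀ i, x i % 2 = 1) ∧
      ∃ p, (x p = 3 ∨ x p = -3) ∧ ∀ i, i ≠ p → x i = 1 ∨ x i = -1 := fun x hx => by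
    simp only [mem_filter, hS] at hx
    have p : ∀ i, x i % 2 = 1 := fun i => by have := h.par hx.1.1 i none; omega
    exact ⟨hx.1.1, p, odd_shape p hx.1.2⟩
  refine ⟨gol_of card_golayPt ⟨0, zero_mem _, fun i => by simp [tw]⟩ (code_xor M)
    (fun a ha b hb => even_of_de (h4 a ha) (h4 b hb) (h4 _ (code_xor M a ha b hb))) hm ?_, u, (k u hu).1, (k u hu).2.1⟩
  choose! k1 k2 f k3 k4 using k
  have b1 : (S.filter fun x => ¬ x none % 2 = 0).card ≤ (univ ×ˢ (codeOf M).toFinite.toFinset : Finset (GolayPt × _)).card := by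
    refine card_le_card_of_injOn (fun x => (f x, univ.filter fun i => (x - u) i % 4 = 2)) (fun x hx => ?_) fun x hx y hy e => ?_
    · refine mem_coe.2 (mem_product.2 ⟨mem_univ _, (Set.Finite.mem_toFinset _).2 (ev_code (sub_mem (k1 x hx) (k1 u hu)) fun i => ?_)⟩)
      have := k2 x hx i
      have := k2 u hu i
      simp only [Pi.sub_apply]; omega
    · obtain ⟨e1, e2⟩ := Prod.ext_iff.1 e
      funext i
      have c := Finset.ext_iff.1 e2 i
      simp only [mem_filter, mem_univ, true_and, Pi.sub_apply] at c e1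
      have := k2 u hu i
      by_cases n : i = f x
      · have a := k3 x hx
        have b := k3 y hy
        rw [← e1] at b
        rw [← n] at a b
        omega
      · have a := k4 x hx i n
        have b := k4 y hy i (e1 ▸ n)
        omega
  rw [card_product, card_univ, card_golayPt, ← Set.ncard_eq_toFinset_card] at b1
  omega

/-- a signed permutation as an additive automorphism -/
def spE (σ : Equiv.Perm GolayPt) (c : Finset GolayPt) : V ≃+ V where
  toFun := signedPerm σ c
  invFun v := fun i => if σ i ∈ c then -v (σ i) else v (σ i)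
  left_inv v := funext fun i => by simp only [signedPerm]; split_ifs <;> simp
  right_inv v := funext fun i => by simp only [signedPerm, Equiv.apply_symm_apply]; split_ifs <;> simp
  map_add' v w := funext fun i => by simp only [signedPerm, Pi.add_apply]; split_ifs <;> ring

theorem Pre.iso {M : AddSubgroup V} (h : Pre M) (hmin : ∀ x ∈ M, x ≠ 0 → 32 ≤ sqNorm x)
    (hc : {x | x ∈ M ∧ sqNorm x = 32}.ncard = 196560) : ∃ σ c, M.map (spE σ c) = leechLattice := by
  obtain ⟨hG, u, hu, h1⟩ := h.big hmin hc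
  obtain ⟨σ, he⟩ := hG.unique card_golayPt
  refine ⟨σ, univ.filter fun j => u (σ.symm j) % 4 = 3, Pre.eq_lat ⟨?_, fun x p q => ?_⟩ ?_ ⟨u, hu, rfl⟩ fun i => ?_⟩
  · rintro _ ⟨x, hx, rfl⟩
    exact (sqNorm_signedPerm _ _ _).symm ▸ h.h16 x hx
  · generalize (univ.filter fun j => u (σ.symm j) % 4 = 3) = d
    refine ⟨(spE σ d).symm x, h.hF _ (fun i => ?_) ?_, (spE σ d).apply_symm_apply x⟩
    · have := p (σ i)
      change (if σ i ∈ d then -x (σ i) else x (σ i)) % 4 = 0
      split_ifs <;> omega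
    · have a : (8 : ℤ) ∣ ∑ i, ((if σ i ∈ d then -x (σ i) else x (σ i)) - x (σ i)) := dvd_sum fun i _ => by
        have := p (σ i)
        split_ifs <;> omega
      rw [sum_sub_distrib, Equiv.sum_comp σ x] at a
      change (∑ i, if σ i ∈ d then -x (σ i) else x (σ i)) % 8 = 0
      omega
  · generalize (univ.filter fun j => u (σ.symm j) % 4 = 3) = d
    ext c
    have e : c = (c.image σ.symm).image σ := by rw [image_image]; simp
    have t : ∀ i, tw (c.image σ.symm) i = tw c (σ i) := fun i => by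
      have : i ∈ c.image σ.symm ↔ σ i ∈ c := by
        simp only [mem_image, Equiv.symm_apply_eq, exists_eq_right]
      simp only [tw, this]
    conv_rhs => rw [e, ← he]
    have s : ∀ (x : V) j, (spE σ d x j % 4 = tw c j ↔ x (σ.symm j) % 4 = tw c j) := fun x j => by
      change (if j ∈ d then -x (σ.symm j) else x (σ.symm j)) % 4 = _ ↔ _
      unfold tw
      split_ifs <;> omega
    constructor
    · rintro ⟨_, ⟨x, hx, rfl⟩, p⟩
      exact ⟨x, hx, fun i => by rw [t]; simpa using (s x _).1 (p (σ i))⟩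
    · rintro ⟨x, hx, p⟩
      exact ⟨_, ⟨x, hx, rfl⟩, fun j => (s x j).2 (by rw [p, t]; simp)⟩
  · have := h1 (σ.symm i)
    change (if i ∈ _ then -u (σ.symm i) else u (σ.symm i)) % 4 = 1
    simp only [mem_filter, mem_univ, true_and]
    split_ifs <;> omega

end Cfsg.Agent.Leech
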