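import Cfsg.Agent.Lib.Leech.Uniq

/-! Conway's characterisation of the rank 24 lattice: existence of a frame. -/

set_option autoImplicit false
set_option linter.unusedSectionVars false
set_option linter.unusedVariables false

namespace Cfsg.Agent.Leech

open Cfsg.Agent.Spor Finset Matrix

abbrev W : Type := Fin 24 → ℤ

def bf (B : Matrix (Fin 24) (Fin 24) ℤ) (x y : W) : ℤ := x ⬝ᵥ (B *ᵥ y)

structure EL (B : Matrix (Fin 24) (Fin 24) ℤ) : Prop where
  symm : B.IsSymm
  ev : ∀ x, (2 : ℤ) ∣ bf B x x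
  min : ∀ x, x ≠ 0 → 4 ≤ bf B x x

variable {B : Matrix (Fin 24) (Fin 24) ℤ}

theorem EL.comm (h : EL B) (x y : W) : bf B x y = bf B y x := by
  rw [bf, bf, dotProduct_mulVec, ← mulVec_transpose, h.symm.eq, dotProduct_comm]

theorem bf_add (x y z : W) : bf B x (y + z) = bf B x y + bf B x z := by simp only [bf, mulVec_add, dotProduct_add]

theorem bf_sub (x y z : W) : bf B x (y - z) = bf B x y - bf B x z := by simp only [bf, mulVec_sub, dotProduct_sub]

theorem add_bf (x y z : W) : bf B (x + y) z = bf B x z + bf B y z := by simp only [bf, add_dotProduct]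

theorem sub_bf (x y z : W) : bf B (x - y) z = bf B x z - bf B y z := by simp only [bf, sub_dotProduct]

theorem bf_neg (x : W) : bf B (-x) (-x) = bf B x x := by simp only [bf, mulVec_neg, dotProduct_neg, neg_dotProduct, neg_neg]

def c2 (x : W) : Fin 24 → ZMod 2 := fun i => x i

theorem c2_eq {x y : W} (h : c2 x = c2 y) : ∃ z, x - y = z + z := ⟨fun i => (x i - y i) / 2, funext fun i => by
  have := (ZMod.intCast_eq_intCast_iff_dvd_sub _ _ 2).1 (congrFun h i)
  simp only [Pi.sub_apply, Pi.add_apply]; omega⟩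

theorem c2_neg (x : W) : c2 (-x) = c2 x := funext fun i => by simp [c2]

theorem EL.short (h : EL B) {x y : W} (hx : bf B x x ≤ 8) (hy : bf B y y ≤ 8) (e : c2 x = c2 y) :
    x = y ∨ x = -y ∨ (bf B x x = 8 ∧ bf B y y = 8 ∧ bf B x y = 0) := by
  obtain ⟨z, e⟩ := c2_eq e
  refine or_iff_not_imp_left.2 fun n => or_iff_not_imp_left.2 fun n' => ?_
  have a := h.min z (fun e' => n (sub_eq_zero.1 (by rw [e, e', add_zero])))
  have e2 : x + y = (z + y) + (z + y) := by rw [add_add_add_comm, ← e]; abel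
  have b := h.min (z + y) (fun e' => n' (eq_neg_of_add_eq_zero_left (by rw [e2, e', add_zero])))
  have c : bf B (x - y) (x - y) = bf B x x + bf B y y - 2 * bf B x y := by
    rw [sub_bf, bf_sub, bf_sub, h.comm y x]; ring
  have d : bf B (x + y) (x + y) = bf B x x + bf B y y + 2 * bf B x y := by
    rw [add_bf, bf_add, bf_add, h.comm y x]; ring
  rw [e, add_bf, bf_add] at c
  rw [e2, add_bf, bf_add] at d
  omega

theorem EL.big (h : EL B) (h4 : {x | bf B x x = 4}.ncard = 196560) (h6 : {x | bf B x x = 6}.ncard = 16773120)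
    (h8 : {x | bf B x x = 8}.ncard = 398034000) :
    ∃ (C : Finset W) (b : Fin 24 → ZMod 2), (∀ x, x ∈ C ↔ bf B x x = 8 ∧ c2 x = b) ∧ 48 ≤ C.card := by
  classical
  have k : ∀ {N : ℤ} {n : ℕ}, n ≠ 0 → {x | bf B x x = N}.ncard = n → ∃ S : Finset W, (∀ x, x ∈ S ↔ bf B x x = N) ∧ S.card = n :=
    fun {N n} hn e => have f : {x | bf B x x = N}.Finite := Set.finite_of_ncard_ne_zero (e ▸ hn)
      ⟨f.toFinset, fun x => f.mem_toFinset, by rw [← e, Set.ncard_eq_toFinset_card _ f]⟩
  obtain ⟨S4, m4, c4⟩ := k (by decide) h4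
  obtain ⟨S6, m6, c6⟩ := k (by decide) h6
  obtain ⟨S8, m8, c8⟩ := k (by decide) h8
  have l : ∀ {S : Finset W} {N : ℤ}, (∀ x, x ∈ S ↔ bf B x x = N) → N < 8 → S.card ≤ 2 * (S.image c2).card := fun {S N} m hN => by
    refine card_le_mul_card_image _ _ fun b hb => ?_
    obtain ⟨x, hx, rfl⟩ := mem_image.1 hb
    refine (card_le_card (t := {x, -x}) fun y hy => ?_).trans card_le_two
    obtain ⟨h1, h2⟩ := mem_filter.1 hy
    rw [m] at hx h1
    rcases h.short (by omega) (by omega) h2 with rfl | rfl | ⟨h3, -⟩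
    · simp
    · simp
    · omega
  have d : ∀ {S T : Finset W} {M N : ℤ}, (∀ x, x ∈ S ↔ bf B x x = M) → (∀ x, x ∈ T ↔ bf B x x = N) → M < N → N ≤ 8 →
      Disjoint (S.image c2) (T.image c2) := fun {S T M N} m n a b => disjoint_left.2 fun z h1 h2 => by
    obtain ⟨x, hx, rfl⟩ := mem_image.1 h1
    obtain ⟨y, hy, e⟩ := mem_image.1 h2
    rw [m] at hx
    rw [n] at hy
    rcases h.short (by omega) (by omega) e with rfl | rfl | ⟨-, h3, -⟩
    · omega
    · rw [bf_neg] at hy; omega
    · omega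
  have m0 : ∀ x, x ∈ ({0} : Finset W) ↔ bf B x x = 0 := fun x => by
    refine ⟨fun e => by rw [mem_singleton.1 e]; simp [bf], fun e => mem_singleton.2 ?_⟩
    by_contra n
    have := h.min x n; omega
  have a := card_le_univ (image c2 {0} ∪ S4.image c2 ∪ S6.image c2 ∪ S8.image c2)
  rw [card_union_of_disjoint, card_union_of_disjoint, card_union_of_disjoint, image_singleton, card_singleton,
    Fintype.card_fun, ZMod.card, Fintype.card_fin] at a
  rotate_left
  · exact d m0 m4 (by decide) (by decide)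
  · exact disjoint_union_left.2 ⟨d m0 m6 (by decide) (by decide), d m4 m6 (by decide) (by decide)⟩
  · exact disjoint_union_left.2 ⟨disjoint_union_left.2 ⟨d m0 m8 (by decide) (by decide), d m4 m8 (by decide) (by decide)⟩,
      d m6 m8 (by decide) (by decide)⟩
  have b4 := l m4 (by decide)
  have b6 := l m6 (by decide)
  by_contra n
  have := card_le_mul_card_image (f := c2) S8 47 fun b _ => by
    by_contra n'
    exact n ⟨S8.filter fun x => c2 x = b, b, fun x => by rw [mem_filter, m8], by omega⟩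
  omega

theorem EL.frame (h : EL B) (h4 : {x | bf B x x = 4}.ncard = 196560) (h6 : {x | bf B x x = 6}.ncard = 16773120)
    (h8 : {x | bf B x x = 8}.ncard = 398034000) :
    ∃ v : Fin 24 → W, (∀ i j, bf B (v i) (v j) = if i = j then 8 else 0) ∧ ∀ i j, c2 (v i) = c2 (v j) := by
  classical
  obtain ⟨C, b, m, c⟩ := h.big h4 h6 h8
  have a : C ⊆ (C.filter fun x => 0 < toLex x) ∪ (C.filter fun x => 0 < toLex x).image Neg.neg := fun x hx => by
    rcases lt_trichotomy 0 (toLex x) with e | e | e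
    · exact mem_union_left _ (mem_filter.2 ⟨hx, e⟩)
    · have := ((m x).1 hx).1
      rw [show x = 0 from e.symm] at this
      simp [bf] at this
    · refine mem_union_right _ (mem_image.2 ⟨-x, mem_filter.2 ⟨(m _).2 ?_, neg_pos.2 e⟩, neg_neg x⟩)
      rw [bf_neg, c2_neg]; exact (m x).1 hx
  have a1 := (card_le_card a).trans (card_union_le _ _)
  have a2 := card_image_le (s := C.filter fun x => 0 < toLex x) (f := Neg.neg)
  obtain ⟨T, hT, e⟩ := exists_subset_card_eq (show 24 ≤ (C.filter fun x => 0 < toLex x).card by omega)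
  let v : Fin 24 → W := fun i => (T.equivFinOfCardEq e).symm i
  have hv : ∀ i, (bf B (v i) (v i) = 8 ∧ c2 (v i) = b) ∧ 0 < toLex (v i) := fun i => by
    have := mem_filter.1 (hT ((T.equivFinOfCardEq e).symm i).2)
    exact ⟨(m _).1 this.1, this.2⟩
  refine ⟨v, fun i j => ?_, fun i j => (hv i).1.2.trans (hv j).1.2.symm⟩
  split_ifs with n
  · rw [← n]; exact (hv i).1.1
  rcases h.short (hv i).1.1.le (hv j).1.1.le ((hv i).1.2.trans (hv j).1.2.symm) with e' | e' | e'
  · exact absurd ((T.equivFinOfCardEq e).symm.injective (Subtype.ext e')) n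
  · have p := (hv i).2
    rw [e'] at p
    exact absurd (neg_pos.1 p) (hv j).2.not_gt
  · exact e'.2.2

theorem comm8 {A C : Matrix (Fin 24) (Fin 24) ℤ} (h : A * C = (8 : ℤ) • 1) : C * A = (8 : ℤ) • 1 := by
  have d : A.det ≠ 0 := fun e => by
    have := congrArg det h
    rw [det_mul, e, det_smul, det_one, zero_mul] at this
    simp at this
  have : A.adjugate * (A * (C * A)) = A.adjugate * (A * (8 : ℤ) • 1) := by
    rw [← Matrix.mul_assoc A, h, Matrix.smul_mul, Matrix.mul_smul A, Matrix.one_mul, Matrix.mul_one]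
  rw [← Matrix.mul_assoc, ← Matrix.mul_assoc _ A, adjugate_mul, Matrix.smul_mul, Matrix.smul_mul, Matrix.one_mul,
    Matrix.one_mul] at this
  exact smul_right_injective _ d this

theorem EL.parseval (h : EL B) {v : Fin 24 → W} (hv : ∀ i j, bf B (v i) (v j) = if i = j then 8 else 0) (x : W) :
    ∑ i, bf B x (v i) ^ 2 = 8 * bf B x x := by
  have a : Matrix.of v * (B * (Matrix.of v)ᵀ) = (8 : ℤ) • 1 := by
    ext i j
    rw [Matrix.smul_apply, one_apply, smul_eq_mul, mul_ite, mul_one, mul_zero, ← hv]; rfl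
  have b := comm8 a
  have c : ∀ i, bf B x (v i) = ((Matrix.of v * B) *ᵥ x) i := fun i => by
    rw [h.comm, ← mulVec_mulVec]; rfl
  have d : ∀ i, bf B x (v i) = (x ᵥ* (B * (Matrix.of v)ᵀ)) i := fun i => by
    rw [← vecMul_vecMul, vecMul_transpose, bf, dotProduct_mulVec, dotProduct_comm]; rfl
  calc _ = (x ᵥ* (B * (Matrix.of v)ᵀ)) ⬝ᵥ ((Matrix.of v * B) *ᵥ x) :=
        sum_congr rfl fun i _ => by rw [← c, ← d, sq]
    _ = _ := by
      rw [← dotProduct_mulVec, mulVec_mulVec, ← Matrix.mul_assoc, b, Matrix.smul_mul, Matrix.one_mul, smul_mulVec,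
        dotProduct_smul]; rfl

theorem EL.iso (h : EL B) (h4 : {x | bf B x x = 4}.ncard = 196560) (h6 : {x | bf B x x = 6}.ncard = 16773120)
    (h8 : {x | bf B x x = 8}.ncard = 398034000) :
    ∃ f : W ≃+ leechLattice, ∀ x, sqNorm (f x : V) = 8 * bf B x x := by
  obtain ⟨v, hv, hc⟩ := h.frame h4 h6 h8
  let e : GolayPt ≃ Fin 24 := Fintype.equivFinOfCardEq card_golayPt
  let φ : W →+ V := AddMonoidHom.mk' (fun x i => bf B x (v (e i))) fun x y => funext fun i => add_bf _ _ _
  have n : ∀ x, sqNorm (φ x) = 8 * bf B x x := fun x => by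
    rw [← h.parseval hv, ← Equiv.sum_comp e]; rfl
  have inj : Function.Injective φ := (injective_iff_map_eq_zero φ).2 fun x e => by
    by_contra p
    have a := h.min x p
    have b := n x
    rw [e] at b
    simp only [sqNorm, Pi.zero_apply] at b
    simp at b; omega
  have s : ∀ i, φ (v (e i)) = Pi.single i 8 := fun i => funext fun j => by
    change bf B _ _ = _
    rw [hv, Pi.single_apply]; simp only [EmbeddingLike.apply_eq_iff_eq, eq_comm]
  have t : ∀ i j, (Pi.single i 4 - Pi.single j 4 : V) ∈ φ.range := fun i j => by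
    obtain ⟨z, hz⟩ := c2_eq (hc (e i) (e j))
    refine ⟨z, funext fun k => ?_⟩
    have := congrFun (congrArg φ hz) k
    rw [map_sub, s, s, map_add] at this
    simp only [Pi.sub_apply, Pi.add_apply, Pi.single_apply] at this ⊢
    split_ifs at this ⊢ <;> omega
  have P : Pre φ.range := by
    refine ⟨?_, fun x => four_mem _ fun i j _ => ⟨?_, t i j⟩⟩
    · rintro _ ⟨x, rfl⟩
      have := h.ev x
      rw [n]; omega
    · have := add_mem (t i j) (⟨_, s j⟩ : Pi.single j 8 ∈ φ.range)
      rwa [show (Pi.single j 8 : V) = Pi.single j 4 + Pi.single j 4 by rw [← Pi.single_add]; rfl, ← add_assoc,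
        sub_add_cancel] at this
  obtain ⟨σ, c, k⟩ := P.iso (by
    rintro _ ⟨x, rfl⟩ p
    have := h.min x fun e => p (by rw [e, map_zero])
    rw [n]; omega) (by
    rw [← h4, ← Set.ncard_image_of_injective _ inj]
    congr 1
    ext y
    constructor
    · rintro ⟨⟨x, rfl⟩, p⟩
      exact ⟨x, by rw [n] at p; change bf B x x = 4; omega, rfl⟩
    · rintro ⟨x, p, rfl⟩
      exact ⟨⟨x, rfl⟩, by rw [n, p]; rfl⟩)
  refine ⟨(AddMonoidHom.ofInjective inj).trans (((spE σ c).addSubgroupMap _).trans (AddEquiv.addSubgroupCongr k)), fun x => ?_⟩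
  rw [← n]
  exact sqNorm_signedPerm σ c (φ x)

end Cfsg.Agent.Leech
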